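/-
The 3-local characterisation of the Harada–Norton group (helper35): definitions and the interfaces between the parts.
-/
import Cfsg.Agent.Ast.Defs2
import Cfsg.Agent.Spor.HSB
import Cfsg.Prelude.Def_Spor_HN

set_option autoImplicit false
set_option synthInstance.maxSize 4096

namespace CL.HN3

open Subgroup Cfsg CL.Grp CL.McL3 CL.McL3.C27 CL.S9R CL.Ast Equiv

universe u

variable {G : Type*} [Group G]

/-! ### `SL(2, 5)` -/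

abbrev L5 := Matrix.SpecialLinearGroup (Fin 2) (ZMod 5)
def s0 : L5 := ⟨!![0, 4; 1, 4], by decide⟩
def k0 : L5 := ⟨!![0, 2; 2, 0], by decide⟩
def a0 : L5 := ⟨!![1, 1; 3, 4], by decide⟩
def a1 : L5 := s0 * a0 * s0⁻¹

/-! ### Coordinates on `J = 3 ^ 4` -/

def zp : V := ![0, 1, 1, 2]
def yp : V := ![0, 1, 1, 0]
def uw : V := ![2, 1, 2, 0]
def tH (v : V) : V := ![-v 0, v 2, v 1, v 3]
def kM (v : V) : V := ![v 1 - v 2, v 0 + v 3, v 3 - v 0, -v 1 - v 2]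
def wM (v : V) : V := ![-v 0, -v 2, -v 1, v 3]
def d1M (v : V) : V := ![-v 0, -v 1, v 2, v 3]
def d2M (v : V) : V := ![-v 0, v 1, -v 2, v 3]
def d3M (v : V) : V := ![-v 0, v 1, v 2, -v 3]
/-- `e0 ↦ e2 ↦ e3 ↦ e0` -/
def q1M (v : V) : V := ![v 3, v 1, v 0, v 2]

/-- The hypotheses of the theorem. -/
structure Hyp (z : G) (Q : Subgroup G) (θ : L5 →* G) : Prop extends Ex z (θ (-1)) Q where
  c3 : ¬ 3 ^ 7 ∣ Nat.card G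
  θinj : Function.Injective θ
  θz : ∀ b, θ b * z = z * θ b
  inv : ∀ a ∈ Q, θ (-1) * a * (θ (-1))⁻¹ * a ∈ zpowers z
  dec : ∀ g, g * z = z * g → ∃ a ∈ Q, ∃ b, g = a * θ b
  ex : ∃ g, g * z * g⁻¹ ∈ Q ∧ g * z * g⁻¹ ∉ zpowers z

/-- The configuration attached to a conjugate `u = g z g⁻¹` of `z` in `Q`. -/
structure Rel (z : G) (Q : Subgroup G) (θ : L5 →* G) (g u p : G) : Prop extends Hyp z Q θ where
  gz : g * z * g⁻¹ = u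
  uQ : u ∈ Q
  uZ : u ∉ zpowers z
  tu : θ (-1) * u * (θ (-1))⁻¹ = u⁻¹
  su : θ s0 * u = u * θ s0
  uu : u * (θ k0 * u * (θ k0)⁻¹) = θ k0 * u * (θ k0)⁻¹ * u
  pQ : p ∈ Q
  tp : θ (-1) * p * (θ (-1))⁻¹ = p⁻¹
  ps : p * θ s0 * p⁻¹ = θ s0 * u⁻¹
  pu : p * u = u * p
  pu' : p * (θ k0 * u * (θ k0)⁻¹) * p⁻¹ = θ k0 * u * (θ k0)⁻¹ * z
  zY : g⁻¹ * z * g ∈ Q
  sY : g⁻¹ * θ s0 * g ∈ Q
  pY : g⁻¹ * p * g ∈ Q
  ind : θ k0 * u * (θ k0)⁻¹ ∉ zpowers z ⊔ zpowers u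
  genQ : ∀ K : Subgroup G, z ∈ K → u ∈ K → θ k0 * u * (θ k0)⁻¹ ∈ K → p ∈ K → θ k0 * p * (θ k0)⁻¹ ∈ K → Q ≤ K
  cy : ∀ v ∈ Q, v ∉ zpowers z → θ s0 * v = v * θ s0 → ∀ h, h * z = z * h → h * v = v * h → h ∈ Q ⊔ zpowers (θ s0)
  cj : ∀ h v, h * z * h⁻¹ = v → v ∈ Q → v ∉ zpowers z → θ (-1) * v * (θ (-1))⁻¹ = v⁻¹ → θ s0 * v = v * θ s0 →
    ∃ p ∈ Q, p * θ s0 * p⁻¹ = θ s0 * v⁻¹ ∧ p * v = v * p

/-- The Sylow 3-subgroup in coordinates. -/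
structure C0 (ι : V → G) (J S : Subgroup G) (q n : G) : Prop extends Emb ι J where
  cJ : ∀ g, Lin ι g id → g ∈ J
  lq : Lin ι q qM
  ln : Lin ι n nM
  q3 : q ^ 3 = 1
  n3 : n ^ 3 = 1
  syl : IsSylowIn 3 S ⊤
  JS : J ≤ S
  nS : n ∈ S
  qS : q ∈ S
  memS : ∀ g ∈ S, ∃ j ∈ J, ∃ a b : ℕ, g = j * n ^ a * q ^ b

/-- The facts on `θ` in coordinates. -/
structure Th (ι : V → G) (J : Subgroup G) (θ : L5 →* G) : Prop extends Emb ι J where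
  cJ : ∀ g, Lin ι g id → g ∈ J
  θinj : Function.Injective θ
  lt : Lin ι (θ (-1)) tH
  lk : Lin ι (θ k0) kM
  θs : θ s0 = ι zp
  θz : ∀ b, θ b * ι zv = ι zv * θ b
  czt : ∀ g, g * ι zv = ι zv * g → g * θ (-1) = θ (-1) * g → ∃ (i : ℕ) (b : L5), g = ι zv ^ i * θ b
  cze : ∀ g, g * ι zv = ι zv * g → g * ι (e4 0) * g⁻¹ ∈ zpowers (ι (e4 0)) → g ∈ normalizer (J : Set G)
  nc : ¬ IsConj (ι zv) (ι (e4 0))

structure Pre (ι : V → G) (J S : Subgroup G) (θ : L5 →* G) (q n x : G) : Prop extends C0 ι J S q n, Th ι J θ where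
  cy : ∀ g, g * ι zv = ι zv * g → g * ι yv = ι yv * g → g ∈ S
  nfz : ∀ g ∈ normalizer (J : Set G), g * ι zv = ι zv * g → ∃ s ∈ S, ∃ i : ℕ, g = s * θ k0 ^ i
  xN : x ∈ normalizer (J : Set G)
  xy : x * ι yv = ι yv * x
  xz : x * ι zv * x⁻¹ = ι (zv + yv)
  xs : x * ι (e4 3) * x⁻¹ * (ι (e4 3))⁻¹ ∈ zpowers (ι yv)
  xw : x * (n * q) * x⁻¹ * (n * q)⁻¹ ∈ J
  sg : ∀ K : Subgroup G, (Nat.card K).Coprime 3 → J ≤ normalizer (K : Set G) → K ≤ centralizer {ι zv} → K = ⊥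

/-- The structure of `N(J)`. -/
structure GF0 (ι : V → G) (J : Subgroup G) (θ : L5 →* G) : Prop extends Th ι J θ where
  ncs : ∀ v w, IsConj (ι v) (ι w) → (qf v = 0 ↔ qf w = 0)
  mon4 : ∀ g ∈ normalizer (J : Set G), g * ι (e4 0) * g⁻¹ ∈ zpowers (ι (e4 0)) → ∃ ε a, Lin ι g (ext ε a)
  nref : ∀ g, ¬ Lin ι g tM
  rq : ∃ g, Lin ι g qM
  rq1 : ∃ g, Lin ι g q1M
  rw : ∃ g, Lin ι g wM
  rd1 : ∃ g, Lin ι g d1M
  rd2 : ∃ g, Lin ι g d2M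
  rd3 : ∃ g, Lin ι g d3M
  sig : ∀ K : Subgroup G, (Nat.card K).Coprime 3 → J ≤ normalizer (K : Set G) → K = ⊥
  c128 : 128 ∣ Nat.card G

structure GF (ι : V → G) (J : Subgroup G) (θ : L5 →* G) (i w : G) : Prop extends GF0 ι J θ where
  i2 : i * i = 1
  li : Lin ι i fun v => -v
  ik : i * θ k0 = θ k0 * i
  lw : Lin ι w wM
  iw : i * w = w * i
  kp : ∀ b, w * θ k0 * w⁻¹ * θ b = θ b * (w * θ k0 * w⁻¹)

/-- The centralizer of the quaternion group when `C(e0) ≤ N(J)`. -/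
def CQ (ι : V → G) (θ : L5 →* G) (w : G) : Prop :=
  (∀ g, g * θ a0 = θ a0 * g → g * θ a1 = θ a1 * g → ∃ b, g = w * θ b * w⁻¹) ∧
    ((∀ g, g * θ a0 = θ a0 * g → g * θ a1 = θ a1 * g → g * ι zv * g⁻¹ ∈ zpowers (ι zv)) ∨
      ∀ b, w * θ b * w⁻¹ * θ a0 = θ a0 * (w * θ b * w⁻¹))

/-- the 3-cycle `a ↦ b ↦ c ↦ a` -/
def cy3 {n : ℕ} (a b c : Fin n) : Perm (Fin n) := swap a b * swap b c

/-- The normalizer of `⟨e0⟩`. -/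
structure S9M (ι : V → G) (i : G) (π : G → Perm (Fin 9)) : Prop where
  mul : ∀ g ∈ normalizer (zpowers (ι (e4 0)) : Set G), ∀ h ∈ normalizer (zpowers (ι (e4 0)) : Set G),
    π (g * h) = π g * π h
  surj : ∀ p, ∃ g ∈ normalizer (zpowers (ι (e4 0)) : Set G), π g = p
  ker : ∀ g ∈ normalizer (zpowers (ι (e4 0)) : Set G), π g = 1 ↔ g ∈ zpowers (ι (e4 0))
  e1 : π (ι (e4 1)) = cy3 0 1 2
  e2 : π (ι (e4 2)) = cy3 3 4 5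
  e3 : π (ι (e4 3)) = cy3 6 7 8
  pi : π i = swap 0 1 * swap 3 4 * swap 6 7

/-! ### The alternating group of degree twelve -/

abbrev A12 := alternatingGroup (Fin 12)

/-- the product of two transpositions -/
def d2 (a b c d : Fin 12) (h : a ≠ b := by decide) (h' : c ≠ d := by decide) : A12 :=
  ⟨swap a b * swap c d, by simp [h, h']⟩

namespace P
def e0 : A12 := d2 0 1 1 2
def e1 : A12 := d2 3 4 4 5
def e2 : A12 := d2 6 7 7 8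
def y : A12 := d2 9 10 10 11
def y' : A12 := e1 * e2
def m : A12 := e1 * e2⁻¹
def z : A12 := y' * y
def z' : A12 := y' * y⁻¹
def i : A12 := d2 0 1 3 4 * d2 6 7 9 10
def t : A12 := d2 0 1 3 6 * d2 4 7 5 8
def w : A12 := d2 0 1 3 7 * d2 4 6 5 8
def σ : A12 := d2 0 1 9 10
def r : A12 := d2 2 11 9 10
def s : A12 := d2 2 9 10 11
def u1 : A12 := d2 3 6 4 7
def u2 : A12 := d2 4 7 5 8
def f1 : A12 := d2 0 3 1 6 * d2 4 5 7 8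
def f2 : A12 := d2 0 4 1 7 * d2 3 5 6 8
/-- `t ↦ f1 ↦ f2 ↦ t` -/
def g : A12 := d2 1 3 3 4 * d2 5 7 7 6
/-- the elements of the extraspecial group of order 32 -/
def ν (a : ℕ) : A12 := t ^ (a % 2) * u1 ^ (a / 2 % 2) * u2 ^ (a / 4 % 2) * f1 ^ (a / 8 % 2) * f2 ^ (a / 16 % 2)
/-- the elements of the regular elementary abelian group of order 8 -/
def vv (a : Fin 8) : A12 := t ^ (a.1 % 2) * f1 ^ (a.1 / 2 % 2) * f2 ^ (a.1 / 4)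
end P

/-- Centralizers in the alternating group. -/
structure YF : Prop where
  ct : ∀ p : A12, p * P.t = P.t * p → p ∈ closure {P.u1, P.u2, P.f1, P.f2, P.r, P.s, P.y, P.y', P.w, P.σ}
  cyt : ∀ p : A12, p * P.y = P.y * p → p * P.t = P.t * p →
    ∃ (a : Fin 32) (b c : Fin 3) (d : Fin 2), p = P.ν a * P.y ^ b.1 * P.y' ^ c.1 * P.w ^ d.1
  cut : ∀ p : A12, p * P.r = P.r * p → p * P.s = P.s * p → p * P.t = P.t * p →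
    ∃ (a : Fin 32) (b c : Fin 2) (d : Fin 3) (e : Fin 2), p = P.ν a * P.r ^ b.1 * P.s ^ c.1 * P.y' ^ d.1 * P.w ^ e.1
  cv : ∀ p : A12, p * P.t = P.t * p → p * P.f1 = P.f1 * p → p * P.f2 = P.f2 * p →
    ∃ (a : Fin 8) (b c : Fin 2) (d : Fin 3), p = P.vv a * P.r ^ b.1 * P.s ^ c.1 * P.y ^ d.1
  cd : ∀ p : A12, p * P.e1 = P.e1 * p → p * P.e2 = P.e2 * p → p * P.t = P.t * p → p * P.i = P.i * p → p = 1 ∨ p = P.σ ∨ p = P.σ * P.r ∨ p = P.r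
  ce : ∀ p : A12, p * P.u1 = P.u1 * p → p * P.u2 = P.u2 * p → p * P.y = P.y * p →
    (p * P.e0 * p⁻¹ = P.e0 ∨ p * P.e0 * p⁻¹ = P.e0⁻¹) ∧ p ^ 6 = 1
  s5 : ∃ φ : Perm (Fin 5) →* A12, (∀ b, φ b * P.r = P.r * φ b ∧ φ b * P.s = P.s * φ b) ∧
    (∀ b, Perm.sign b = 1 → φ b * P.e1 * (φ b)⁻¹ = P.e1) ∧ (∀ b, Perm.sign b = -1 → φ b * P.e1 * (φ b)⁻¹ = P.e1⁻¹) ∧
    (∀ b (c d e : ℕ), φ b = P.r ^ c * P.s ^ d * P.e1 ^ e → b = 1) ∧ φ (cy3 2 3 4) = P.e2 ∧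
    ∀ p : A12, p * P.r = P.r * p → p * P.s = P.s * p → p * P.e1 * p⁻¹ = P.e1 ∨ p * P.e1 * p⁻¹ = P.e1⁻¹ →
      ∃ (b : Perm (Fin 5)) (c d e : ℕ), p = φ b * P.e1 ^ e * (P.r ^ c * P.s ^ d)
  cu : 80640 ≤ Nat.card (centralizer ({P.r, P.s} : Set A12))
  gl : ∀ a b c : Fin 8, a ≠ 0 → P.vv b ≠ 1 → P.vv b ≠ P.vv a → P.vv c ≠ 1 → P.vv c ≠ P.vv a → P.vv c ≠ P.vv b → P.vv c ≠ P.vv a * P.vv b →
    ∃ p ∈ closure {P.g, P.y'}, p * P.t * p⁻¹ = P.vv a ∧ p * P.f1 * p⁻¹ = P.vv b ∧ p * P.f2 * p⁻¹ = P.vv c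

/-- The group `G` with its subgroup `A₁₂`. -/
structure GY (ψ : A12 →* G) (θ : L5 →* G) (k : G) : Prop where
  inj : Function.Injective ψ
  nY : ∀ g, g * ψ P.e0 * g⁻¹ ∈ zpowers (ψ P.e0) → g ∈ ψ.range
  θinj : Function.Injective θ
  θt : θ (-1) = ψ P.t
  θs : θ s0 = ψ P.z'
  θk : θ k0 = k
  θz : ∀ b, θ b * ψ P.z = ψ P.z * θ b
  czt : ∀ g, g * ψ P.z = ψ P.z * g → g * ψ P.t = ψ P.t * g → ∃ (i : ℕ) (b : L5), g = ψ P.z ^ i * θ b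
  ke : k * ψ P.e0 * k⁻¹ = ψ P.m
  km : k * ψ P.m * k⁻¹ = ψ P.e0⁻¹
  ky : k * ψ P.y * k⁻¹ = ψ P.y'
  ky' : k * ψ P.y' * k⁻¹ = ψ P.y
  kw : k * ψ P.w * k⁻¹ = ψ (P.σ * P.t)
  kσ : k * ψ P.σ * k⁻¹ = ψ (P.w * P.t)
  ki : k * ψ P.i * k⁻¹ = ψ P.i
  kp : ∀ b, ψ P.w * k * (ψ P.w)⁻¹ * θ b = θ b * (ψ P.w * k * (ψ P.w)⁻¹)
  nc : ¬ IsConj (ψ P.z) (ψ P.e0)

/-- General consequences. -/
structure G1 (ψ : A12 →* G) (θ : L5 →* G) (k : G) : Prop extends GY ψ θ k where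
  n1 : ∀ g, g * ψ P.e1 * g⁻¹ ∈ zpowers (ψ P.e1) → g ∈ ψ.range
  n3 : ∀ g, g * ψ P.y * g⁻¹ ∈ zpowers (ψ P.y) → g ∈ ψ.range
  syl : IsSylowIn 3 (zpowers (ψ P.y) ⊔ zpowers (ψ P.y')) (centralizer {ψ P.t})
  cX : ∀ g, g * ψ P.t = ψ P.t * g → g * ψ P.y = ψ P.y * g → g * ψ P.y' = ψ P.y' * g →
    ∃ a b c : ℕ, g = ψ P.y ^ a * ψ P.y' ^ b * ψ P.t ^ c
  nc2 : ¬ IsConj (ψ P.t) (ψ P.r)
  genK : ∀ B M : Subgroup G, (Nat.card B).Coprime 3 → ψ P.y ∈ normalizer (B : Set G) → ψ P.y' ∈ normalizer (B : Set G) →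
    B ≤ centralizer {ψ P.t} → (∀ a, ψ (P.ν a) ∈ B → ψ (P.ν a) ∈ M) → (∀ a, k * ψ (P.ν a) * k⁻¹ ∈ B → k * ψ (P.ν a) * k⁻¹ ∈ M) →
    (∀ b, b ^ 4 = 1 → θ b ∈ B → θ b ∈ M) →
    (∀ b, b ^ 4 = 1 → ψ P.w * θ b * (ψ P.w)⁻¹ ∈ B → ψ P.w * θ b * (ψ P.w)⁻¹ ∈ M) → B ≤ M

structure G2 (ψ : A12 →* G) (θ : L5 →* G) (k : G) : Prop extends G1 ψ θ k where
  cU : ∀ g, g * ψ P.r = ψ P.r * g → g * ψ P.s = ψ P.s * g → g ∈ ψ.range

structure G3 (ψ : A12 →* G) (θ : L5 →* G) (k : G) : Prop extends G2 ψ θ k where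
  ku1 : k * ψ P.u1 * k⁻¹ = ψ P.r
  ku2 : k * ψ P.u2 * k⁻¹ = ψ P.s
  cm : ∀ a b, ψ (P.ν a) * (k * ψ (P.ν b) * k⁻¹) = k * ψ (P.ν b) * k⁻¹ * ψ (P.ν a)

/-! ### The extraspecial group of order 512 -/

/-- the cocycle of the extraspecial group of order 32 -/
def be (a b : ℕ) : ℕ := (a / 8 * (b / 2) + a / 16 * (b / 2 + b / 4)) % 2
def mcN (a b : ℕ) : ℕ := a ^^^ b ^^^ (be (a % 32) (b % 32) + be (a / 32 * 2) (b / 32 * 2)) % 2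
abbrev Cd := Fin 512
/-- multiplication of codes -/
def mc (a b : Cd) : Cd := Fin.ofNat 512 (mcN a b)
/-- multiplication by `t` -/
def fl (a : Cd) : Cd := Fin.ofNat 512 (a.1 ^^^ 1)
/-- `a` and `b` do not commute -/
def cmt (a b : Cd) : Bool := mcN (a.1 / 2 * 2) (b.1 / 2 * 2) != mcN (b.1 / 2 * 2) (a.1 / 2 * 2)
def appN : List ℕ → ℕ → ℕ → ℕ
  | [], _, x => x
  | c :: l, a, x => appN l (a / 2) (if a % 2 = 1 then mcN x c else x)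
/-- the automorphism with the images `l` of the generators -/
def app (l : List ℕ) (a : Cd) : Cd := Fin.ofNat 512 (appN l (a.1 / 2) (a.1 % 2))
def pm (l l' : List ℕ) (h : (∀ a, app l' (app l a) = a) ∧ ∀ a, app l (app l' a) = a := by decide +kernel) : Perm Cd :=
  ⟨app l, app l', h.1, h.2⟩

theorem fl_fl : (∀ a, fl (fl a) = a) ∧ ∀ a : Cd, (fl a).1 / 2 = a.1 / 2 := by decide +kernel

/-- the inner automorphism -/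
def inn (a : Cd) : Perm Cd := Function.Involutive.toPerm (fun b => if cmt a b then fl b else b) fun b => by
  by_cases h : cmt a b
  · have : cmt a (fl b) := by rwa [cmt, fl_fl.2]
    simp [h, this, fl_fl.1]
  · simp [h]

namespace M
def y : Perm Cd := pm [2, 4, 8, 16, 64, 96, 256, 384] [2, 4, 8, 16, 96, 32, 384, 128]
def y' : Perm Cd := pm [4, 6, 16, 24, 32, 64, 128, 256] [6, 2, 24, 8, 32, 64, 128, 256]
def w : Perm Cd := pm [2, 6, 16, 8, 32, 64, 193, 353] [2, 6, 16, 8, 32, 64, 193, 353]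
def k : Perm Cd := pm [32, 64, 128, 256, 2, 4, 8, 16] [32, 64, 128, 256, 2, 4, 8, 16]
def a : Perm Cd := pm [355, 421, 8, 16, 40, 80, 144, 280] [355, 421, 8, 16, 40, 80, 144, 280]
def σ : Perm Cd := pm [2, 4, 13, 23, 32, 96, 256, 128] [2, 4, 13, 23, 32, 96, 256, 128]
def i : Perm Cd := pm [2, 6, 23, 13, 32, 96, 353, 193] [2, 6, 23, 13, 32, 96, 353, 193]
end M

/-- the 120 involutions conjugate to `r` (code 32) -/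
def isA (a : Cd) : Bool := Nat.testBit 0x42808420000e000e000e42808420000e8420000e4280000e395139513951000e (a.1 / 2)
/-- the 150 involutions conjugate to `f1` (code 8) -/
def isB (a : Cd) : Bool := mc a a == 0 && 2 ≤ a.1 && !isA a
/-- the codes of `V = ⟨t, f1, f2⟩` -/
def isV (a : Cd) : Bool := a.1 < 32 && a.1 / 2 % 4 == 0
def Γ : Subgroup (Perm Cd) := closure {M.y, M.y', M.w, M.k, M.a}

/-- The model of `C(t) / ⟨t⟩`; the codes of `t, f1, f2, r, s, ρ, ρ r t` are `1, 8, 16, 32, 64, 448, 481`. -/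
structure MF : Prop where
  card : Nat.card Γ = 1843200
  inn_mem : ∀ a, inn a ∈ Γ
  σ_mem : M.σ ∈ Γ
  i_mem : M.i ∈ Γ
  invA : ∀ g ∈ Γ, ∀ a, isA (g a) = isA a
  orbA : ∀ a, isA a → ∃ g ∈ Γ, g 32 = a
  orbB : ∀ a, isB a → ∃ g ∈ Γ, g 8 = a
  orb4 : ∀ a, mc a a = 1 → ∃ g ∈ Γ, g 448 = a
  pair : ∀ a, isA a → isA (mc 32 a) → ∃ g ∈ Γ, g 32 = 32 ∧ g 64 = a
  cfg : ∀ a b, isB a → isB b → isA (mc 32 a) → isA (mc 32 b) → isB (mc a b) → ∃ g ∈ Γ, isV (g a) ∧ isV (g b)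
  cls : ∀ g ∈ Γ, g * g = 1 → (∃ a, g = inn a) ∨ ∃ h ∈ Γ, h * g * h⁻¹ = M.k ∨ h * g * h⁻¹ = M.i ∨ h * g * h⁻¹ = M.σ
  syl : ∃ T ≤ Γ, Nat.card T = 8192 ∧ ∀ g ∈ T, g 8 = 8 ∨ g 8 = 9
  cl3 : ∀ g ∈ Γ, g ^ 3 = 1 → g = 1 ∨ ∃ h ∈ Γ, h * g * h⁻¹ = M.y ∨ h * g * h⁻¹ = M.y' * M.y
  cry : ∀ g ∈ Γ, (∀ a : Cd, a.1 < 32 → (g a).1 / 2 = a.1 / 2) → g ^ 6 = 1
  zr : ∀ g ∈ Γ, (∀ a, cmt a 32 = false → g a = a) → g = 1 ∨ g = inn 32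
  zero : ∃ Γ0 : Subgroup (Perm Cd), (∀ g, g ∈ Γ0 ↔ g ∈ Γ ∧ g 32 = 32 ∧ (g 448 = 448 ∨ g 448 = 481)) ∧ Nat.card Γ0 = 7680 ∧
    (∀ g ∈ Γ, g 32 = 32 → g ∈ Γ0 ∨ inn 64 * g ∈ Γ0) ∧ Γ0 ≤ closure ({d | d ∈ Γ0 ∧ d ^ 15 = 1} ∪ {inn 64 * M.σ}) ∧
    (∀ g ∈ Γ0, g * g = 1 → (∃ a, g = inn a) ∨ ∃ h ∈ Γ0, h * g * h⁻¹ = M.w) ∧
    (∃ π : Γ0 →* Perm (Fin 5), Function.Surjective π ∧ ∀ g, π g = 1 ↔ ∃ a, g.1 = inn a) ∧
    ∃ A : Subgroup (Perm Cd), (∀ g, g ∈ A ↔ g ∈ Γ0 ∧ g 8 = 8 ∧ g 16 = 16) ∧ Nat.card A = 64 ∧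
      (∀ g ∈ A, g ^ 4 = 1 ∨ g ^ 4 = inn 32) ∧ ∀ g ∈ A, ∀ h ∈ A, g * h * g⁻¹ * h⁻¹ = 1 ∨ g * h * g⁻¹ * h⁻¹ = inn 32

/-- the element with code `a` -/
def μ (ψ : A12 →* G) (k : G) (a : Cd) : G := ψ (P.ν (a.1 % 32)) * (k * ψ (P.ν (a.1 / 32 * 2)) * k⁻¹)

/-- Conjugation by `g` induces `γ` on the codes. -/
def Co (ψ : A12 →* G) (k g : G) (γ : Cd → Cd) : Prop := ∀ a, g * μ ψ k a * g⁻¹ = μ ψ k (γ a)

structure G4 (ψ : A12 →* G) (θ : L5 →* G) (k : G) (R : Subgroup G) : Prop extends G3 ψ θ k where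
  μmul : ∀ a b, μ ψ k (mc a b) = μ ψ k a * μ ψ k b
  μinj : Function.Injective (μ ψ k)
  memR : ∀ g, g ∈ R ↔ ∃ a, μ ψ k a = g
  cR : ∀ g, Co ψ k g id → g = 1 ∨ g = ψ P.t
  coy : Co ψ k (ψ P.y) M.y
  coy' : Co ψ k (ψ P.y') M.y'
  cow : Co ψ k (ψ P.w) M.w
  coσ : Co ψ k (ψ P.σ) M.σ
  coi : Co ψ k (ψ P.i) M.i
  cok : Co ψ k k M.k
  coμ : ∀ a, Co ψ k (μ ψ k a) (inn a)

structure G5 (ψ : A12 →* G) (θ : L5 →* G) (k : G) (R : Subgroup G) : Prop extends G4 ψ θ k R where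
  θN : ∀ b, θ b ∈ normalizer (R : Set G)
  nV : ∀ g, g * ψ P.t = ψ P.t * g → (∀ a, ∃ b, g * ψ (P.vv a) * g⁻¹ = ψ (P.vv b)) → g ∈ normalizer (R : Set G)

structure G6 (ψ : A12 →* G) (θ : L5 →* G) (k : G) (R : Subgroup G) : Prop extends G5 ψ θ k R where
  coa : ∃ a, Co ψ k a M.a

/-- The normalizer of `R`. -/
structure G7 (ψ : A12 →* G) (θ : L5 →* G) (k : G) (R : Subgroup G) (c : normalizer (R : Set G) →* Perm Cd) : Prop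
    extends G6 ψ θ k R where
  co : ∀ g : normalizer (R : Set G), Co ψ k g.1 (c g)
  rng : c.range = Γ
  clA : ∀ a, IsConj (ψ P.r) (μ ψ k a) ↔ isA a
  clB : ∀ a, isB a → IsConj (ψ P.t) (μ ψ k a)
  cls : ∀ g ∈ normalizer (R : Set G), g * g = 1 ∨ g * g = ψ P.t → g ∈ R ∨ ∃ n ∈ normalizer (R : Set G),
    ∃ x ∈ [k, k * ψ P.t, ψ P.i, ψ (P.i * P.t), ψ P.σ, ψ (P.σ * P.t)], n * g * n⁻¹ = x
  inR : ∀ g ∈ normalizer (R : Set G), IsConj (ψ P.r) g → IsConj (ψ P.r) (g * ψ P.t) → g ∈ R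
  odd : ¬ 2 ∣ (normalizer (R : Set G)).relIndex (centralizer {ψ P.t})

structure G8 (ψ : A12 →* G) (θ : L5 →* G) (k : G) (R : Subgroup G) (c : normalizer (R : Set G) →* Perm Cd) : Prop
    extends G7 ψ θ k R c where
  sc : ∀ x ∈ R, ∀ h, h * ψ P.t = ψ P.t * h → h * x * h⁻¹ ∈ normalizer (R : Set G) → h * x * h⁻¹ ∈ R

structure G9 (ψ : A12 →* G) (θ : L5 →* G) (k : G) (R : Subgroup G) (c : normalizer (R : Set G) →* Perm Cd) : Prop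
    extends G7 ψ θ k R c where
  all : ∀ g, g * ψ P.t = ψ P.t * g → g ∈ normalizer (R : Set G)

/-- The subgroup of index two of `C(r)`. -/
structure GS (ψ : A12 →* G) (θ : L5 →* G) (k : G) (R : Subgroup G) (c : normalizer (R : Set G) →* Perm Cd)
    (L : Subgroup G) : Prop extends G9 ψ θ k R c where
  le : L ≤ centralizer {ψ P.r}
  two : L.relIndex (centralizer {ψ P.r}) = 2
  memL : ∀ g, g * ψ P.r = ψ P.r * g → g * ψ P.t = ψ P.t * g →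
    (g ∈ L ↔ g * μ ψ k 448 * g⁻¹ = μ ψ k 448 ∨ g * μ ψ k 448 * g⁻¹ = μ ψ k 481)

/-! ### The parts -/

def A0Thm : Prop := ∀ {G : Type u} [Group G] [Finite G] (S : Sylow 3 G) (Z C Q : Subgroup G),
  Z = (S : Subgroup G) ⊓ centralizer ((S : Subgroup G) : Set G) → C = centralizer (Z : Set G) →
  Q = (pCore 3 C).map C.subtype → IsExtraspecial 3 Q → Nat.card Q = 3 ^ 5 → (∀ a ∈ Q, a ^ 3 = 1) →
  centralizer (Q : Set G) ≤ Q →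
  (∃ x : G, Z.map (MulAut.conj x).toMonoidHom ≤ Q ∧ Z.map (MulAut.conj x).toMonoidHom ≠ Z) →
  (C ⧸ pCore 3 C ≃* L5) → ∃ (z : G) (θ : L5 →* G), Hyp z Q θ

def A1Thm : Prop := ∀ {G : Type u} [Group G] [Finite G] {z : G} {Q : Subgroup G} {θ : L5 →* G}, Hyp z Q θ →
  ∃ g u p, Rel z Q θ g u p

def A2Thm : Prop := ∀ {G : Type u} [Group G] [Finite G] {z g u p : G} {Q : Subgroup G} {θ : L5 →* G}, Rel z Q θ g u p →
  ∃ ι J S q n x, Pre ι J S θ q n x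

def A3Thm : Prop := ∀ {G : Type u} [Group G] [Finite G] {ι : V → G} {J S : Subgroup G} {θ : L5 →* G} {q n x : G},
  Pre ι J S θ q n x → ∃ ι', GF0 ι' J θ

def A4Thm : Prop := ∀ {G : Type u} [Group G] [Finite G] {ι : V → G} {J : Subgroup G} {θ : L5 →* G},
  GF0 ι J θ → ∃ i w, GF ι J θ i w

def B1Thm : Prop := ∀ {G : Type u} [Group G] [Finite G] {ι : V → G} {J : Subgroup G} {θ : L5 →* G} {i w : G},
  GF ι J θ i w → centralizer {ι (e4 0)} ≤ normalizer (J : Set G) ∨ ∃ π, S9M ι i π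

def B2aThm : Prop := ∀ {G : Type u} [Group G] [Finite G] {ι : V → G} {J : Subgroup G} {θ : L5 →* G} {i w : G},
  GF ι J θ i w → centralizer {ι (e4 0)} ≤ normalizer (J : Set G) → CQ ι θ w

def B2bThm : Prop := ∀ {G : Type u} [Group G] [Finite G] {ι : V → G} {J : Subgroup G} {θ : L5 →* G} {i w : G},
  GF ι J θ i w → CQ ι θ w → False

def B3Thm : Prop := ∀ {G : Type u} [Group G] [Finite G] {ι : V → G} {J : Subgroup G} {θ : L5 →* G} {i w : G}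
  {π : G → Perm (Fin 9)}, GF ι J θ i w → S9M ι i π → ∃ ψ, GY ψ θ (θ k0)

def C0Thm : Prop := YF → ∀ {G : Type u} [Group G] [Finite G] {ψ : A12 →* G} {θ : L5 →* G} {k : G},
  GY ψ θ k → G1 ψ θ k

def C1Thm : Prop := YF → ∀ {G : Type u} [Group G] [Finite G] {ψ : A12 →* G} {θ : L5 →* G} {k : G},
  G1 ψ θ k → G2 ψ θ k

def C2Thm : Prop := YF → ∀ {G : Type u} [Group G] [Finite G] {ψ : A12 →* G} {θ : L5 →* G} {k : G},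
  G2 ψ θ k → G3 ψ θ k

def C3Thm : Prop := YF → ∀ {G : Type u} [Group G] [Finite G] {ψ : A12 →* G} {θ : L5 →* G} {k : G},
  G3 ψ θ k → ∃ R, G4 ψ θ k R

def C4Thm : Prop := YF → ∀ {G : Type u} [Group G] [Finite G] {ψ : A12 →* G} {θ : L5 →* G} {k : G} {R : Subgroup G},
  G4 ψ θ k R → G5 ψ θ k R

def C5Thm : Prop := ∀ {G : Type u} [Group G] [Finite G] {ψ : A12 →* G} {θ : L5 →* G} {k : G} {R : Subgroup G},
  G5 ψ θ k R → G6 ψ θ k R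

def C6Thm : Prop := YF → MF → ∀ {G : Type u} [Group G] [Finite G] {ψ : A12 →* G} {θ : L5 →* G} {k : G}
  {R : Subgroup G}, G6 ψ θ k R → ∃ c, G7 ψ θ k R c

def C7Thm : Prop := YF → MF → ∀ {G : Type u} [Group G] [Finite G] {ψ : A12 →* G} {θ : L5 →* G} {k : G}
  {R : Subgroup G} {c : normalizer (R : Set G) →* Perm Cd}, G7 ψ θ k R c → G8 ψ θ k R c

def C8Thm : Prop := MF → ∀ {G : Type u} [Group G] [Finite G] {ψ : A12 →* G} {θ : L5 →* G} {k : G}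
  {R : Subgroup G} {c : normalizer (R : Set G) →* Perm Cd}, G8 ψ θ k R c → G9 ψ θ k R c

def D1Thm : Prop := MF → ∀ {G : Type u} [Group G] [Finite G] {ψ : A12 →* G} {θ : L5 →* G} {k : G}
  {R : Subgroup G} {c : normalizer (R : Set G) →* Perm Cd}, G9 ψ θ k R c → ∃ L, GS ψ θ k R c L

def D2Thm : Prop := YF → MF → ∀ {G : Type u} [Group G] [Finite G] {ψ : A12 →* G} {θ : L5 →* G} {k : G}
  {R : Subgroup G} {c : normalizer (R : Set G) →* Perm Cd} {L : Subgroup G}, GS ψ θ k R c L →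
    ∀ {Γ' : Type u} [Group Γ'] (f : L →* Γ'), Function.Surjective f → (∀ g, f g = 1 ↔ g.1 = 1 ∨ g.1 = ψ P.r) →
      Spor.IsoHS Γ'

def D3Thm : Prop := MF → ∀ {G : Type u} [Group G] [Finite G] {ψ : A12 →* G} {θ : L5 →* G} {k : G}
  {R : Subgroup G} {c : normalizer (R : Set G) →* Perm Cd} {L : Subgroup G}, GS ψ θ k R c L →
    (∀ {Γ' : Type u} [Group Γ'] (f : L →* Γ'), Function.Surjective f → (∀ g, f g = 1 ↔ g.1 = 1 ∨ g.1 = ψ P.r) →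
      Spor.IsoHS Γ') → Spor.IsoHN G

end CL.HN3
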