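/-
The 3-local characterisation of the Harada–Norton group (helper35): elementary facts used by several parts.
-/
import Cfsg.Agent.Hn3.Defs

set_option autoImplicit false
set_option synthInstance.maxSize 4096

namespace CL.HN3

open Subgroup Cfsg CL.Grp CL.McL3 CL.McL3.C27 CL.S9R CL.Ast Equiv

variable {G : Type*} [Group G]

/-! ### `SL(2, 5)` -/

namespace S25

theorem rel : s0 ^ 3 = 1 ∧ s0 ≠ 1 ∧ k0 * k0 = -1 ∧ k0 * s0 * k0⁻¹ = s0⁻¹ ∧ a0 * a0 = -1 ∧ (a0 * s0) ^ 3 = 1 ∧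
    (a0 * s0 * k0) ^ 3 = 1 ∧ a1 * a1 = -1 ∧ a0 * a1 * a0⁻¹ = a1⁻¹ ∧ s0 * a1 * s0⁻¹ = (a0 * a1)⁻¹ ∧ (-1 : L5) ≠ 1 := by
  decide +kernel

theorem card : Nat.card L5 = 120 := by rw [Nat.card_eq_fintype_card]; decide +kernel

/-- the value of a word in three letters -/
def ev (a b c : L5) (w : List (Fin 3)) : L5 := (w.map ![a, b, c]).prod

theorem ev_mem {K : Subgroup L5} {a b c : L5} (ha : a ∈ K) (hb : b ∈ K) (hc : c ∈ K) (w : List (Fin 3)) :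
    ev a b c w ∈ K :=
  list_prod_mem fun x hx => by
    obtain ⟨i, -, rfl⟩ := List.mem_map.1 hx
    fin_cases i <;> assumption

theorem dc : ∀ b : L5, ∃ (i i' : Fin 3) (j j' : Fin 4), b = s0 ^ i.1 * k0 ^ j.1 ∨
    b = s0 ^ i.1 * k0 ^ j.1 * a0 * (s0 ^ i'.1 * k0 ^ j'.1) ∨
    b = s0 ^ i.1 * k0 ^ j.1 * (a0 * k0 * a0) * (s0 ^ i'.1 * k0 ^ j'.1) := by decide +kernel

/-- `a0, s0, k0` generate `L5` -/
theorem gen {K : Subgroup L5} (ha : a0 ∈ K) (hs : s0 ∈ K) (hk : k0 ∈ K) (b : L5) : b ∈ K := by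
  have d (i j : ℕ) : s0 ^ i * k0 ^ j ∈ K := mul_mem (pow_mem hs _) (pow_mem hk _)
  obtain ⟨i, i', j, j', rfl | rfl | rfl⟩ := dc b
  exacts [d _ _, mul_mem (mul_mem (d _ _) ha) (d _ _), mul_mem (mul_mem (d _ _) (mul_mem (mul_mem ha hk) ha)) (d _ _)]

theorem neg0 : ∀ b : L5, b = 1 ∨ b = s0 ∨ b = s0 * s0 ∨
    ∃ w ∈ [[0, 0], [0, 0, 0], [0, 1, 0, 1], [0, 0, 0, 0, 0], [0, 0, 1, 0, 1, 0, 0, 1, 0, 1], [0, 1, 1, 0, 1, 1], [0, 1, 0, 1, 0, 1], [0, 0, 1, 0, 0, 1]],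
      ev b s0 1 w = -1 := by decide +kernel

/-- a subgroup properly containing `⟨s0⟩` contains `-1` -/
theorem neg {K : Subgroup L5} (hs : s0 ∈ K) {b : L5} (hb : b ∈ K) : b ∈ zpowers s0 ∨ -1 ∈ K := by
  obtain rfl | rfl | rfl | ⟨w, -, e⟩ := neg0 b
  exacts [.inl (one_mem _), .inl (mem_zpowers _), .inl (mul_mem (mem_zpowers _) (mem_zpowers _)),
    .inr (e ▸ ev_mem hb hs (one_mem _) w)]

theorem max0 : ∀ b : L5, (∃ (i : Fin 3) (j : Fin 4), b = s0 ^ i.1 * k0 ^ j.1) ∨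
    ∃ w ∈ [[0, 2, 1, 2, 0, 1, 0], [2, 0, 0], [0, 0, 1, 0, 0, 2], [1, 2, 0, 2, 1, 0], [0, 0, 2, 0], [2, 0, 0, 1], [2, 1, 0, 0], [0, 1, 0], [2, 0, 1, 0, 2], [0, 1, 1, 0, 1, 0], [1, 0, 0, 2, 1], [1, 0, 2, 1], [2, 1, 0, 1, 1], [0, 0, 1, 1, 0, 1], [1, 2, 0, 0, 1], [0, 0, 1, 0, 2], [1, 2, 0, 2], [0], [1, 0, 1, 0, 0], [1, 2, 0, 1], [0, 1, 2, 2, 2], [0, 1, 0, 2], [2, 0, 2], [1, 1, 0, 1, 2], [0, 1, 0, 1, 2], [2, 0, 2, 2], [0, 2, 0, 0], [0, 1, 1], [2, 1, 0, 1, 0], [1, 0, 1, 0, 2], [0, 2, 0, 1, 2], [0, 1, 0, 0, 2], [0, 1, 0, 1, 0, 2], [0, 1, 1, 0, 1], [2, 1, 0, 2, 1], [0, 2, 0, 2, 0], [0, 0, 0, 2, 0], [0, 2, 1, 2, 2], [1, 0, 2, 0], [1, 2, 0, 1, 1], [1, 2, 0], [0, 0, 2, 1], [0, 2, 2, 2], [2, 0, 2, 1], [2, 0, 0, 2, 1], [1, 0, 0, 1, 2], [1, 1, 0, 0, 2], [1, 0], [0, 1, 2, 0], [2, 0, 1, 1], [0, 0, 1, 0], [0, 1, 0, 1, 2,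 0], [2, 0, 2, 0, 2], [1, 1, 0, 2, 0, 1], [1, 1, 0, 2], [2, 0, 2, 1, 2], [0, 0, 1, 1], [1, 0, 1, 2, 0, 1], [1, 2, 0, 2, 2], [0, 2, 1, 2, 0, 2], [0, 2, 1], [1, 0, 0, 2, 0], [0, 1, 0, 0], [0, 2, 1, 0, 2], [2, 1, 0], [2, 0, 2, 0, 0], [0, 2, 1, 0, 1], [2, 0, 1, 2, 0], [1, 0, 0, 1], [0, 1, 2], [1, 0, 1, 2, 0, 2], [0, 0, 0], [0, 2, 0, 1, 1], [2, 0, 1]],
      ev b s0 k0 w = a0 := by decide +kernel

/-- `⟨s0, k0⟩` is maximal -/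
theorem max {K : Subgroup L5} (hs : s0 ∈ K) (hk : k0 ∈ K) {b : L5} (hb : b ∈ K) :
    (∃ i j : ℕ, b = s0 ^ i * k0 ^ j) ∨ ∀ c, c ∈ K := by
  obtain ⟨i, j, e⟩ | ⟨w, -, e⟩ := max0 b
  exacts [.inl ⟨_, _, e⟩, .inr (gen (e ▸ ev_mem hb hs hk w) hs hk)]

theorem o3 : ∀ b : L5, b ^ 3 = 1 → b = 1 ∨ ∃ c, c * s0 * c⁻¹ = b := by decide +kernel

/-- the normalizer of `⟨s0⟩` -/
theorem ns : ∀ b : L5, b * s0 * b⁻¹ = s0 ∨ b * s0 * b⁻¹ = s0⁻¹ → ∃ (i : Fin 3) (j : Fin 4), b = s0 ^ i.1 * k0 ^ j.1 := by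
  decide +kernel

theorem cs : ∀ b : L5, b * s0 = s0 * b → ∃ i : Fin 3, b = s0 ^ i.1 ∨ b = -s0 ^ i.1 := by decide +kernel

theorem sq : ∀ b : L5, b * b = 1 → b = 1 ∨ b = -1 := by decide +kernel

theorem rig : ∀ b : L5, b * b = -1 → (b * s0) ^ 3 = 1 → (b * s0 * k0) ^ 3 = 1 → b = a0 := by decide +kernel

/-- the normalizer of the quaternion group `⟨a0, a1⟩` -/
theorem nq : ∀ b : L5, (∃ (i : Fin 4) (j : Fin 2), b * a0 * b⁻¹ = a0 ^ i.1 * a1 ^ j.1) →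
    (∃ (i : Fin 4) (j : Fin 2), b * a1 * b⁻¹ = a0 ^ i.1 * a1 ^ j.1) →
    ∃ (i : Fin 4) (j : Fin 2) (l : Fin 3), b = a0 ^ i.1 * a1 ^ j.1 * s0 ^ l.1 := by decide +kernel

theorem cq : ∀ b : L5, b * a0 = a0 * b → b * a1 = a1 * b → b = 1 ∨ b = -1 := by decide +kernel

theorem comm : ∀ b ∈ [a0, s0, k0], ∃ c d : L5, b = c * d * c⁻¹ * d⁻¹ := by
  intro b hb
  simp only [List.mem_cons, List.not_mem_nil, or_false] at hb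
  obtain rfl | rfl | rfl := hb
  · exact ⟨⟨!![1, 2; 2, 0], by decide⟩, ⟨!![0, 1; 4, 1], by decide⟩, by decide +kernel⟩
  · exact ⟨k0, ⟨!![0, 1; 4, 1], by decide⟩, by decide +kernel⟩
  · exact ⟨⟨!![0, 1; 4, 0], by decide⟩, ⟨!![1, 3; 4, 3], by decide⟩, by decide +kernel⟩

theorem perfect : commutator L5 = ⊤ := by
  have k (b) (hb : b ∈ [a0, s0, k0]) : b ∈ commutator L5 := by
    obtain ⟨c, d, rfl⟩ := comm b hb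
    exact commutator_mem_commutator (mem_top c) (mem_top d)
  exact eq_top_iff.2 fun b _ => gen (k _ (by simp)) (k _ (by simp)) (k _ (by simp)) b

/-- the element has order divisible by three -/
def T3 (b : L5) : Prop := b ^ 2 ≠ 1 ∧ b ^ 6 = 1

instance : DecidablePred T3 := fun _ => inferInstanceAs (Decidable (_ ∧ _))

theorem cop4 : ∀ b : L5, b ^ 4 = 1 ∨ T3 b ∨ T3 (b * (s0 * b * s0⁻¹)) ∨ T3 (b * b * (s0 * b * s0⁻¹)) := by decide +kernel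

theorem cop2 : ∀ b : L5, b = 1 ∨ b = -1 ∨ T3 (b * (s0 * b * s0⁻¹) * b * (s0⁻¹ * b * s0)) ∨ T3 (b * (s0 * b * s0⁻¹)) ∨
    T3 (s0 * b * s0⁻¹ * (k0 * b * k0⁻¹)) ∨ T3 (s0⁻¹ * b * s0 * (k0 * b * k0⁻¹)) ∨ T3 (b * (k0 * b * k0⁻¹)) := by
  decide +kernel

end S25

/-- an element `g` with `g ^ a ≠ 1` and `g ^ (3 a) = 1` lies in no `3'`-subgroup -/
theorem not_mem_cop [Finite G] {B : Subgroup G} (hB : (Nat.card B).Coprime 3) {g : G} {a : ℕ} (h1 : g ^ a ≠ 1)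
    (h3 : g ^ (a * 3) = 1) : g ∉ B := fun hg => h1 <| by
  have k : orderOf (g ^ a) ∣ Nat.gcd (Nat.card B) 3 :=
    Nat.dvd_gcd (orderOf_dvd_natCard B (pow_mem hg a)) (orderOf_dvd_of_pow_eq_one (by rw [← pow_mul, h3]))
  rwa [hB, Nat.dvd_one, orderOf_eq_one_iff] at k

/-! ### Conjugacy in `A12` -/

theorem cj_t_i : IsConj P.t P.i := isConj_iff.2 ⟨d2 4 6 5 9 * d2 8 10 10 11, by decide +kernel⟩
theorem cj_t_it : IsConj P.t (P.i * P.t) := isConj_iff.2 ⟨d2 0 9 9 2 * d2 1 10 6 7, by decide +kernel⟩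
theorem cj_r_σ : IsConj P.r P.σ := isConj_iff.2 ⟨d2 0 2 1 11, by decide +kernel⟩
theorem cj_t_σt : IsConj P.t (P.σ * P.t) := isConj_iff.2 ⟨d2 0 9 1 10, by decide +kernel⟩
theorem cj_t_w : IsConj P.t P.w := isConj_iff.2 ⟨d2 6 7 10 11, by decide +kernel⟩
theorem cj_t_wtr : IsConj P.t (P.w * P.t * P.r) := isConj_iff.2 ⟨d2 0 2 1 11 * d2 11 5 5 9 * d2 4 6 8 10, by decide +kernel⟩
theorem cj_r_wt : IsConj P.r (P.w * P.t) := isConj_iff.2 ⟨d2 2 3 4 11 * d2 6 9 7 10, by decide +kernel⟩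
theorem cj_r_s : IsConj P.r P.s := isConj_iff.2 ⟨d2 9 10 10 11, by decide +kernel⟩
theorem cj_r_rs : IsConj P.r (P.r * P.s) := isConj_iff.2 ⟨d2 9 11 11 10, by decide +kernel⟩
theorem cj_r_σr : IsConj P.r (P.σ * P.r) := isConj_iff.2 ⟨d2 0 9 1 10, by decide +kernel⟩
theorem cj_t_f1 : IsConj P.t P.f1 := isConj_iff.2 ⟨d2 1 3 5 7, by decide +kernel⟩
theorem cj_z_z' : IsConj P.z P.z' := isConj_iff.2 ⟨d2 1 2 10 11, by decide +kernel⟩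
theorem cj_e0_e1 : IsConj P.e0 P.e1 := isConj_iff.2 ⟨d2 0 3 1 4 * d2 2 5 10 11, by decide +kernel⟩
theorem cj_e0_e2 : IsConj P.e0 P.e2 := isConj_iff.2 ⟨d2 0 6 6 3 * d2 1 7 2 8, by decide +kernel⟩
theorem cj_e0_y : IsConj P.e0 P.y := isConj_iff.2 ⟨d2 0 9 9 3 * d2 1 10 2 11, by decide +kernel⟩
theorem cj_r_u1 : IsConj P.r P.u1 := isConj_iff.2 ⟨d2 2 3 4 9 * d2 6 11 7 10, by decide +kernel⟩
theorem cj_e0_inv : IsConj P.e0 P.e0⁻¹ := isConj_iff.2 ⟨d2 1 2 10 11, by decide +kernel⟩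
theorem cj_z_inv : IsConj P.z P.z⁻¹ := isConj_iff.2 ⟨d2 4 5 6 9 * d2 7 11 8 10, by decide +kernel⟩

/-! ### Codes -/

namespace Co

variable {ψ : A12 →* G} {k g h : G} {γ γ' : Cd → Cd}

theorem one (ψ : A12 →* G) (k : G) : Co ψ k 1 id := fun a => by simp

theorem mul (h1 : Co ψ k g γ) (h2 : Co ψ k h γ') : Co ψ k (g * h) fun a => γ (γ' a) := fun a => by
  rw [← h1, ← h2]; group

theorem congr (h1 : Co ψ k g γ) (e : ∀ a, γ a = γ' a) : Co ψ k g γ' := fun a => e a ▸ h1 a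

theorem inv (h1 : Co ψ k g γ) (e : ∀ a, γ (γ' a) = a) : Co ψ k g⁻¹ γ' := fun a => by
  conv_lhs => rw [← e a, ← h1]
  group

theorem pmul {c c' : Perm Cd} (h1 : Co ψ k g c) (h2 : Co ψ k h c') : Co ψ k (g * h) (c * c' : Perm Cd) := h1.mul h2

theorem pinv {c : Perm Cd} (h1 : Co ψ k g c) : Co ψ k g⁻¹ (c⁻¹ : Perm Cd) := h1.inv fun a => by simp

theorem uniq (hi : Function.Injective (μ ψ k)) (h1 : Co ψ k g γ) (h2 : Co ψ k g γ') (a : Cd) : γ a = γ' a :=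
  hi ((h1 a).symm.trans (h2 a))

theorem comm (h1 : Co ψ k g γ) {a : Cd} (e : γ a = a) : g * μ ψ k a = μ ψ k a * g := by
  have := h1 a
  rwa [e, mul_inv_eq_iff_eq_mul] at this

end Co

theorem μ_lt (ψ : A12 →* G) (k : G) (a : Cd) (h : a.1 < 32) : μ ψ k a = ψ (P.ν a) := by
  have e : P.ν 0 = 1 := by decide +kernel
  simp [μ, Nat.mod_eq_of_lt h, Nat.div_eq_of_lt h, e]

theorem μ_vals (ψ : A12 →* G) (k : G) : μ ψ k 0 = 1 ∧ μ ψ k 1 = ψ P.t ∧ μ ψ k 2 = ψ P.u1 ∧ μ ψ k 4 = ψ P.u2 ∧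
    μ ψ k 8 = ψ P.f1 ∧ μ ψ k 16 = ψ P.f2 := by
  have e : P.ν 0 = 1 ∧ P.ν 1 = P.t ∧ P.ν 2 = P.u1 ∧ P.ν 4 = P.u2 ∧ P.ν 8 = P.f1 ∧ P.ν 16 = P.f2 := by decide +kernel
  refine ⟨?_, ?_, ?_, ?_, ?_, ?_⟩ <;> rw [μ_lt _ _ _ (by decide)]
  exacts [e.1 ▸ map_one ψ, congrArg ψ e.2.1, congrArg ψ e.2.2.1, congrArg ψ e.2.2.2.1, congrArg ψ e.2.2.2.2.1,
    congrArg ψ e.2.2.2.2.2]

theorem G3.μ_rs {ψ : A12 →* G} {θ : L5 →* G} {k : G} (F : G3 ψ θ k) : μ ψ k 32 = ψ P.r ∧ μ ψ k 64 = ψ P.s := by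
  have e : P.ν 0 = 1 ∧ P.ν 2 = P.u1 ∧ P.ν 4 = P.u2 := by decide +kernel
  constructor
  · show ψ (P.ν 0) * (k * ψ (P.ν 2) * k⁻¹) = _
    rw [e.1, e.2.1, F.ku1, map_one, one_mul]
  · show ψ (P.ν 0) * (k * ψ (P.ν 4) * k⁻¹) = _
    rw [e.1, e.2.2, F.ku2, map_one, one_mul]

namespace GY

variable {ψ : A12 →* G} {θ : L5 →* G} {k : G} (F : GY ψ θ k)
include F

theorem kk : k * k = ψ P.t := by rw [← F.θk, ← map_mul, S25.rel.2.2.1, F.θt]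

theorem θ_t (b : L5) : θ b * ψ P.t = ψ P.t * θ b := by rw [← F.θt, ← map_mul, ← map_mul]; simp

theorem kt : k * ψ P.t = ψ P.t * k := F.θk ▸ F.θ_t k0

end GY

end CL.HN3
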