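/-
The 3-local characterisation of the Harada–Norton group (helper35): `J` is weakly closed.
-/
import Cfsg.Agent.Hn3.Base
import Cfsg.Agent.Ast.B3b

set_option autoImplicit false
set_option synthInstance.maxSize 4096

namespace CL.HN3

open Subgroup Cfsg CL.Grp CL.Rec CL.Perm CL.G23 CL.McL3 CL.McL3.C27 CL.S9R CL.Ast Equiv
open scoped Pointwise

universe u

variable {G : Type u} [Group G] {ι : V → G} {J S : Subgroup G} {q n g h : G} {γ : V → V}

namespace C0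

variable (F : C0 ι J S q n)
include F

theorem linS (hg : g ∈ S) : ∃ p, Lin ι g (b3mu p) := by
  obtain ⟨j, hj, a, b, rfl⟩ := F.memS g hg
  exact ⟨_, b3_lin_mul (b3_lin_mul (p := 0) (F.toEmb.lin_id hj) (b3_lin_pow (p := (1, 0)) F.ln a))
    (b3_lin_pow (p := (0, 1)) F.lq b)⟩

theorem memJ (h1 : Lin ι g γ) (h2 : Lin ι h γ) : g⁻¹ * h ∈ J := F.cJ _ fun v => by
  calc _ = g⁻¹ * (h * ι v * h⁻¹) * g := by group
    _ = _ := by rw [h2, ← h1]; group; rfl

/-- `J` is the only elementary abelian subgroup of order 81 of `S`. -/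
theorem le_or {B : Subgroup G} (hB : B ≤ S) (hc : ∀ a ∈ B, ∀ b ∈ B, a * b = b * a) : B ≤ J ∨ Nat.card B ≤ 27 := by
  refine or_iff_not_imp_left.2 fun hn => ?_
  obtain ⟨b, hb, bJ⟩ := SetLike.not_le_iff_exists.1 hn
  obtain ⟨p, hp⟩ := F.linS (hB hb)
  have p0 : p ≠ 0 := fun e => bJ (F.cJ b (by rw [e] at hp; exact hp))
  have key : ∀ {c d}, c ∈ B → d ∈ B → ∀ {γ}, Lin ι c γ → Lin ι d γ → ∃ u, d = c * ι u ∧
      ∀ {b' γ'}, b' ∈ B → Lin ι b' γ' → γ' u = u := fun hc' hd _ h1 h2 => by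
    obtain ⟨u, hu⟩ := (F.mem _).1 (F.memJ h1 h2)
    exact ⟨u, by rw [hu, mul_inv_cancel_left], fun hb' h3 =>
      F.toEmb.fix h3 (hu ▸ hc _ hb' _ (mul_mem (inv_mem hc') hd))⟩
  by_cases h1 : ∀ c ∈ B, ∀ p', Lin ι c (b3mu p') → ∃ i : Fin 3, p' = i.1 • p
  · obtain ⟨w, -, hw⟩ := b3_mu2 p p0
    refine le_trans (Nat.card_mono (Set.toFinite _) fun c hc' => ?_) ((Finite.card_range_le
      fun r : Fin 3 × Fin 3 × Fin 3 => b ^ r.1.1 * ι (r.2.1.1 • zv + r.2.2.1 • w)).trans (by simp))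
    obtain ⟨p', hp'⟩ := F.linS (hB hc')
    obtain ⟨i, rfl⟩ := h1 c hc' p' hp'
    obtain ⟨u, rfl, hu⟩ := key (pow_mem hb i.1) hc' (b3_lin_pow hp i.1) hp'
    obtain ⟨j, k, rfl⟩ := hw u (hu hb hp)
    exact ⟨(i, j, k), rfl⟩
  · push Not at h1
    obtain ⟨b', hb', p', hp', h1⟩ := h1
    obtain ⟨h2, h3⟩ := (b3_mu3 p p' p0).resolve_left fun ⟨i, e⟩ => h1 i e
    refine le_trans (Nat.card_mono (Set.toFinite _) fun c hc' => ?_) ((Finite.card_range_le
      fun r : Fin 3 × Fin 3 × Fin 3 => b ^ r.1.1 * b' ^ r.2.1.1 * ι (r.2.2.1 • zv)).trans (by simp))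
    obtain ⟨p'', hp''⟩ := F.linS (hB hc')
    obtain ⟨i, j, rfl⟩ := h3 p''
    obtain ⟨u, rfl, hu⟩ := key (mul_mem (pow_mem hb i.1) (pow_mem hb' j.1)) hc'
      (b3_lin_mul (b3_lin_pow hp i.1) (b3_lin_pow hp' j.1)) hp''
    obtain ⟨k, rfl⟩ := h2 u (hu hb hp) (hu hb' hp')
    exact ⟨(i, j, k), rfl⟩

theorem comm {a b : G} (ha : a ∈ J) (hb : b ∈ J) : a * b = b * a := by
  obtain ⟨v, rfl⟩ := (F.mem a).1 ha
  obtain ⟨w, rfl⟩ := (F.mem b).1 hb
  exact F.toEmb.comm v w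

variable [Finite G]

theorem SN : S ≤ normalizer (J : Set G) := fun _ hs => let ⟨_, h⟩ := F.linS hs; F.toEmb.norm h

theorem wc (hg : ∀ j ∈ J, g * j * g⁻¹ ∈ normalizer (J : Set G)) : g ∈ normalizer (J : Set G) := by
  have := Fact.mk Nat.prime_three
  obtain ⟨k, hk, e⟩ := (F.syl.of_le F.SN le_top).exists_conj_le (U := MulAut.conj g • J)
    (F.toEmb.isPGroup.conj_smul g) ((conj_smul_le_iff _ _ _).2 hg)
  rw [conj_smul_conj_smul] at e
  rcases F.le_or e (fun a ha b hb => by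
      have := F.comm ((mem_conj_smul_iff _ _ _).1 ha) ((mem_conj_smul_iff _ _ _).1 hb)
      generalize k * g = c at this
      simpa [← mul_assoc] using (by simpa [mul_assoc] using this : a * (b * c) = b * (a * c))) with e | e
  · exact (mul_mem_cancel_left hk).1 (mem_normalizer_fintype fun j hj => e (conj_mem_conj_smul _ hj))
  · rw [card_conj_smul, F.toEmb.card] at e; omega

theorem leN {B : Subgroup G} (hP : IsPGroup 3 B) (hJ : J ≤ B) : B ≤ normalizer (J : Set G) := by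
  have := Fact.mk Nat.prime_three
  by_contra hn
  obtain ⟨k, hk, h1, h2⟩ := CL.Inv.exists_mem_normalizer_of_lt_pgroup hP
    (lt_of_le_of_ne inf_le_left fun e : B ⊓ normalizer (J : Set G) = B => hn (e ▸ inf_le_right))
  exact h1 ⟨hk, F.wc fun j hj => ((mem_normalizer_iff.1 h2 j).1 ⟨hJ hj, le_normalizer hj⟩).2⟩

theorem fus {v w : V} (h : IsConj (ι v) (ι w)) : ∃ k ∈ normalizer (J : Set G), k * ι v * k⁻¹ = ι w := by
  have := Fact.mk Nat.prime_three
  obtain ⟨g, h⟩ := isConj_iff.1 h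
  obtain ⟨T, hT, hJT⟩ := exists_isSylowIn_ge (H := centralizer {ι w}) F.toEmb.isPGroup fun k hk =>
    mem_centralizer_singleton_iff.2 (F.comm hk (F.toEmb.memJ w))
  obtain ⟨c, hc, e⟩ := hT.exists_conj_le (U := MulAut.conj g • J) (F.toEmb.isPGroup.conj_smul g) fun b hb => mem_centralizer_singleton_iff.2 (by
    rw [show b = g * (g⁻¹ * b * g) * g⁻¹ by group, ← h, conj_mul, conj_mul,
      F.comm ((mem_conj_smul_iff _ _ _).1 hb) (F.toEmb.memJ v)])
  refine ⟨c * g, F.wc fun j hj => F.leN hT.isPGroup hJT ?_, ?_⟩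
  · simpa [mul_assoc] using e (conj_mem_conj_smul c (conj_mem_conj_smul g hj))
  · calc _ = c * (g * ι v * g⁻¹) * c⁻¹ := by group
      _ = _ := by rw [h, mem_centralizer_singleton_iff.1 hc]; group

end C0

end CL.HN3
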