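/-
The 3-local characterisation of the Harada–Norton group (helper35): lifting to centralizers of involutions.
-/
import Cfsg.Agent.Hn3.Wc

set_option autoImplicit false
set_option synthInstance.maxSize 4096

namespace CL.HN3

open Subgroup Cfsg CL.Grp CL.McL3 CL.McL3.C27 CL.S9R CL.Ast Equiv

universe u

variable {G : Type*} [Group G]

/-- two involutions whose product has order dividing three are conjugate by a power of the product -/
theorem dih {t a g : G} (t2 : t * t = 1) (a3 : a ^ 3 = 1) (e : g * t * g⁻¹ = a * t) : a * g * t = t * (a * g) := by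
  have k : a * t * (a * t) = 1 := by rw [← e, conj_mul, t2]; group
  have k1 : t * a = a⁻¹ * t := by
    calc _ = a⁻¹ * (a * t * (a * t)) * t⁻¹ := by group
      _ = a⁻¹ * (t * t) * t⁻¹ := by rw [k, t2]
      _ = _ := by group
  have k2 : a * a = a⁻¹ := eq_inv_of_mul_eq_one_left (by rw [← a3, pow_succ, pow_two])
  calc _ = a * (g * t * g⁻¹) * g := by group
    _ = a * a * t * g := by rw [e]; group
    _ = _ := by rw [k2, ← k1]; group

namespace Th

variable {ι : V → G} {J : Subgroup G} {θ : L5 →* G} (F : Th ι J θ) {g h t : G} {γ δ : V → V}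
include F

theorem memJ' (h1 : Lin ι g γ) (h2 : Lin ι h γ) : g⁻¹ * h ∈ J := F.cJ _ fun v => by
  calc _ = g⁻¹ * (h * ι v * h⁻¹) * g := by group
    _ = _ := by rw [h2, ← h1]; group; rfl

theorem cubeJ (hg : g ∈ J) : g ^ 3 = 1 := by
  obtain ⟨v, rfl⟩ := (F.mem g).1 hg
  exact F.toEmb.cube v

/-- an element whose action commutes with that of the involution `t` can be chosen in `C(t)` -/
theorem lift (t2 : t * t = 1) (ht : Lin ι t δ) (h1 : Lin ι g γ) (c : ∀ v, γ (δ v) = δ (γ v)) :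
    ∃ h, Lin ι h γ ∧ h * t = t * h := by
  have k := F.memJ' (ht.mul h1) ((h1.mul ht).congr c)
  obtain ⟨v, hv⟩ := (F.mem _).1 k
  have e : g * t * g⁻¹ = ι (δ (γ v)) * t := by rw [← ht, ← h1, hv]; group
  exact ⟨_, ((F.toEmb.lin_id (F.toEmb.memJ _)).mul h1).congr fun _ => rfl, dih t2 (F.toEmb.cube _) e⟩

/-- elements commuting with an element that inverts `J` are determined by their action -/
theorem uniq (ht : Lin ι t fun v => -v) (h1 : Lin ι g γ) (h2 : Lin ι h γ) (c1 : g * t = t * g) (c2 : h * t = t * h) :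
    g = h := by
  obtain ⟨v, hv⟩ := (F.mem _).1 (F.memJ' h1 h2)
  have e : -v = v := F.toEmb.fix ht (hv ▸ ((show Commute g t from c1).inv_left.mul_left c2).symm)
  rw [(by decide : ∀ v : V, -v = v → v = 0) v e, F.toEmb.zero] at hv
  exact inv_mul_eq_one.1 hv.symm

theorem kk : θ k0 * θ k0 = θ (-1) := by rw [← map_mul, S25.rel.2.2.1]

theorem tt : θ (-1) * θ (-1) = 1 := by rw [← map_mul]; simp

theorem θt (b : L5) : θ b * θ (-1) = θ (-1) * θ b := by rw [← map_mul, ← map_mul]; simp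

/-- a linear action is determined on the basis -/
theorem lin_basis (a : ∀ v w, γ (v + w) = γ v + γ w) (e : ∀ i, g * ι (e4 i) * g⁻¹ = ι (γ (e4 i))) : Lin ι g γ := by
  have E := F.toEmb
  have d : ∀ v : V, v = (v 0).val • e4 0 + (v 1).val • e4 1 + (v 2).val • e4 2 + (v 3).val • e4 3 := by decide +kernel
  intro v
  have n (k : ℕ) (w : V) : γ (k • w) = k • γ w := map_nsmul (AddMonoidHom.mk' γ a) k w
  rw [d v]
  simp only [a, n, E.add, E.nsmul, ← e, conj_pow, conj_mul]

end Th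

namespace GF

variable {ι : V → G} {J : Subgroup G} {θ : L5 →* G} {i w g h : G} {γ : V → V} (F : GF ι J θ i w)
include F

theorem lift0 (h1 : Lin ι g γ) : ∃ h, Lin ι h γ ∧ h * i = i * h :=
  F.toTh.lift F.i2 F.li h1 fun v => map_neg (AddMonoidHom.mk' γ (F.toEmb.lin_add h1)) v

theorem uniq0 (h1 : Lin ι g γ) (h2 : Lin ι h γ) (c1 : g * i = i * g) (c2 : h * i = i * h) : g = h :=
  F.toTh.uniq F.li h1 h2 c1 c2

theorem it : θ (-1) * i = i * θ (-1) := F.toTh.kk ▸ ((show Commute i _ from F.ik).mul_right F.ik).symm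

theorem ww : w * w = 1 :=
  F.uniq0 ((F.lw.mul F.lw).congr (by decide +kernel)) (Lin.one ι)
    ((show Commute i _ from F.iw).mul_right F.iw).symm (by simp)

theorem wt : w * θ (-1) = θ (-1) * w :=
  F.uniq0 (F.lw.mul F.lt) ((F.lt.mul F.lw).congr (by decide +kernel))
    ((show Commute i _ from F.iw).mul_right F.it.symm).symm ((show Commute i _ from F.it.symm).mul_right F.iw).symm

end GF

def B3aThm : Prop := ∀ {G : Type u} [Group G] [Finite G] {ι : V → G} {J : Subgroup G} {θ : L5 →* G} {i w : G}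
  {π : G → Perm (Fin 9)}, GF ι J θ i w → S9M ι i π → ∃ ψ : A12 →* G, ψ P.e0 = ι (e4 0) ∧ ψ P.e1 = ι (e4 1) ∧
    ψ P.e2 = ι (e4 2) ∧ ψ P.y = ι (e4 3) ∧ ψ P.i = i ∧ ∀ g, g * ι (e4 0) * g⁻¹ ∈ zpowers (ι (e4 0)) → g ∈ ψ.range

end CL.HN3
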