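/-
The 3-local characterisation of the Harada–Norton group: reduction of the statement to the hypotheses `Hyp`.
-/
import Cfsg.Agent.Hn3.Defs2
import Cfsg.Agent.Fgs.ClassFusion
import Cfsg.Agent.Grp.ExtraIndex

set_option autoImplicit false
set_option synthInstance.maxSize 4096

namespace CL.HN3

open Subgroup Cfsg CL.Grp CL.McL3 CL.McL3.C27 CL.S9R CL.Ast Equiv

universe u

namespace A0x

variable {G : Type*} [Group G] [Finite G]

theorem cen5 {A : Subgroup G} {f z : G} (oz : orderOf z = 3) (zA : z ∈ A) (hA : Nat.card A ∣ 81) (f5 : f ^ 5 = 1)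
    (fz : f * z = z * f) (fn : ∀ a ∈ A, f * a * f⁻¹ ∈ A) {a : G} (ha : a ∈ A) : f * a = a * f := by
  have : Fact (Nat.Prime 5) := ⟨by decide⟩
  have h1 := CL.Fgs.card_modEq_card_inf_centralizer (r := 5) (R := zpowers f) (Y := A)
    (fun g => ⟨1, orderOf_dvd_iff_pow_eq_one.1 ((orderOf_dvd_natCard g).trans
      (by rw [Nat.card_zpowers]; exact orderOf_dvd_of_pow_eq_one f5))⟩)
    (zpowers_le.2 (mem_normalizer_fintype fn))
  have h2 : zpowers z ≤ A ⊓ centralizer (zpowers f : Set G) := zpowers_le.2 ⟨zA, fun _ ⟨k, e⟩ =>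
    e ▸ (Commute.zpow_left fz k).eq⟩
  have h3 := card_dvd_of_le h2
  have h4 := card_dvd_of_le (inf_le_left : A ⊓ centralizer (zpowers f : Set G) ≤ A)
  rw [Nat.card_zpowers, oz] at h3
  have h5 := (by decide : ∀ m ∈ Nat.divisors 81, ∀ n ∈ Nat.divisors 81, 3 ∣ n → n ∣ m → m % 5 = n % 5 → m ≤ n) _
    (Nat.mem_divisors.2 ⟨hA, by decide⟩) _ (Nat.mem_divisors.2 ⟨h4.trans hA, by decide⟩) h3 h4 h1
  exact ((eq_of_le_of_card_ge inf_le_left h5).ge ha).2 f (mem_zpowers f)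

theorem inv {z t f : G} {Q : Subgroup G} (E : Ex z t Q) (t1 : t ≠ 1) (f5 : f ^ 5 = 1) (f1 : f ≠ 1) (fz : f * z = z * f) :
    Q ≤ E.Q1 := by
  have k1 : E.Q1 ≤ Q := fun a ha => (E.mem_Q1.1 ha).1
  have k0 : Q ⊓ centralizer {t} ≤ Q := inf_le_left
  have one : ∀ {g : G} {n : ℕ}, Nat.Coprime 3 n → g ^ n = 1 → (∀ b ∈ Q, g * b = b * g) → g = 1 := fun hn h1 h2 => by
    have := pow_gcd_eq_one.2 ⟨E.Q3 _ (E.ZleQ (E.ZQ _ h2)), h1⟩
    rwa [hn, pow_one] at this
  rcases (by decide : ∀ m ∈ Nat.divisors 243, ∀ n ∈ Nat.divisors 243, m * n = 729 → 243 ≤ m ∨ 243 ≤ n ∨ m ∣ 81 ∧ n ∣ 81)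
    _ (Nat.mem_divisors.2 ⟨E.cQ ▸ card_dvd_of_le k0, by decide⟩) _
    (Nat.mem_divisors.2 ⟨E.cQ ▸ card_dvd_of_le k1, by decide⟩) E.card01 with h | h | h
  · exact absurd (one (n := 2) (by decide) ((sq t).trans E.t2) fun b hb =>
      (mem_centralizer_singleton_iff.1 ((eq_of_le_of_card_ge k0 (E.cQ ▸ h)).ge hb).2).symm) t1
  · exact (eq_of_le_of_card_ge k1 (E.cQ ▸ h)).ge
  refine absurd (one (n := 5) (by decide) f5 fun b hb => ?_) f1
  obtain ⟨c, hc, i, hi, ct, ti, rfl⟩ := E.split hb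
  exact (Commute.mul_right (cen5 E.oz (A := Q ⊓ centralizer {t}) ⟨E.zQ, mem_centralizer_singleton_iff.2 E.tz.symm⟩ h.1 f5 fz
    (fun a ha => ⟨E.cj fz ha.1, mem_centralizer_singleton_iff.2 (E.n0 fz ha.1 (mem_centralizer_singleton_iff.1 ha.2))⟩)
    ⟨hc, mem_centralizer_singleton_iff.2 ct⟩) (cen5 E.oz (E.Z_le_Q1 (mem_zpowers z)) h.2 f5 fz (fun a => E.n1 fz)
    (E.Q1_of_inv hi ti))).eq

theorem split {D : Type*} [Group D] [Finite D] (ψ : D →* L5) (hs : Function.Surjective ψ) (hc : ψ.ker ≤ center D)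
    (h3 : Nat.card ψ.ker = 3) : ∃ θ : L5 →* D, ∀ b, ψ (θ b) = b := by
  have : Fact (Nat.Prime 3) := ⟨Nat.prime_three⟩
  obtain ⟨P⟩ : Nonempty (Sylow 3 D) := inferInstance
  have h1 := ψ.ker.card_mul_index
  rw [index_ker, MonoidHom.range_eq_top.2 hs, card_top, S25.card, h3] at h1
  have h2 : Nat.card P = 3 ^ 2 := by
    rw [P.card_eq_multiplicity, ← h1, Nat.factorization_def _ Nat.prime_three]
    exact congrArg _ (by decide +kernel)
  have h4 : ⁅(P : Subgroup D), (P : Subgroup D)⁆ = ⊥ := commutator_eq_bot_iff_le_centralizer.2 fun a ha b hb =>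
    congrArg Subtype.val ((IsPGroup.isMulCommutative_of_card_eq_prime_sq h2).is_comm.comm ⟨b, hb⟩ ⟨a, ha⟩)
  have h5 : Function.Bijective (ψ.comp (commutator D).subtype) := ⟨(injective_iff_map_eq_one _).2 fun d hd =>
    Subtype.ext (mem_bot.1 (h4 ▸ CL.Transfer.inf_commutator_inf_center_le_of_hall _ P.card_coprime_index
      ⟨⟨(IsPGroup.of_card (h3.trans (pow_one 3).symm)).le_sylow_of_normal P hd, d.2⟩, hc hd⟩)), fun b => by
    have : b ∈ (commutator D).map ψ := by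
      rw [map_commutator_eq, MonoidHom.range_eq_top.2 hs, ← commutator_def, S25.perfect]; trivial
    obtain ⟨d, hd, e⟩ := this
    exact ⟨⟨d, hd⟩, e⟩⟩
  exact ⟨(commutator D).subtype.comp (MulEquiv.ofBijective _ h5).symm.toMonoidHom,
    (MulEquiv.ofBijective _ h5).apply_symm_apply⟩

theorem c5 : ∃ c : L5, c ^ 5 = 1 ∧ c ≠ 1 := by decide +kernel

end A0x

open A0x in
theorem a0Thm : A0Thm.{u} := by
  intro G _ _ S Z C Q hZ hC hQ ex cQ Q3 hCQ ⟨x, hx, hx'⟩ e
  have hSC : (S : Subgroup G) ≤ C := by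
    rw [hC]
    intro s hs w hw
    rw [hZ] at hw
    exact (hw.2 s hs).symm
  have hQC : Q ≤ C := hQ ▸ map_subtype_le _
  have hQS : Q ≤ S := by
    rw [hQ]
    rintro _ ⟨c, hc, rfl⟩
    exact (pCore_isPGroup 3 C).le_sylow_of_normal (S.subtype hSC) hc
  have hZQ : Z ≤ Q ⊓ centralizer (Q : Set G) := fun w hw => by
    rw [hZ] at hw
    have : w ∈ centralizer (Q : Set G) := fun q hq => hw.2 q (hQS hq)
    exact ⟨hCQ this, this⟩
  have c3 : Nat.card (Q ⊓ centralizer (Q : Set G) : Subgroup G) = 3 := extra_card_inf_centralizer ex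
  have Zn : Z ≠ ⊥ := fun k => hx' (by rw [k, Subgroup.map_bot])
  obtain ⟨z, hz, z1⟩ := (bot_or_exists_ne_one Z).resolve_left Zn
  have zQ := (hZQ hz).1
  have oz : orderOf z = 3 := orderOf_eq_prime (Q3 z zQ) z1
  have zp : zpowers z = Q ⊓ centralizer (Q : Set G) :=
    eq_of_le_of_card_ge ((zpowers_le.2 hz).trans hZQ) (by rw [c3, Nat.card_zpowers, oz])
  have Zz : Z = zpowers z := le_antisymm (zp ▸ hZQ) (zpowers_le.2 hz)
  have mC : ∀ g, g ∈ C ↔ g * z = z * g := fun g => by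
    rw [hC, Zz]
    exact ⟨fun k => (k z (mem_zpowers z)).symm, fun k w hw => (Ex.cz hw k).symm⟩
  have mQ : ∀ c : C, c ∈ pCore 3 C ↔ (c : G) ∈ Q := fun c => by
    rw [hQ]
    exact ⟨fun k => ⟨c, k, rfl⟩, fun ⟨d, k, e⟩ => Subtype.ext e ▸ k⟩
  obtain ⟨φ, ker, sur⟩ : ∃ φ : C →* L5, (∀ c, φ c = 1 ↔ (c : G) ∈ Q) ∧ Function.Surjective φ :=
    ⟨e.toMonoidHom.comp (QuotientGroup.mk' _), fun c => by simp [← mQ],
      e.surjective.comp (QuotientGroup.mk'_surjective _)⟩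
  have cube : ∀ c : C, φ c = 1 → c ^ 3 = 1 := fun c h => Subtype.ext (Q3 _ ((ker c).1 h))
  obtain ⟨t, t2, et⟩ : ∃ t : C, t * t = 1 ∧ φ t = -1 := by
    obtain ⟨c, hc⟩ := sur (-1)
    exact ⟨c ^ 3, by rw [← sq, ← pow_mul, mul_comm, pow_mul, cube _ (by rw [map_pow, hc, neg_one_sq])],
      by rw [map_pow, hc]; exact Odd.neg_one_pow (by decide)⟩
  have tc : ∀ g : C, φ (g * t * g⁻¹ * t⁻¹) = 1 := fun g => by simp [et]
  have E : Ex z (t : G) Q := by
    refine ⟨oz, cQ, Q3, zQ, fun a ha => (mC a).1 (hQC ha), fun g hg => ?_, fun a ha b hb => ?_, fun g hg => ?_,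
      congrArg Subtype.val t2, (mC _).1 t.2, fun g hg => (ker _).1 (tc ⟨g, (mC g).2 hg⟩)⟩
    · rw [hQ]
      refine normalizer_le_normalizer_map_subtype _ ?_
      rw [hC, Zz]
      refine le_normalizer_centralizer' le_rfl (mem_normalizer_fintype fun a ⟨i, hi⟩ => ?_)
      rw [← hi]
      exact conj_zpow (a := g) (b := z) (i := i) ▸ zpow_mem hg i
    · rw [zp, ← map_subtype_center_eq]
      exact ⟨_, extra_comm_mem_center ex ⟨a, ha⟩ ⟨b, hb⟩, rfl⟩
    · rw [zp]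
      have : g ∈ centralizer (Q : Set G) := fun b hb => (hg b hb).symm
      exact ⟨hCQ this, this⟩
  have hi : Q ≤ E.Q1 := by
    obtain ⟨c, c1, c2⟩ := c5
    obtain ⟨f, rfl⟩ := sur c
    refine inv E (f := ((f ^ 6 : C) : G)) (fun h => ?_) (congrArg Subtype.val (show (f ^ 6) ^ 5 = 1 by
      rw [← pow_mul, show 6 * 5 = 5 * 3 * 2 from rfl, pow_mul, pow_mul, cube _ (by rw [map_pow, c1]), one_pow]))
      (fun h => c2 ?_) ((mC _).1 (f ^ 6).2)
    · rw [show t = 1 from Subtype.ext h, map_one] at et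
      exact absurd et (by decide)
    · have := congrArg φ (show f ^ 6 = 1 from Subtype.ext h)
      rwa [map_pow, pow_succ, c1, one_mul, map_one] at this
  let D : Subgroup C := centralizer {t}
  let ι : D →* G := C.subtype.comp D.subtype
  have hι : Function.Injective ι := C.subtype_injective.comp D.subtype_injective
  have kz : ∀ d : D, φ d = 1 → ι d ∈ zpowers z := fun d h => E.z_of_Q1 (hi ((ker _).1 h))
    (congrArg Subtype.val (mem_centralizer_singleton_iff.1 d.2))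
  obtain ⟨θ, hθ⟩ := split (φ.comp D.subtype) (fun b => by
      obtain ⟨g, rfl⟩ := sur b
      exact ⟨⟨_, mem_centralizer_singleton_iff.2 (dih t2 (cube _ (tc g)) (inv_mul_cancel_right _ t).symm)⟩, by
        simp [et]⟩)
    (fun d hd => mem_center_iff.2 fun g => hι (by
      rw [map_mul, map_mul]; exact Ex.cz (kz d hd) ((mC _).1 (g : C).2)))
    (by
      rw [← card_map_of_injective hι, ← oz, ← Nat.card_zpowers, show (φ.comp D.subtype).ker.map ι = zpowers z from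
        le_antisymm (map_le_iff_le_comap.2 kz) (zpowers_le.2
        ⟨⟨⟨z, hQC zQ⟩, mem_centralizer_singleton_iff.2 (Subtype.ext E.tz.symm)⟩, (ker _).2 zQ, rfl⟩)])
  replace hθ : ∀ b, φ (θ b) = b := hθ
  have e1 : ι (θ (-1)) = t := by
    have h1 : Commute (θ (-1) : C) t := mem_centralizer_singleton_iff.1 (θ (-1)).2
    refine mul_inv_eq_one.1 (E.one_of_sq ((ker (θ (-1) * t⁻¹)).1 (by rw [map_mul, map_inv, hθ, et, mul_inv_cancel]))
      (congrArg Subtype.val (show (θ (-1) : C) * t⁻¹ * (θ (-1) * t⁻¹) = 1 from ?_)))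
    rw [h1.inv_right.symm.mul_mul_mul_comm, ← mul_inv_rev, t2, ← coe_mul, ← map_mul, neg_mul_neg, mul_one, map_one]
    simp
  refine ⟨z, ι.comp θ, by rw [MonoidHom.comp_apply, e1]; exact E, fun k => ?_,
    hι.comp (Function.LeftInverse.injective (g := fun d : D => φ d) hθ), fun b => (mC _).1 (θ b : C).2,
    fun a ha => by rw [MonoidHom.comp_apply, e1]; exact (E.mem_Q1.1 (hi ha)).2, fun g hg => ?_,
    x, hx ⟨z, hz, rfl⟩, fun k => hx' ?_⟩
  · have k1 : φ.ker = Q.subgroupOf C := Subgroup.ext ker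
    have k2 := φ.ker.card_mul_index
    rw [index_ker, k1, Nat.card_congr (subgroupOfEquivOfLe hQC).toEquiv, cQ, MonoidHom.range_eq_top.2 sur, card_top,
      S25.card] at k2
    exact absurd (k2 ▸ (S.pow_dvd_card_of_pow_dvd_card k).trans (card_dvd_of_le hSC)) (by norm_num)
  · exact ⟨_, (ker (⟨g, (mC g).2 hg⟩ * (θ (φ ⟨g, (mC g).2 hg⟩) : C)⁻¹)).1 (by rw [map_mul, map_inv, hθ, mul_inv_cancel]),
      _, (inv_mul_cancel_right _ _).symm⟩
  · refine eq_of_le_of_card_ge ?_ (by rw [card_map_of_injective (MulAut.conj x).injective])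
    rw [Zz, MonoidHom.map_zpowers]
    exact zpowers_le.2 k

end CL.HN3
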