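/-
The 3-local characterisation of the Harada–Norton group, part A1: the configuration of a conjugate of `z` in `Q`.
-/
import Cfsg.Agent.Hn3.Defs2
import Cfsg.Agent.Ast.B1

set_option autoImplicit false
set_option synthInstance.maxSize 4096

namespace CL.HN3

open Subgroup Cfsg CL.Grp CL.Rec CL.G23 CL.McL3 CL.McL3.C27 CL.S9R CL.Ast Equiv

universe u

namespace A1x

variable {G : Type*} [Group G]

theorem mz {z x : G} : x ∈ centralizer ({z} : Set G) ↔ x * z = z * x := mem_centralizer_singleton_iff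

theorem cm1 {a b : G} (h : a * b * a⁻¹ * b⁻¹ = 1) : a * b = b * a := mul_inv_eq_iff_eq_mul.1 (mul_inv_eq_one.1 h)

/-- the elements of `C(z)` that fix `v` modulo `⟨z⟩` -/
def Mx (v z : G) : Subgroup G where
  carrier := {x | x * z = z * x ∧ x * v * x⁻¹ * v⁻¹ ∈ zpowers z}
  one_mem' := by simp
  mul_mem' := fun {a b} ha hb => ⟨Commute.mul_left ha.1 hb.1, by
    have := mul_mem ((Ex.conj_z hb.2 ha.1).symm ▸ hb.2 : a * (b * v * b⁻¹ * v⁻¹) * a⁻¹ ∈ zpowers z) ha.2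
    simpa only [mul_inv_rev, mul_assoc, inv_mul_cancel_left] using this⟩
  inv_mem' := fun {a} ha => ⟨Commute.inv_left ha.1, by
    have := inv_mem ha.2
    rw [← Ex.conj_z this (Commute.inv_left ha.1)] at this
    simpa only [mul_inv_rev, inv_inv, mul_assoc, inv_mul_cancel, mul_one] using this⟩

theorem mem_Mx {v z x : G} (h1 : x * z = z * x) (h2 : x * v = v * x) : x ∈ Mx v z :=
  ⟨h1, by rw [h2, mul_inv_cancel_right, mul_inv_cancel]; exact one_mem _⟩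

variable {z : G} {Q : Subgroup G} {θ : L5 →* G}

theorem tc (θ : L5 →* G) (b : L5) : θ b * θ (-1) = θ (-1) * θ b := by rw [← map_mul, ← map_mul]; simp

theorem kk (θ : L5 →* G) : θ k0 * θ k0 = θ (-1) := by rw [← map_mul, S25.rel.2.2.1]

theorem ks (θ : L5 →* G) : θ k0 * θ s0 * (θ k0)⁻¹ = (θ s0)⁻¹ := by
  rw [← map_inv, ← map_mul, ← map_mul, S25.rel.2.2.2.1, map_inv]

/-- conjugation by `θ b` preserves the elements inverted by `t` -/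
theorem ti (θ : L5 →* G) (b : L5) {i : G} (h : θ (-1) * i * (θ (-1))⁻¹ = i⁻¹) :
    θ (-1) * (θ b * i * (θ b)⁻¹) * (θ (-1))⁻¹ = (θ b * i * (θ b)⁻¹)⁻¹ := by
  rw [conj_inv, ← h]
  calc _ = θ (-1) * θ b * i * (θ (-1) * θ b)⁻¹ := by group
    _ = _ := by rw [← tc]; group

section

variable (F : Hyp z Q θ) {a v y t' h : G} {Q' : Subgroup G} {b : L5}
include F

theorem zt (ha : a ∈ Q) (e : a * θ (-1) = θ (-1) * a) : a ∈ zpowers z := F.toEx.z_of_Q1 ⟨ha, F.inv a ha⟩ e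

theorem one (hb : θ b ∈ Q) : b = 1 := by
  have e (c : L5) : b * c = c * b := F.θinj (by
    rw [map_mul, map_mul]; exact (Ex.cz (zt F hb (tc θ b)) (F.θz c)).symm)
  obtain e | rfl := S25.cq b (e _) (e _)
  · exact e
  · exact F.θinj (by rw [F.toEx.one_of_sq hb F.t2, map_one])

theorem cy (hv : v ∈ Q) (vZ : v ∉ zpowers z) (sv : θ s0 * v = v * θ s0) (hz : h * z = z * h) (hv' : h * v = v * h) :
    ∃ a ∈ Q, ∃ b ∈ zpowers s0, h = a * θ b := by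
  obtain ⟨a, ha, b, rfl⟩ := F.dec h hz
  refine ⟨a, ha, b, (S25.neg (K := (Mx v z).comap θ) (mem_Mx (F.θz _) sv) ?_).resolve_right fun k => ?_, rfl⟩
  · have : a⁻¹ * (a * θ b) ∈ Mx v z := mul_mem ⟨F.Qz _ (inv_mem ha), F.cmQ _ (inv_mem ha) v hv⟩ (mem_Mx hz hv')
    rwa [inv_mul_cancel_left] at this
  · exact vZ (zt F hv (F.toEx.ct_of hv k.2))

theorem spl (ha : a ∈ Q) : ∃ w ∈ zpowers z, ∃ i ∈ Q, θ (-1) * i * (θ (-1))⁻¹ = i⁻¹ ∧ a = w * i :=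
  let ⟨c, hc, i, hi, e1, e2, e3⟩ := F.toEx.split ha
  ⟨c, zt F hc e1, i, hi, e2, e3⟩

variable [Finite G]

theorem cf (E' : Ex y t' Q') (hy : y ∈ Q) (yZ : y ∉ zpowers z) : z ∈ Q' ∧ (∀ a ∈ Q ⊓ Q', ∀ b ∈ Q ⊓ Q', a * b = b * a) ∧
    ∃ x ∈ Q' ⊓ centralizer {z}, ∃ x' ∈ Q' ⊓ centralizer {z}, x * x' ≠ x' * x := by
  have E := F.toEx
  have zY := E.b1_l1 E' F.c3 hy yZ
  have triv : ∀ x ∈ zpowers z, x ∈ zpowers y → x = 1 := fun x h1 h2 => by_contra fun ne =>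
    yZ (((zp_eq E'.b1_z3 h2 ne).symm.trans (zp_eq E.b1_z3 h1 ne)).le (mem_zpowers y))
  obtain ⟨x, hx, x', hx', e, -⟩ := E'.b1_nc zY fun k => ne_one_of_ord3 F.oz (triv z (mem_zpowers z) k)
  exact ⟨zY, fun a ha b hb => cm1 (triv _ (E.cmQ a ha.1 b hb.1) (E'.cmQ a ha.2 b hb.2)), x, hx, x', hx', e⟩

theorem cf' (E' : Ex y t' Q') (hy : y ∈ Q) (yZ : y ∉ zpowers z) : ∃ x ∈ Q' ⊓ centralizer {z}, x ∉ Q := by
  obtain ⟨-, ab, x, hx, x', hx', e⟩ := cf F E' hy yZ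
  by_contra! k
  exact e (ab x ⟨k x hx, hx.1⟩ x' ⟨k x' hx', hx'.1⟩)

theorem ex1 : ∃ g u, g * z * g⁻¹ = u ∧ u ∈ Q ∧ u ∉ zpowers z ∧ θ (-1) * u * (θ (-1))⁻¹ = u⁻¹ ∧ θ s0 * u = u * θ s0 := by
  have E := F.toEx
  obtain ⟨g, hy, yZ⟩ := F.ex
  have E' := E.b1_map (MulAut.conj g)
  obtain ⟨x, hx, xQ⟩ := cf' F E' hy yZ
  obtain ⟨a, ha, b, rfl⟩ := F.dec x (mz.1 hx.2)
  have b3 : b ^ 3 = 1 := one F (by
    have e := E'.Q3 _ hx.1
    have := inv_mem (mul_mem ha (E.cj (F.θz b) (mul_mem ha (E.cj (F.θz b) ha))))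
    rwa [show (a * (θ b * (a * (θ b * a * (θ b)⁻¹)) * (θ b)⁻¹))⁻¹ = θ b ^ 3 * ((a * θ b) ^ 3)⁻¹ by
      simp only [pow_three, mul_inv_rev, mul_assoc, inv_inv, mul_inv_cancel_left], e, inv_one, mul_one, ← map_pow] at this)
  obtain rfl | ⟨c, rfl⟩ := S25.o3 b b3
  · exact (xQ (by simpa using ha)).elim
  have xy : a * θ (c * s0 * c⁻¹) * (g * z * g⁻¹) = g * z * g⁻¹ * (a * θ (c * s0 * c⁻¹)) := E'.Qz _ hx.1
  have cz : (θ c)⁻¹ * z = z * (θ c)⁻¹ := Commute.inv_left (F.θz c)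
  obtain ⟨w, hw, i, hi, it, e⟩ := spl F (E.cj cz hy)
  have iZ : i ∉ zpowers z := fun k => yZ (by
    have k' := mul_mem hw k
    rw [← Ex.conj_z k' (F.θz c), ← e] at k'
    simpa only [inv_inv, mul_assoc, mul_inv_cancel_left, mul_inv_cancel, mul_one] using k')
  obtain ⟨⟨d, hd⟩, de⟩ := (E.b1_range le_rfl hi fun k => iZ (E.ZQ i fun b hb => (mz.1 (k hb)).symm)).ge (inv_mem hw)
  have de : d * i * d⁻¹ * i⁻¹ = w⁻¹ := de
  obtain ⟨w', hw', e'⟩ := E.cj_eq (inv_mem (E.cj cz ha)) (mul_mem (E.ZleQ hw) hi)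
  have si : θ s0 * i * (θ s0)⁻¹ = i * w' := by
    have : θ s0 * (w * i) * (θ s0)⁻¹ = w * i * w' := by
      rw [← e', ← e]
      calc _ = (θ c)⁻¹ * a⁻¹ * (a * θ (c * s0 * c⁻¹) * (g * z * g⁻¹)) * (θ c * (θ s0)⁻¹) := by
            rw [map_mul, map_mul, map_inv]; group
        _ = _ := by rw [xy, map_mul, map_mul, map_inv]; group
    rwa [← conj_mul, Ex.conj_z hw (F.θz _), mul_assoc w, mul_right_inj] at this
  refine ⟨d * (θ c)⁻¹ * g, i, ?_, hi, iZ, it, ?_⟩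
  · calc _ = d * ((θ c)⁻¹ * (g * z * g⁻¹) * (θ c)⁻¹⁻¹) * d⁻¹ := by group
      _ = w * (d * i * d⁻¹ * i⁻¹) * i := by rw [e, ← conj_mul, Ex.conj_z hw (F.Qz d hd)]; group
      _ = i := by rw [de]; group
  · rw [E.b1_inv it hi hw' (si ▸ ti θ s0 it), mul_one] at si
    exact mul_inv_eq_iff_eq_mul.1 si

theorem cj (E' : Ex v t' Q') (hv : v ∈ Q) (vZ : v ∉ zpowers z) (tv : θ (-1) * v * (θ (-1))⁻¹ = v⁻¹)
    (sv : θ s0 * v = v * θ s0) : z ∈ Q' ∧ θ s0 ∈ Q' ∧ ∃ p ∈ Q, p ∈ Q' ∧ θ (-1) * p * (θ (-1))⁻¹ = p⁻¹ ∧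
      p * θ s0 * p⁻¹ = θ s0 * v⁻¹ ∧ p * v = v * p := by
  have E := F.toEx
  obtain ⟨zY, ab, x, hx, x', hx', xx⟩ := cf F E' hv vZ
  have ZY : zpowers z ≤ Q' := zpowers_le.2 zY
  have dc : ∀ x ∈ Q' ⊓ centralizer {z}, ∃ a ∈ Q, ∃ b ∈ zpowers s0, x = a * θ b := fun x hx =>
    cy F hv vZ sv (mz.1 hx.2) (E'.Qz x hx.1)
  have tN := mem_normalizer_iff.1 (E'.nQ (θ (-1)) (tv ▸ inv_mem (mem_zpowers v)))
  have sY : θ s0 ∈ Q' := by
    obtain ⟨a, ha, hs⟩ : ∃ a ∈ Q, a * θ s0 ∈ Q' := by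
      obtain ⟨y, hy, yQ⟩ := cf' F E' hv vZ
      obtain ⟨a, ha, b, hb, rfl⟩ := dc y hy
      obtain rfl | rfl | rfl := tri3 S25.rel.1 hb
      · exact (yQ (by simpa using ha)).elim
      · exact ⟨a, ha, hy.1⟩
      · exact ⟨_, E.cj (F.θz s0) (inv_mem ha), by simpa using inv_mem (mem_inf.1 hy).1⟩
    obtain ⟨w, hw, i, hi, it, rfl⟩ := spl F ha
    have h1 := mul_mem hs (inv_mem ((tN _).1 hs))
    rw [← conj_mul, ← conj_mul, it, Ex.conj_z hw E.tz, ← tc, mul_inv_cancel_right,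
      show w * i * θ s0 * (w * i⁻¹ * θ s0)⁻¹ = w * (i * i) * w⁻¹ by group] at h1
    have h2 : i⁻¹ ∈ Q' := by
      rw [inv_eq_of_mul_eq_one_left (show i * i * i = 1 from pow_three' i ▸ E.Q3 i hi)]
      exact (mul_mem_cancel_left (ZY hw)).1 ((mul_mem_cancel_right (inv_mem (ZY hw))).1 h1)
    exact (mul_mem_cancel_left (mul_mem (ZY hw) (inv_mem_iff.1 h2))).1 hs
  obtain ⟨a, ha, e⟩ : ∃ a ∈ Q ⊓ Q', a * θ s0 ≠ θ s0 * a := by
    by_contra! k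
    obtain ⟨a, ha, _, ⟨m, rfl⟩, rfl⟩ := dc x hx
    obtain ⟨a', ha', _, ⟨m', rfl⟩, rfl⟩ := dc x' hx'
    simp only [map_zpow] at hx hx' xx
    have h1 : a ∈ Q ⊓ Q' := ⟨ha, (mul_mem_cancel_right (zpow_mem sY m)).1 hx.1⟩
    have h2 : a' ∈ Q ⊓ Q' := ⟨ha', (mul_mem_cancel_right (zpow_mem sY m')).1 hx'.1⟩
    exact xx (Commute.mul_left (Commute.mul_right (ab a h1 a' h2) (Commute.zpow_right (k a h1) m'))
      (Commute.mul_right (Commute.zpow_right (k a' h2) m).symm (Commute.zpow_zpow_self _ m m')))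
  obtain ⟨w, hw, p, hp, pt, rfl⟩ := spl F ha.1
  have pY : p ∈ Q' := (mul_mem_cancel_left (ZY hw)).1 ha.2
  have pv := E'.Qz p pY
  obtain ⟨v', hv', ps⟩ := E'.cj_eq pY sY
  refine ⟨zY, sY, ?_⟩
  obtain rfl | rfl | rfl := tri3 E'.b1_z3 hv'
  · rw [mul_one] at ps
    exact (e (Commute.mul_left (Ex.cz hw (F.θz s0)).symm (mul_inv_eq_iff_eq_mul.1 ps))).elim
  · refine ⟨p⁻¹, inv_mem hp, inv_mem pY, by rw [← conj_inv, pt], ?_, Commute.inv_left pv⟩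
    calc _ = p⁻¹ * (θ s0 * v') * (v'⁻¹ * p) := by group
      _ = _ := by rw [← ps, ← (Commute.inv_right pv).eq]; group
  · exact ⟨p, hp, pY, pt, ps, pv⟩

end

/-- `Rel` without the derived facts -/
structure Rel0 (z : G) (Q : Subgroup G) (θ : L5 →* G) (g u p : G) : Prop extends Hyp z Q θ where
  gz : g * z * g⁻¹ = u
  uQ : u ∈ Q
  uZ : u ∉ zpowers z
  tu : θ (-1) * u * (θ (-1))⁻¹ = u⁻¹
  su : θ s0 * u = u * θ s0
  pQ : p ∈ Q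
  tp : θ (-1) * p * (θ (-1))⁻¹ = p⁻¹
  ps : p * θ s0 * p⁻¹ = θ s0 * u⁻¹
  pu : p * u = u * p
  zY : g⁻¹ * z * g ∈ Q
  sY : g⁻¹ * θ s0 * g ∈ Q
  pY : g⁻¹ * p * g ∈ Q

namespace Rel0

variable {g u p : G} (R : Rel0 z Q θ g u p)
include R

theorem su' : Commute (θ s0) (θ k0 * u * (θ k0)⁻¹) := by
  have := (show Commute _ _ from R.su).conj (θ k0)
  rwa [ks, Commute.inv_left_iff] at this

theorem kk' : θ k0 * (θ k0 * u * (θ k0)⁻¹) * (θ k0)⁻¹ = u⁻¹ := by rw [← R.tu, ← kk]; group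

theorem u3 : u ^ 3 = 1 := R.Q3 u R.uQ

theorem u1 : u ≠ 1 := fun e => R.uZ (e ▸ one_mem _)

theorem uu : u * (θ k0 * u * (θ k0)⁻¹) = θ k0 * u * (θ k0)⁻¹ * u := by
  obtain ⟨w, hw, e⟩ := R.toEx.cj_eq (inv_mem R.pQ) (R.toEx.cj (R.θz k0) R.uQ)
  have h := (R.su'.mul_right (Ex.cz hw (R.θz s0))).conj p
  rw [R.ps, ← e, show p * (p⁻¹ * (θ k0 * u * (θ k0)⁻¹) * p⁻¹⁻¹) * p⁻¹ = θ k0 * u * (θ k0)⁻¹ by group] at h
  have := R.su'.inv_left.mul_left h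
  rwa [inv_mul_cancel_left, Commute.inv_left_iff] at this

theorem nu : θ k0 * u * (θ k0)⁻¹ ∉ zpowers u := fun h => by
  have k := R.kk'
  have e (e : u⁻¹ = u) := R.u1 (R.toEx.one_of_sq R.uQ (mul_eq_one_iff_inv_eq.2 e))
  obtain h | h | h := tri3 R.u3 h
  · exact R.u1 (by simpa using h)
  · rw [h, h] at k; exact e k.symm
  · rw [h, ← conj_inv, h, inv_inv] at k; exact e k.symm

theorem ind : θ k0 * u * (θ k0)⁻¹ ∉ zpowers z ⊔ zpowers u := fun h => by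
  obtain ⟨w, hw, _, ⟨m, rfl⟩, e⟩ := (mem_sup_iff_of_le_normalizer (zpowers_le.2 (centralizer_le_normalizer _ fun x hx =>
    (Ex.cz hx (R.Qz u R.uQ)).symm))).1 h
  have hm := zpow_mem R.uQ m
  dsimp only at e
  rw [← Ex.cz hw (R.Qz _ hm)] at e
  rw [R.toEx.b1_inv (by rw [← conj_zpow, R.tu, inv_zpow]) hm hw (e ▸ ti θ k0 R.tu), mul_one] at e
  exact R.nu ⟨m, e.symm⟩

theorem ps' : θ k0 * p * (θ k0)⁻¹ * θ s0 * (θ k0 * p * (θ k0)⁻¹)⁻¹ = θ k0 * u * (θ k0)⁻¹ * θ s0 := by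
  have := congrArg (fun x => (θ k0 * x * (θ k0)⁻¹)⁻¹) R.ps
  simp only [← conj_mul, ks] at this
  simpa only [mul_inv_rev, inv_inv, mul_assoc] using this

theorem genQ [Finite G] (K : Subgroup G) (h1 : z ∈ K) (h2 : u ∈ K) (h3 : θ k0 * u * (θ k0)⁻¹ ∈ K) (h4 : p ∈ K)
    (h5 : θ k0 * p * (θ k0)⁻¹ ∈ K) : Q ≤ K := by
  have E := R.toEx
  have uQ' := E.cj (R.θz k0) R.uQ
  have pQ' := E.cj (R.θz k0) R.pQ
  have l1 : zpowers z ⊔ zpowers u ≤ Q := sup_le E.ZleQ (zpowers_le.2 R.uQ)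
  have l2 := sup_le l1 (zpowers_le.2 uQ')
  have l3 := sup_le l2 (zpowers_le.2 R.pQ)
  have c2 := E.b1_sup le_sup_left l1 uQ' R.ind
  have c3 := E.b1_sup (le_sup_left.trans le_sup_left) l2 R.pQ fun k => R.u1 (by
    have := mz.1 ((sup_le (sup_le (zpowers_le.2 (mz.2 (R.θz s0).symm)) (zpowers_le.2 (mz.2 R.su.symm)))
      (zpowers_le.2 (mz.2 R.su'.symm.eq)) : _ ≤ centralizer {θ s0}) k)
    simpa [this] using R.ps)
  have c4 := E.b1_sup ((le_sup_left.trans le_sup_left).trans le_sup_left) l3 pQ' fun k => R.nu (by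
    have := ((sup_le (sup_le (sup_le (zpowers_le.2 (mem_Mx (R.Qz u R.uQ).symm (R.θz s0).symm))
      (zpowers_le.2 (mem_Mx rfl R.su.symm))) (zpowers_le.2 (mem_Mx R.uu.symm R.su'.symm.eq)))
      (zpowers_le.2 ⟨R.pu, by
        rw [R.ps, (show Commute _ _ from R.su).inv_right.eq, mul_inv_cancel_right]
        exact inv_mem (mem_zpowers u)⟩) : _ ≤ Mx (θ s0) u) k).2
    rwa [R.ps', mul_inv_cancel_right] at this)
  rw [c3, c2, E.b1_sup9 R.uQ R.uZ] at c4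
  exact (eq_of_le_of_card_ge (sup_le l3 (zpowers_le.2 pQ')) (by rw [c4, E.cQ])).ge.trans
    (by simp only [sup_le_iff, zpowers_le]; exact ⟨⟨⟨⟨h1, h2⟩, h3⟩, h4⟩, h5⟩)

theorem move : Rel0 z Q θ (θ k0 * g) (θ k0 * u * (θ k0)⁻¹) (θ k0 * p * (θ k0)⁻¹)⁻¹ where
  toHyp := R.toHyp
  gz := by rw [← R.gz]; group
  uQ := R.toEx.cj (R.θz k0) R.uQ
  uZ := fun h => R.ind (mem_sup_left h)
  tu := ti θ k0 R.tu
  su := R.su'
  pQ := inv_mem (R.toEx.cj (R.θz k0) R.pQ)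
  tp := by rw [← conj_inv, ti θ k0 R.tp]
  ps := by
    have h := ((show Commute _ _ from R.pu).conj (θ k0)).inv_right.eq
    have h1 := R.ps'
    have h2 := R.su'.inv_right.eq
    generalize θ k0 * p * (θ k0)⁻¹ = p' at *
    generalize θ k0 * u * (θ k0)⁻¹ = u' at *
    calc _ = p'⁻¹ * u'⁻¹ * (u' * θ s0) * p' := by group
      _ = p'⁻¹ * (u'⁻¹ * p') * θ s0 := by rw [← h1]; group
      _ = _ := by rw [← h, h2]; group
  pu := ((show Commute _ _ from R.pu).conj (θ k0)).inv_left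
  zY := by
    rw [show (θ k0 * g)⁻¹ * z * (θ k0 * g) = g⁻¹ * ((θ k0)⁻¹ * (z * θ k0)) * g by group, ← R.θz, inv_mul_cancel_left]
    exact R.zY
  sY := by
    rw [← inv_mem_iff, show ((θ k0 * g)⁻¹ * θ s0 * (θ k0 * g))⁻¹ = (θ k0 * g)⁻¹ * (θ s0)⁻¹ * (θ k0 * g) by group, ← ks]
    simpa only [mul_inv_rev, mul_assoc, inv_mul_cancel_left] using R.sY
  pY := by simpa only [mul_inv_rev, inv_inv, mul_assoc, inv_mul_cancel_left] using inv_mem R.pY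

theorem rel [Finite G] (h : p * (θ k0 * u * (θ k0)⁻¹) * p⁻¹ = θ k0 * u * (θ k0)⁻¹ * z) : Rel z Q θ g u p :=
  { R with
    uu := R.uu, pu' := h, ind := R.ind, genQ := R.genQ
    cy := fun v hv vZ sv h hz hv' => by
      obtain ⟨a, ha, _, ⟨m, rfl⟩, rfl⟩ := cy R.toHyp hv vZ sv hz hv'
      exact mul_mem (mem_sup_left ha) (mem_sup_right ⟨m, (map_zpow θ s0 m).symm⟩)
    cj := fun h v e hv vZ tv sv => by
      subst e
      obtain ⟨-, -, p, hp, -, -, h1, h2⟩ := cj R.toHyp (R.toEx.b1_map (MulAut.conj h)) hv vZ tv sv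
      exact ⟨p, hp, h1, h2⟩ }

end Rel0

end A1x

open A1x in
theorem a1Thm : A1Thm.{u} := fun {G} _ _ {z Q θ} F => by
  obtain ⟨g, u, rfl, hu, uZ, tu, su⟩ := ex1 F
  obtain ⟨h1, h2, p, hp, h3, tp, ps, pu⟩ := cj F (F.toEx.b1_map (MulAut.conj g)) hu uZ tu su
  have R : Rel0 z Q θ g _ p := ⟨F, rfl, hu, uZ, tu, su, hp, tp, ps, pu, mem_map_equiv.1 h1, mem_map_equiv.1 h2,
    mem_map_equiv.1 h3⟩
  generalize g * z * g⁻¹ = u at R
  obtain ⟨w, hw, e⟩ := F.toEx.cj_eq hp (F.toEx.cj (F.θz k0) R.uQ)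
  obtain rfl | rfl | rfl := tri3 F.toEx.b1_z3 hw
  · rw [mul_one, mul_inv_eq_iff_eq_mul] at e
    have h := (show Commute _ _ from e).conj (θ k0)
    rw [R.kk', Commute.inv_right_iff] at h
    exact (R.uZ (F.ZQ u fun b hb => (mz.1 (R.genQ (centralizer {u}) (mz.2 (F.Qz u R.uQ).symm) (mz.2 rfl)
      (mz.2 R.uu.symm) (mz.2 R.pu) (mz.2 h) hb)).symm)).elim
  · exact ⟨_, _, _, R.rel e⟩
  · refine ⟨_, _, _, R.move.rel ?_⟩
    have h : p⁻¹ * (θ k0 * u * (θ k0)⁻¹) * p = θ k0 * u * (θ k0)⁻¹ * z := by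
      calc _ = p⁻¹ * (θ k0 * u * (θ k0)⁻¹ * z⁻¹) * (z * p) := by group
        _ = _ := by rw [← e, ← F.Qz p hp]; group
    calc _ = θ k0 * (p⁻¹ * (θ k0 * u * (θ k0)⁻¹) * p) * (θ k0)⁻¹ := by group
      _ = _ := by rw [h, ← conj_mul, Ex.conj_z (mem_zpowers z) (F.θz k0)]

end CL.HN3

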