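/-
The 3-local characterisation of the Harada–Norton group: coordinates on `J = 3 ^ 4`.
-/
import Cfsg.Agent.Hn3.Defs2
import Cfsg.Agent.Ast.B2b
import Cfsg.Agent.Ast.B1

set_option autoImplicit false
set_option synthInstance.maxSize 4096
set_option linter.unusedSectionVars false

namespace CL.HN3

open Subgroup Cfsg CL.Grp CL.Rec CL.Perm CL.G23 CL.McL3 CL.McL3.C27 CL.S9R CL.Ast Equiv
open scoped Pointwise

universe u

variable {G : Type u} [Group G]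

namespace A2x

def io (u u' z s : G) (v : V) : G :=
  u ^ (2 * v 0 + v 1 + 2 * v 2).val * u' ^ (v 0 + v 1 + 2 * v 2).val * z ^ (v 1 + v 2 + 2 * v 3).val *
    s ^ (v 1 + v 2 + v 3).val

def cmb (γ : V → V) (v : V) : V :=
  (2 * v 0 + v 1 + 2 * v 2).val • γ yv + (v 0 + v 1 + 2 * v 2).val • γ uw + (v 1 + v 2 + 2 * v 3).val • γ zv +
    (v 1 + v 2 + v 3).val • γ zp

def JJ (u u' z s : G) : Subgroup G := closure (Set.range (io u u' z s))

theorem c_a2 : (∀ v : V, 2 * v 0 + v 1 + 2 * v 2 = 0 → v 0 + v 1 + 2 * v 2 = 0 → v 1 + v 2 + 2 * v 3 = 0 →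
      v 1 + v 2 + v 3 = 0 → v = 0) ∧
    (∀ v, kM v = cmb kM v ∧ b3mu (1, 1) v = cmb (b3mu (1, 1)) v ∧ kM (kM v) = tH v ∧ kM (kM (tH v)) = v ∧
      kM (b3mu (1, 1) (kM (tH v))) = b3mu (1, 2) v) ∧
    (∀ π, b3mu π yv = yv → b3mu π zp = zp → π = 0) ∧
    ∀ π, b3mu π (e4 0) = e4 0 → b3mu π zp ≠ zp - e4 0 := by
  refine ⟨?_, ?_, ?_, ?_⟩ <;> decide +kernel

theorem lin_inv {ι : V → G} {g : G} {π : Fin 3 × Fin 3} (h : Lin ι g (b3mu π)) : Lin ι g⁻¹ (b3mu (-π)) :=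
  h.inv fun v => by rw [b3_mu1, add_neg_cancel]; rfl

theorem ioy (u u' z s : G) : io u u' z s yv = u := by
  rw [io, show (2 * yv 0 + yv 1 + 2 * yv 2).val = 1 from rfl, show (yv 0 + yv 1 + 2 * yv 2).val = 0 from rfl,
    show (yv 1 + yv 2 + 2 * yv 3).val = 0 from rfl, show (yv 1 + yv 2 + yv 3).val = 0 from rfl]
  simp

theorem iou (u u' z s : G) : io u u' z s uw = u' := by
  rw [io, show (2 * uw 0 + uw 1 + 2 * uw 2).val = 0 from rfl, show (uw 0 + uw 1 + 2 * uw 2).val = 1 from rfl,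
    show (uw 1 + uw 2 + 2 * uw 3).val = 0 from rfl, show (uw 1 + uw 2 + uw 3).val = 0 from rfl]
  simp

theorem ioz (u u' z s : G) : io u u' z s zv = z := by
  rw [io, show (2 * zv 0 + zv 1 + 2 * zv 2).val = 0 from rfl, show (zv 0 + zv 1 + 2 * zv 2).val = 0 from rfl,
    show (zv 1 + zv 2 + 2 * zv 3).val = 1 from rfl, show (zv 1 + zv 2 + zv 3).val = 0 from rfl]
  simp

theorem ios (u u' z s : G) : io u u' z s zp = s := by
  rw [io, show (2 * zp 0 + zp 1 + 2 * zp 2).val = 0 from rfl, show (zp 0 + zp 1 + 2 * zp 2).val = 0 from rfl,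
    show (zp 1 + zp 2 + 2 * zp 3).val = 0 from rfl, show (zp 1 + zp 2 + zp 3).val = 1 from rfl]
  simp

variable {z g u p : G} {Q : Subgroup G} {θ : L5 →* G} (R : Rel z Q θ g u p)

set_option hygiene false in
local notation "u₁" => θ k0 * u * (θ k0)⁻¹
set_option hygiene false in
local notation "p₁" => θ k0 * p * (θ k0)⁻¹
set_option hygiene false in
local notation "ι₀" => io u (θ k0 * u * (θ k0)⁻¹) z (θ s0)
set_option hygiene false in
local notation "J₀" => JJ u (θ k0 * u * (θ k0)⁻¹) z (θ s0)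

include R

theorem θt (b : L5) : θ b * θ (-1) = θ (-1) * θ b := by rw [← map_mul, ← map_mul, mul_neg, neg_mul, mul_one, one_mul]

theorem zt {a : G} (ha : a ∈ Q) (h : a * θ (-1) = θ (-1) * a) : a ∈ zpowers z :=
  R.toEx.z_of_Q1 (R.toEx.mem_Q1.2 ⟨ha, R.inv a ha⟩) h

theorem θQ {b : L5} (h : θ b ∈ Q) : b = 1 := by
  have k : ∀ c, b * c = c * b := fun c => R.θinj (by
    rw [map_mul, map_mul, Ex.cz (zt R h (θt R b)) (R.θz c)])
  refine (S25.cq b (k _) (k _)).resolve_right fun e => ?_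
  have := R.Q3 _ h
  rw [← map_pow, ← map_one θ, e] at this
  exact absurd (R.θinj this) (by decide +kernel)

theorem sQ : θ s0 ∉ Q := fun h => S25.rel.2.1 (θQ R h)
theorem s3 : θ s0 ^ 3 = 1 := by rw [← map_pow, S25.rel.1, map_one]
theorem kk : θ k0 * θ k0 = θ (-1) := by rw [← map_mul, S25.rel.2.2.1]
theorem ks : θ k0 * θ s0 * (θ k0)⁻¹ = (θ s0)⁻¹ := by rw [← map_inv, ← map_mul, ← map_mul, S25.rel.2.2.2.1, map_inv]
theorem u1Q : u₁ ∈ Q := R.toEx.cj (R.θz _) R.uQ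
theorem p1Q : p₁ ∈ Q := R.toEx.cj (R.θz _) R.pQ

theorem su1 : Commute (θ s0) u₁ := by
  have := ((show Commute (θ s0) u from R.su).inv_left).conj (θ k0)
  rwa [← conj_inv, ks R, inv_inv] at this

theorem add (v w : V) : ι₀ (v + w) = ι₀ v * ι₀ w := by
  have uu : Commute u₁ u := R.uu.symm
  have zu : Commute z u := (R.Qz u R.uQ).symm
  have zu1 : Commute z u₁ := (R.Qz _ (u1Q R)).symm
  have su : Commute (θ s0) u := R.su
  have sz : Commute (θ s0) z := R.θz _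
  have e : ∀ {x y : G}, Commute x y → ∀ (a b : ℕ) (h : G), x ^ a * (y ^ b * h) = y ^ b * (x ^ a * h) :=
    fun k a b h => (k.pow_pow a b).left_comm h
  have s1 := su1 R
  have a1 := R.Q3 _ (u1Q R)
  generalize u₁ = u' at *
  simp only [io, Pi.add_apply]
  rw [show 2 * (v 0 + w 0) + (v 1 + w 1) + 2 * (v 2 + w 2) = (2 * v 0 + v 1 + 2 * v 2) + (2 * w 0 + w 1 + 2 * w 2) by ring,
    show v 0 + w 0 + (v 1 + w 1) + 2 * (v 2 + w 2) = (v 0 + v 1 + 2 * v 2) + (w 0 + w 1 + 2 * w 2) by ring,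
    show v 1 + w 1 + (v 2 + w 2) + 2 * (v 3 + w 3) = (v 1 + v 2 + 2 * v 3) + (w 1 + w 2 + 2 * w 3) by ring,
    show v 1 + w 1 + (v 2 + w 2) + (v 3 + w 3) = (v 1 + v 2 + v 3) + (w 1 + w 2 + w 3) by ring,
    B2b.pwa (R.Q3 u R.uQ), B2b.pwa a1, B2b.pwa (R.Q3 z R.zQ), B2b.pwa (s3 R)]
  simp only [mul_assoc]
  rw [e su, e zu, e uu, e s1, e zu1, e sz]

theorem ker {v : V} (h : ι₀ v = 1) : v = 0 := by
  rw [io] at h
  have k4 : v 1 + v 2 + v 3 = 0 := (B2b.pw0 (s3 R) ((mul_mem_cancel_left (mul_mem (mul_mem (pow_mem R.uQ _)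
    (pow_mem (u1Q R) _)) (pow_mem R.zQ _))).1 (h ▸ one_mem Q))).resolve_left (sQ R)
  rw [k4, ZMod.val_zero, pow_zero, mul_one] at h
  have k2 : v 0 + v 1 + 2 * v 2 = 0 := (B2b.pw0 (R.Q3 _ (u1Q R)) ((mul_mem_cancel_left
    (mem_sup_right (pow_mem (mem_zpowers u) _))).1 ((mul_mem_cancel_right
      (mem_sup_left (pow_mem (mem_zpowers z) _))).1 (h ▸ one_mem _)))).resolve_left R.ind
  rw [k2, ZMod.val_zero, pow_zero, mul_one] at h
  have k1 : 2 * v 0 + v 1 + 2 * v 2 = 0 := (B2b.pw0 (R.Q3 _ R.uQ)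
    ((mul_mem_cancel_right (pow_mem (mem_zpowers z) _)).1 (h ▸ one_mem _))).resolve_left R.uZ
  rw [k1, ZMod.val_zero, pow_zero, one_mul] at h
  exact c_a2.1 v k1 k2 ((B2b.pw0 (K := ⊥) (R.Q3 z R.zQ) h).resolve_left fun e => ne_one_of_ord3 R.oz (mem_bot.1 e)) k4

theorem emb : Emb ι₀ J₀ := by
  have z0 : ι₀ 0 = 1 := by simp [io]
  have ng : ∀ v, ι₀ (-v) = (ι₀ v)⁻¹ := fun v =>
    eq_inv_of_mul_eq_one_left (by rw [← add R, neg_add_cancel, z0])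
  refine ⟨add R, fun v w e => sub_eq_zero.1 (ker R ?_), fun x => ⟨fun hx => ?_, fun hx => subset_closure hx⟩⟩
  · rw [sub_eq_add_neg, add R, ng, e, mul_inv_cancel]
  · induction hx using closure_induction with
    | mem y hy => exact hy
    | one => exact ⟨0, z0⟩
    | mul a b _ _ ha hb =>
      obtain ⟨v, rfl⟩ := ha
      obtain ⟨w, rfl⟩ := hb
      exact ⟨_, add R v w⟩
    | inv a _ ha =>
      obtain ⟨v, rfl⟩ := ha
      exact ⟨_, ng v⟩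

theorem lin_of {x : G} {γ : V → V} (h : ∀ v, γ v = cmb γ v) (h1 : x * u * x⁻¹ = ι₀ (γ yv))
    (h2 : x * u₁ * x⁻¹ = ι₀ (γ uw)) (h3 : x * z * x⁻¹ = ι₀ (γ zv)) (h4 : x * θ s0 * x⁻¹ = ι₀ (γ zp)) :
    Lin ι₀ x γ := fun v => by
  have E := emb R
  rw [h v, cmb, E.add, E.add, E.add, E.nsmul, E.nsmul, E.nsmul, E.nsmul, ← h1, ← h2, ← h3, ← h4, io]
  generalize u₁ = u'
  simp only [conj_pow, conj_mul]

theorem lk : Lin ι₀ (θ k0) kM := lin_of R (fun v => (c_a2.2.1 v).1)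
  (by rw [show kM yv = uw by decide, iou])
  (by rw [show kM uw = -yv by decide, (emb R).neg, ioy, ← R.tu, ← kk R]; group)
  (by rw [show kM zv = zv by decide, ioz, R.θz, mul_inv_cancel_right])
  (by rw [show kM zp = -zp by decide, (emb R).neg, ios, ks R])

theorem lt : Lin ι₀ (θ (-1)) tH := kk R ▸ ((lk R).mul (lk R)).congr fun v => (c_a2.2.1 v).2.2.1

theorem lp : Lin ι₀ p (b3mu (1, 1)) := lin_of R (fun v => (c_a2.2.1 v).2.1)
  (by rw [show b3mu (1, 1) yv = yv by decide, ioy, R.pu, mul_inv_cancel_right])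
  (by rw [show b3mu (1, 1) uw = uw + zv by decide, add R, iou, ioz, R.pu'])
  (by rw [show b3mu (1, 1) zv = zv by decide, ioz, R.Qz p R.pQ, mul_inv_cancel_right])
  (by rw [show b3mu (1, 1) zp = zp - yv by decide, (emb R).sub, ios, ioy, R.ps])

theorem lp1 : Lin ι₀ p₁ (b3mu (1, 2)) :=
  (((lk R).mul (lp R)).mul ((lk R).inv fun v => (c_a2.2.1 v).2.2.2.1)).congr fun v => (c_a2.2.1 v).2.2.2.2

theorem lq : Lin ι₀ (p⁻¹ * p₁) (b3mu (0, 1)) := by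
  have := b3_lin_mul (lin_inv (lp R)) (lp1 R)
  rwa [(by decide : -((1, 1) : Fin 3 × Fin 3) + (1, 2) = (0, 1))] at this

theorem ln : Lin ι₀ (p * (p⁻¹ * p₁)⁻¹) (b3mu (1, 0)) := by
  have := b3_lin_mul (lp R) (lin_inv (lq R))
  rwa [(by decide : ((1, 1) : Fin 3 × Fin 3) + -(0, 1) = (1, 0))] at this

theorem uJ : u ∈ J₀ := ((emb R).mem _).2 ⟨_, ioy ..⟩
theorem u1J : u₁ ∈ J₀ := ((emb R).mem _).2 ⟨_, iou ..⟩
theorem zJ : z ∈ J₀ := ((emb R).mem _).2 ⟨_, ioz ..⟩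
theorem sJ : θ s0 ∈ J₀ := ((emb R).mem _).2 ⟨_, ios ..⟩

theorem cmJ {a b : G} (ha : a ∈ J₀) (hb : b ∈ J₀) : a * b = b * a := by
  obtain ⟨v, rfl⟩ := ((emb R).mem a).1 ha
  obtain ⟨w, rfl⟩ := ((emb R).mem b).1 hb
  exact (emb R).comm v w

theorem linS {x : G} (hx : x ∈ Q ⊔ zpowers (θ s0)) : ∃ π, Lin ι₀ x (b3mu π) := by
  let K : Subgroup G :=
    { carrier := {x | ∃ π, Lin ι₀ x (b3mu π)}
      one_mem' := ⟨0, Lin.one _⟩
      mul_mem' := fun ⟨_, h⟩ ⟨_, h'⟩ => ⟨_, b3_lin_mul h h'⟩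
      inv_mem' := fun ⟨_, h⟩ => ⟨_, lin_inv h⟩ }
  have k : ∀ {j}, j ∈ J₀ → j ∈ K := fun h => ⟨0, (emb R).lin_id h⟩
  exact sup_le (R.genQ K (k (zJ R)) (k (uJ R)) (k (u1J R)) ⟨_, lp R⟩ ⟨_, lp1 R⟩) (zpowers_le.2 (k (sJ R))) hx

theorem JS : J₀ ≤ Q ⊔ zpowers (θ s0) := fun x hx => by
  obtain ⟨v, rfl⟩ := ((emb R).mem x).1 hx
  exact mul_mem (mem_sup_left (mul_mem (mul_mem (pow_mem R.uQ _) (pow_mem (u1Q R) _)) (pow_mem R.zQ _)))
    (mem_sup_right (pow_mem (mem_zpowers _) _))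

theorem cy {x : G} (hx : x * z = z * x) (h : x * u = u * x) : x ∈ Q ⊔ zpowers (θ s0) := R.cy u R.uQ R.uZ R.su x hx h

theorem e0Q : ι₀ (e4 0) ∈ Q := by
  rw [show e4 0 = uw - yv by decide, (emb R).sub, iou, ioy]
  exact mul_mem (u1Q R) (inv_mem R.uQ)

theorem e0Z : ι₀ (e4 0) ∉ zpowers z := fun h =>
  absurd (((emb R).mem_zpowers' (v := zv) (w := e4 0)).1 (by rwa [ioz])) (by decide)

theorem nc : ¬ IsConj z (ι₀ (e4 0)) := fun h => by
  have E := emb R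
  obtain ⟨h, e⟩ := isConj_iff.1 h
  obtain ⟨a, ha, k1, k2⟩ := R.cj h _ e (e0Q R) (e0Z R) (by rw [lt R, show tH (e4 0) = -e4 0 by decide, E.neg])
    (cmJ R (sJ R) (E.memJ _))
  obtain ⟨π, L⟩ := linS R (mem_sup_left ha)
  refine c_a2.2.2.2 π (E.fix L k2) (E.inj ?_)
  rw [← L, E.sub, ios, k1]

variable [Finite G]

theorem SN : Q ⊔ zpowers (θ s0) ≤ normalizer (J₀ : Set G) := fun _ hx => (linS R hx).elim fun _ L => (emb R).norm L

theorem decS {x : G} (hx : x ∈ Q ⊔ zpowers (θ s0)) : ∃ a ∈ Q, ∃ k : ℕ, x = a * θ s0 ^ k := by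
  obtain ⟨a, ha, b, hb, rfl⟩ := (CL.Odd.mem_sup_norm (zpowers_le.2 (R.toEx.nC (R.θz s0)))).1 hx
  obtain ⟨k, rfl⟩ := mem_powers_iff_mem_zpowers.2 hb
  exact ⟨a, ha, k, rfl⟩

theorem cJ {x : G} (h : Lin ι₀ x id) : x ∈ J₀ := by
  have c : ∀ v, Commute x (ι₀ v) := fun v => h.commute rfl
  obtain ⟨a, ha, k, rfl⟩ := decS R (cy R (by simpa only [ioz] using (c zv).eq) (by simpa only [ioy] using (c yv).eq))
  refine mul_mem ?_ (pow_mem (sJ R) k)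
  have c' : ∀ v, a ∈ centralizer {ι₀ v} := fun v => mem_centralizer_singleton_iff.2 (by
    have := (c v).mul_left (show Commute (θ s0 ^ k) _ from cmJ R (pow_mem (sJ R) k) ((emb R).memJ v)).inv_left
    rwa [mul_inv_cancel_right] at this)
  have mc := @mem_centralizer_singleton_iff G _
  have k1 := R.toEx.b1_card (A := Q ⊓ centralizer {u}) inf_le_left (u1Q R) fun e => ne_one_of_ord3 R.oz (by
    have := R.pu'
    rwa [mc.1 (e ⟨R.pQ, mc.2 R.pu⟩), mul_inv_cancel_right, left_eq_mul] at this)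
  have k2 := R.toEx.b1_sup le_sup_left (sup_le R.toEx.ZleQ (zpowers_le.2 R.uQ)) (u1Q R) R.ind
  rw [R.toEx.b1_81 R.uQ R.uZ] at k1
  rw [R.toEx.b1_sup9 R.uQ R.uZ] at k2
  have k3 : zpowers z ⊔ zpowers u ⊔ zpowers u₁ = Q ⊓ centralizer {u} ⊓ centralizer {u₁} :=
    eq_of_le_of_card_ge (sup_le (sup_le
      (zpowers_le.2 ⟨⟨R.zQ, mc.2 (R.Qz u R.uQ).symm⟩, mc.2 (R.Qz _ (u1Q R)).symm⟩)
      (zpowers_le.2 ⟨⟨R.uQ, mc.2 rfl⟩, mc.2 R.uu⟩)) (zpowers_le.2 ⟨⟨u1Q R, mc.2 R.uu.symm⟩, mc.2 rfl⟩)) (by omega)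
  exact sup_le (sup_le (zpowers_le.2 (zJ R)) (zpowers_le.2 (uJ R))) (zpowers_le.2 (u1J R))
    (k3.ge (mem_inf.2 ⟨mem_inf.2 ⟨ha, by simpa only [ioy] using c' yv⟩, by simpa only [iou] using c' uw⟩))

theorem memS {x : G} (hx : x ∈ Q ⊔ zpowers (θ s0)) :
    ∃ j ∈ J₀, ∃ a b : ℕ, x = j * (p * (p⁻¹ * p₁)⁻¹) ^ a * (p⁻¹ * p₁) ^ b := by
  obtain ⟨π, L⟩ := linS R hx
  have k := b3_lin_mul L (lin_inv (b3_lin_mul (b3_lin_pow (ln R) π.1.1) (b3_lin_pow (lq R) π.2.1)))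
  rw [(by decide : ∀ π : Fin 3 × Fin 3, π + -(π.1.1 • (1, 0) + π.2.1 • (0, 1)) = 0)] at k
  exact ⟨_, cJ R k, π.1.1, π.2.1, by rw [mul_assoc, inv_mul_cancel_right]⟩

theorem cardS : Nat.card ↥(Q ⊔ zpowers (θ s0)) = 3 ^ 6 := by
  have os := ord3 (s3 R) fun k => sQ R (k ▸ one_mem _)
  rw [sup_comm, card_sup_of_inf_eq_bot (zpowers_le.2 (R.toEx.nC (R.θz s0))) (eq_bot_iff.2 fun x hx => by
    rcases (mem_zpowers_three os).1 hx.1 with rfl | rfl | rfl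
    exacts [one_mem _, absurd hx.2 (sQ R), absurd (Q.inv_mem_iff.1 hx.2) (sQ R)]), Nat.card_zpowers, os, R.cQ]
  rfl

theorem syl : IsSylowIn 3 (Q ⊔ zpowers (θ s0)) ⊤ := by
  have := Fact.mk Nat.prime_three
  refine ⟨le_top, .of_card (cardS R), fun h => R.c3 ?_⟩
  rw [relIndex_top_right] at h
  rw [← (Q ⊔ zpowers (θ s0)).card_mul_index, cardS R, pow_succ]
  exact Nat.mul_dvd_mul_left _ h

theorem czt {x : G} (hx : x * z = z * x) (ht : x * θ (-1) = θ (-1) * x) : ∃ (i : ℕ) (b : L5), x = z ^ i * θ b := by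
  obtain ⟨a, ha, b, rfl⟩ := R.dec x hx
  have := (show Commute _ _ from ht).mul_left (show Commute (θ b) _ from θt R b).inv_left
  rw [mul_inv_cancel_right] at this
  obtain ⟨i, rfl⟩ := mem_powers_iff_mem_zpowers.2 (zt R ha this)
  exact ⟨i, b, rfl⟩

theorem cze {x : G} (hx : x * z = z * x) (h : x * ι₀ (e4 0) * x⁻¹ ∈ zpowers (ι₀ (e4 0))) :
    x ∈ normalizer (J₀ : Set G) := by
  have E := emb R
  have k := fun y h1 h2 => SN R (R.cy _ (e0Q R) (e0Z R) (cmJ R (sJ R) (E.memJ _)) y h1 h2)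
  rcases E.mem_zpowers.1 h with e | e | e
  · exact absurd (E.eq_one.1 (conj_eq_one_iff.1 e)) (by decide)
  · exact k x hx (mul_inv_eq_iff_eq_mul.1 e)
  · refine (mul_mem_cancel_right (E.norm (lt R))).1 (k _ (Commute.mul_left hx (R.θz _)) (mul_inv_eq_iff_eq_mul.1 ?_))
    calc _ = x * (θ (-1) * ι₀ (e4 0) * (θ (-1))⁻¹) * x⁻¹ := by group
      _ = _ := by rw [lt R, show tH (e4 0) = -e4 0 by decide, E.neg, ← conj_inv, e, E.neg, inv_inv]

theorem nfz {x : G} (hN : x ∈ normalizer (J₀ : Set G)) (hx : x * z = z * x) :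
    ∃ s ∈ Q ⊔ zpowers (θ s0), ∃ i : ℕ, x = s * θ k0 ^ i := by
  obtain ⟨a, ha, b, rfl⟩ := R.dec x hx
  obtain ⟨a', ha', k, e⟩ := decS R (JS R ((mem_normalizer_iff.1
    ((mul_mem_cancel_left (SN R (mem_sup_left ha))).1 hN) _).1 (sJ R)))
  have e1 : b * s0 * b⁻¹ * (s0 ^ k)⁻¹ = 1 := θQ R (by
    rwa [map_mul, map_mul, map_mul, map_inv, map_inv, map_pow, e, mul_inv_cancel_right])
  have e2 : b * s0 * b⁻¹ ∈ zpowers s0 := mul_inv_eq_one.1 e1 ▸ pow_mem (mem_zpowers _) k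
  obtain ⟨i, j, rfl⟩ := S25.ns b (((mem_zpowers_three (ord3 S25.rel.1 S25.rel.2.1)).1 e2).resolve_left fun k =>
    S25.rel.2.1 (conj_eq_one_iff.1 k))
  exact ⟨_, mul_mem (mem_sup_left ha) (mem_sup_right (pow_mem (mem_zpowers _) i.1)), j.1, by
    rw [map_mul, map_pow, map_pow, mul_assoc]⟩

theorem cen3 {x : G} (hx : x * z = z * x) (h : x * u = u * x) (hs : x * θ s0 = θ s0 * x) : x ∈ J₀ := by
  obtain ⟨π, L⟩ := linS R (cy R hx h)
  obtain rfl := c_a2.2.2.1 π ((emb R).fix L (by rwa [ioy])) ((emb R).fix L (by rwa [ios]))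
  exact cJ R L

theorem exx : ∃ x ∈ normalizer (J₀ : Set G), x * u = u * x ∧ x * z * x⁻¹ = z * u ∧
    ∀ w, g⁻¹ * w * g ∈ Q → x * w * x⁻¹ * w⁻¹ ∈ zpowers u := by
  have E := emb R
  have cz : ∀ {w}, w ∈ zpowers z → g * w * g⁻¹ ∈ zpowers u := fun ⟨k, hk⟩ =>
    ⟨k, by rw [← R.gz, ← hk]; exact conj_zpow⟩
  have cm : ∀ b ∈ Q, ∀ w, g⁻¹ * w * g ∈ Q → g * b * g⁻¹ * w * (g * b * g⁻¹)⁻¹ * w⁻¹ ∈ zpowers u :=
    fun b hb w hw => by
      simpa only [mul_inv_rev, inv_inv, mul_assoc, mul_inv_cancel_left, mul_inv_cancel, mul_one]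
        using cz (R.cmQ b hb _ hw)
  have yJ := zpowers_le.2 (uJ R)
  obtain ⟨b, hb, e⟩ : ∃ b ∈ Q, b * (g⁻¹ * z * g) * b⁻¹ = g⁻¹ * z * g * z := by
    obtain ⟨b, hb, k⟩ : ∃ b ∈ Q, g⁻¹ * z * g * b ≠ b * (g⁻¹ * z * g) := by
      by_contra! k
      have := cz (R.ZQ _ k)
      rw [show g * (g⁻¹ * z * g) * g⁻¹ = z by group] at this
      exact absurd ((E.mem_zpowers' (v := yv) (w := zv)).1 (by rwa [ioz, ioy])) (by decide)
    obtain ⟨w, hw, e⟩ := R.toEx.cj_eq hb R.zY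
    rcases (mem_zpowers_three R.oz).1 hw with rfl | rfl | rfl
    · exact absurd (mul_inv_eq_iff_eq_mul.1 (e.trans (mul_one _))).symm k
    · exact ⟨b, hb, e⟩
    · refine ⟨b⁻¹, inv_mem hb, ?_⟩
      calc _ = b⁻¹ * (g⁻¹ * z * g * z⁻¹ * z) * b := by group
        _ = g⁻¹ * z * g * (b⁻¹ * (z * b)) := by rw [← e]; group
        _ = _ := by rw [← R.Qz b hb]; group
  refine ⟨g * b * g⁻¹, mem_normalizer_fintype fun j hj => ?_,
    by rw [← R.gz, conj_mul, conj_mul, R.Qz b hb], ?_, cm b hb⟩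
  · have k : ∀ w ∈ J₀, g⁻¹ * w * g ∈ Q → g * b * g⁻¹ * j * (g * b * g⁻¹)⁻¹ * w =
        w * (g * b * g⁻¹ * j * (g * b * g⁻¹)⁻¹) := fun w h1 h2 => by
      have := cmJ R hj ((mul_mem_cancel_right (inv_mem h1)).1 (yJ (cm _ (inv_mem hb) w h2)))
      calc _ = g * b * g⁻¹ * (j * (g * b⁻¹ * g⁻¹ * w * (g * b⁻¹ * g⁻¹)⁻¹)) * (g * b * g⁻¹)⁻¹ := by group
        _ = _ := by rw [this]; group
    exact cen3 R (k z (zJ R) R.zY) (k _ (uJ R) (by rw [← R.gz]; simpa [mul_assoc] using R.zQ)) (k _ (sJ R) R.sY)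
  · calc _ = g * (b * (g⁻¹ * z * g) * b⁻¹) * g⁻¹ := by group
      _ = _ := by rw [e, ← R.gz]; group

theorem sg {K : Subgroup G} (hK : (Nat.card K).Coprime 3) (hJ : J₀ ≤ normalizer (K : Set G))
    (hz : K ≤ centralizer {z}) : K = ⊥ := eq_bot_iff.2 fun k hk => by
  have kz := mem_centralizer_singleton_iff.1 (hz hk)
  have c1 : k * u * k⁻¹ * u⁻¹ ∈ K := by
    simpa only [mul_assoc] using mul_mem hk ((mem_normalizer_iff.1 (hJ (uJ R)) _).1 (inv_mem hk))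
  have kS := cy R kz (mul_inv_eq_iff_eq_mul.1 (mul_inv_eq_one.1 (B2b.one_of_cop hK c1
    (R.Q3 _ (mul_mem (R.toEx.cj kz R.uQ) (inv_mem R.uQ))))))
  exact orderOf_eq_one_iff.1 (Nat.eq_one_of_dvd_coprimes (hK.pow_right 6) (K.orderOf_dvd_natCard hk)
    (cardS R ▸ orderOf_dvd_natCard _ kS))

theorem pre : ∃ x, Pre ι₀ J₀ (Q ⊔ zpowers (θ s0)) θ (p⁻¹ * p₁) (p * (p⁻¹ * p₁)⁻¹) x := by
  have E := emb R
  have hz : ι₀ zv = z := ioz ..
  have hy : ι₀ yv = u := ioy ..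
  have qQ : p⁻¹ * p₁ ∈ Q := mul_mem (inv_mem R.pQ) (p1Q R)
  have nQ : p * (p⁻¹ * p₁)⁻¹ ∈ Q := mul_mem R.pQ (inv_mem qQ)
  obtain ⟨x, x1, x2, x3, x4⟩ := exx R
  exact ⟨x,
    { toEmb := E
      cJ := fun _ => cJ R
      lq := lq R
      ln := ln R
      q3 := R.Q3 _ qQ
      n3 := R.Q3 _ nQ
      syl := syl R
      JS := JS R
      nS := mem_sup_left nQ
      qS := mem_sup_left qQ
      memS := fun _ => memS R
      θinj := R.θinj
      lt := lt R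
      lk := lk R
      θs := (ios ..).symm
      θz := by rw [hz]; exact R.θz
      czt := by rw [hz]; exact fun _ => czt R
      cze := by rw [hz]; exact fun _ => cze R
      nc := by rw [hz]; exact nc R
      cy := by rw [hz, hy]; exact fun _ => cy R
      nfz := by rw [hz]; exact fun _ => nfz R
      xN := x1
      xy := by rwa [hy]
      xz := by rwa [E.add, hz, hy]
      xs := by
        rw [hy]
        refine x4 _ ?_
        rw [show e4 3 = zp - zv by decide, E.sub, hz, ios]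
        simpa [mul_assoc] using mul_mem R.sY (inv_mem R.zY)
      xw := zpowers_le.2 (uJ R) (x4 _ (by rw [inv_mul_cancel_right]; exact R.pY))
      sg := by rw [hz]; exact fun _ => sg R }⟩

end A2x

theorem a2Thm : A2Thm.{u} := fun R => (A2x.pre R).elim fun x h => ⟨_, _, _, _, _, x, h⟩

end CL.HN3
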