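/-
The 3-local characterisation of the Harada–Norton group, job A3: the structure of `N(J)`.
-/
import Cfsg.Agent.Hn3.Defs2
import Cfsg.Agent.Ast.B3a

set_option autoImplicit false
set_option synthInstance.maxSize 4096
set_option linter.unusedSectionVars false

namespace CL.HN3

open Subgroup Cfsg CL.Grp CL.McL3 CL.McL3.C27 CL.S9R CL.Ast Equiv CL.Ast.B3aJ

universe u

namespace A3x

/-- the action of a word -/
def ev (ξ : V → V) (w : List (Fin 4)) (v : V) : V := w.foldr (fun i u => ![nM, qM, ξ, kM] i u) v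

theorem d1 : ∀ β : ZMod 3, (∀ v, σ β (xM (σ (-β) v)) = xM v) ∨
    ∃ w ∈ [[3, 2, 1, 3, 2, 3, 2], [0, 2, 3, 2, 3, 0, 2]], ev (fun v => σ β (xM (σ (-β) v))) w zv = e4 0 := by
  decide +kernel

theorem d2 : ∀ v, v = 0 ∨ ∃ w ∈ [[], [2], [2, 0], [2, 1], [2, 2], [2, 3], [2, 2, 0], [2, 3, 0], [2, 2, 1], [2, 0, 2],
    [2, 3, 2], [2, 1, 3], [2, 2, 3], [2, 3, 2, 0], [2, 2, 3, 0], [2, 3, 2, 1], [2, 3, 0, 2], [2, 3, 2, 2], [2, 1, 3, 2],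
    [2, 2, 3, 2], [2, 2, 1, 3], [2, 3, 2, 3], [2, 3, 2, 0, 0], [2, 3, 1, 2, 0], [2, 1, 3, 2, 0], [2, 3, 2, 3, 0],
    [2, 1, 3, 2, 1], [2, 3, 2, 3, 1], [2, 2, 1, 3, 2], [2, 3, 2, 1, 3], [2, 3, 0, 2, 3], [2, 1, 3, 2, 3], [0], [3], [0, 0],
    [0, 2], [3, 3], [2, 0, 0], [0, 2, 0], [2, 1, 1], [3, 1, 1], [0, 2, 1], [3, 2, 1], [0, 2, 2], [3, 2, 3], [3, 3, 3],
    [3, 1, 2, 0], [3, 2, 2, 0]], qf v = 0 ∧ ev xM w v = zv ∨ qf v ≠ 0 ∧ ev xM w v = e4 0 := by decide +kernel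

theorem d4 : (∀ u, qf u = 1 ∧ qf (u + e4 0) = 2 → ∃ w ∈ [[], [1], [1, 1], [2, 2, 3, 2, 3, 0], [3, 1, 3, 2, 0, 2],
      [3, 2, 3, 1, 2, 1, 0]], ev xM w (e4 0) = e4 0 ∧ ev xM w (e4 1) = u) ∧
    ∀ u, qf u = 1 ∧ qf (u + e4 0) = 2 ∧ qf (u + e4 1) = 2 → ∃ w ∈ [[], [3, 2, 1, 3, 2, 0, 0], [2, 3, 2, 3, 2, 1, 0],
      [3, 3, 2, 3, 0, 2, 3, 0]], ev xM w (e4 0) = e4 0 ∧ ev xM w (e4 1) = e4 1 ∧ ev xM w (e4 2) = u := by
  decide +kernel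

theorem d5 : (∀ v, ev xM [3, 3, 2, 3, 2, 3, 0] v = q1M v) ∧ (∀ v, ev xM [1, 2, 3, 0, 2, 3, 1, 0] v = wM v) ∧
    (∀ v, ev xM [3, 1, 3, 1, 3, 2, 3, 2] v = d1M v) ∧ (∀ v, ev xM [2, 3, 1, 3, 1, 3, 2, 3] v = d2M v) ∧
    ∀ v, ev xM [3, 3, 2, 3, 2, 3, 2, 0] v = d3M v := by decide +kernel

theorem d6 : (∀ v, qf (kM v) = -1 * qf v) ∧ (∀ p, ∀ i : Fin 4, ¬ ∀ j, tM (e4 j) = b3mu p (kM^[i] (e4 j))) ∧
    tM zv = zv ∧ (∀ u ε, u = 0 ∨ u = e4 0 ∨ u = -e4 0 → ε * ε = 1 → qf u = ε * qf (e4 0) → ε = 1) ∧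
    Fintype.card {v // qf v ≠ 0} = 48 ∧ Fintype.card {u // qf u = 1 ∧ qf (u + e4 0) = 2} = 6 ∧
    Fintype.card {u // qf u = 1 ∧ qf (u + e4 0) = 2 ∧ qf (u + e4 1) = 2} = 4 ∧ qf (e4 0) ≠ 0 ∧
    (qf (e4 1) = 1 ∧ qf (e4 1 + e4 0) = 2) ∧ qf (e4 2) = 1 ∧ qf (e4 2 + e4 0) = 2 ∧ qf (e4 2 + e4 1) = 2 := by
  decide +kernel

/-- similarities -/
def Sim (γ : V → V) : Prop := ∃ ε : ZMod 3, ε * ε = 1 ∧ ∀ v, qf (γ v) = ε * qf v

theorem Sim.iso {γ : V → V} (h : ∀ v, qf (γ v) = qf v) : Sim γ := ⟨1, rfl, fun v => by rw [h, one_mul]⟩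

theorem Sim.comp {γ δ : V → V} (h : Sim γ) (h' : Sim δ) : Sim fun v => γ (δ v) :=
  let ⟨a, a1, a2⟩ := h; let ⟨b, b1, b2⟩ := h'
  ⟨a * b, by linear_combination b * b * a1 + b1, fun v => by rw [a2, b2, mul_assoc]⟩

theorem Sim.cancel {γ δ : V → V} (h : Sim γ) (h' : Sim fun v => γ (δ v)) : Sim δ :=
  let ⟨a, a1, a2⟩ := h; let ⟨b, b1, b2⟩ := h'
  ⟨a * b, by linear_combination b * b * a1 + b1, fun v => by
    linear_combination a * b2 v - a * a2 (δ v) - qf (δ v) * a1⟩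

theorem Sim.iter {γ : V → V} (h : Sim γ) : ∀ k : ℕ, Sim γ^[k]
  | 0 => .iso fun _ => rfl
  | k + 1 => (h.iter k).comp h

theorem sim_k : Sim kM := ⟨-1, by decide, d6.1⟩

theorem sim_ev : ∀ w, Sim (ev xM w)
  | [] => .iso fun _ => rfl
  | i :: w => by
    fin_cases i
    exacts [(Sim.iso b3_iso.1).comp (sim_ev w), (Sim.iso b3_iso.2.1).comp (sim_ev w),
      (Sim.iso b3_iso.2.2.1).comp (sim_ev w), sim_k.comp (sim_ev w)]

variable {G : Type u} [Group G] [Finite G] {ι : V → G} {J S : Subgroup G} {θ : L5 →* G} {q n x g : G} {γ : V → V}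

theorem orb (E : Emb ι J) (D : Subgroup G) (v : V) (I : V → Prop) [DecidablePred I]
    (h1 : ∀ d ∈ D, ∃ w, I w ∧ d * ι v * d⁻¹ = ι w) (h2 : ∀ w, I w → ∃ d ∈ D, d * ι v * d⁻¹ = ι w) :
    Nat.card D = Nat.card (D ⊓ centralizer {ι v} : Subgroup G) * Fintype.card {w // I w} := by
  let : MulAction D G := MulAction.compHom G (MulAut.conj.comp D.subtype)
  have e1 : MulAction.stabilizer D (ι v) = (centralizer {ι v}).subgroupOf D := by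
    ext d
    rw [MulAction.mem_stabilizer_iff, mem_subgroupOf, mem_centralizer_singleton_iff]
    exact mul_inv_eq_iff_eq_mul
  have e2 : MulAction.orbit D (ι v) = ι '' {w | I w} := by
    ext t
    exact ⟨by rintro ⟨d, rfl⟩; exact (h1 d d.2).imp fun _ h => ⟨h.1, h.2.symm⟩, by
      rintro ⟨w, hw, rfl⟩
      obtain ⟨d, hd, e⟩ := h2 w hw
      exact ⟨⟨d, hd⟩, e⟩⟩
  rw [← Nat.card_eq_fintype_card, show Nat.card {w // I w} = {w | I w}.ncard from rfl,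
    ← Set.ncard_image_of_injective _ E.inj, ← e2, ← MulAction.index_stabilizer, e1, inf_comm, ← relIndex,
    card_inf_mul_relIndex]

variable (F : Pre ι J S θ q n x)
include F

theorem word {ξ : V → V} (h : Lin ι g ξ) : ∀ w : List (Fin 4), ∃ k, Lin ι k (ev ξ w)
  | [] => ⟨1, Lin.one ι⟩
  | i :: w => by
    obtain ⟨k, h1⟩ := word h w
    fin_cases i
    exacts [⟨_, F.ln.mul h1⟩, ⟨_, F.lq.mul h1⟩, ⟨_, h.mul h1⟩, ⟨_, F.lk.mul h1⟩]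

theorem exx : ∃ x1, Lin ι x1 xM := by
  have E := F.toC0.toEmb
  obtain ⟨c1, c2, c3, -⟩ := d3
  obtain ⟨γ, hγ⟩ := E.exists_lin F.xN
  obtain ⟨g, hg⟩ := c2 (γ (e4 3)) (E.mem_zpowers'.1 (by rw [E.sub, ← hγ]; exact F.xs))
  have hx : Lin ι x (Xm (γ (e4 0)) g) := hγ.congr fun v => by
    have sm := ZMod.map_smul (n := 3) (AddMonoidHom.mk' γ (E.lin_add hγ))
    simp only [AddMonoidHom.mk'_apply] at sm
    conv_lhs => rw [c1 v]
    rw [E.lin_add hγ, E.lin_add hγ, E.lin_add hγ, sm, sm, sm, sm, E.fix hγ F.xy, E.inj ((hγ zv).symm.trans F.xz), hg, Xm]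
  generalize γ (e4 0) = u at hx
  have hw : Lin ι (n * q) mw := F.ln.mul F.lq
  obtain ⟨k1, k2, k3⟩ := cert u g (E.lin_ext (hx.mul hw) (by
    rw [show x * (n * q) = x * (n * q) * x⁻¹ * (n * q)⁻¹ * (n * q * x) by group]
    exact (E.lin_id F.xw).mul (hw.mul hx)) (e4 0))
  have hW : Lin ι (x * (n * (x * (q * (x * (n * x)))))) (Wm u g) :=
    hx.mul (F.ln.mul (hx.mul (F.lq.mul (hx.mul (F.ln.mul hx)))))
  obtain ⟨j, hj, a, b, e⟩ := F.memS _ (F.cy _ (hW.commute k1) (hW.commute k2))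
  rw [pow_eq_pow_mod a F.n3, pow_eq_pow_mod b F.q3] at e
  obtain ⟨β, l, k⟩ := k3 ⟨a % 3, Nat.mod_lt _ (by decide)⟩ ⟨b % 3, Nat.mod_lt _ (by decide)⟩ (E.lin_ext hW
    (e ▸ ((E.lin_id hj).mul (lin_pow F.ln _)).mul (lin_pow F.lq _)) (e4 0))
  have h1 : Lin ι _ fun v => σ β (xM (σ (-β) v)) := (hx.mul (lin_pow hw l)).congr fun v => by rw [← k, (c3 β v).2]
  rcases d1 β with h | ⟨w, -, h⟩
  · exact ⟨_, h1.congr h⟩
  · obtain ⟨y, hy⟩ := word F h1 w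
    exact absurd (isConj_iff.2 ⟨y, (hy zv).trans (congrArg ι h)⟩) F.nc

theorem wd (w : List (Fin 4)) : ∃ k, Lin ι k (ev xM w) := let ⟨_, h⟩ := exx F; word F h w

theorem cz (h : Lin ι g γ) (e : γ zv = zv) : ∃ p, ∃ i : Fin 4, ∀ v, γ v = b3mu p (kM^[i] v) := by
  have E := F.toC0.toEmb
  obtain ⟨s, hs, i, rfl⟩ := F.nfz g (E.norm h) (h.commute e)
  obtain ⟨p, hp⟩ := F.toC0.linS hs
  rw [pow_eq_pow_mod i (show θ k0 ^ 4 = 1 by rw [show 4 = 2 * 2 from rfl, pow_mul, pow_two, pow_two, F.toTh.kk, F.toTh.tt])] at h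
  exact ⟨p, ⟨i % 4, Nat.mod_lt _ (by decide)⟩, E.lin_ext h (hp.mul (lin_pow F.lk _))⟩

theorem sim (h : Lin ι g γ) : Sim γ := by
  have E := F.toC0.toEmb
  rcases d2 (γ zv) with e | ⟨w, -, e⟩
  · have := h zv
    rw [e, E.zero, conj_eq_one_iff, E.eq_one] at this
    exact absurd this b3_W.2.2.2.2.2.2
  obtain ⟨k, hk⟩ := wd F w
  rcases e with ⟨-, e⟩ | ⟨-, e⟩
  · obtain ⟨p, i, e'⟩ := cz F (hk.mul h) e
    refine (sim_ev w).cancel ?_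
    rw [funext e']
    exact ((Sim.iso b3_iso.1).iter _).comp (((Sim.iso b3_iso.2.1).iter _).comp (sim_k.iter _))
  · exact absurd (isConj_iff.2 ⟨_, (hk.mul h zv).trans (congrArg ι e)⟩) F.nc

theorem ncs (v w : V) (h : IsConj (ι v) (ι w)) : qf v = 0 ↔ qf w = 0 := by
  have E := F.toC0.toEmb
  obtain ⟨k, hk, e⟩ := F.toC0.fus h
  obtain ⟨γ, hγ⟩ := E.exists_lin hk
  obtain ⟨ε, e1, e2⟩ := sim F hγ
  rw [← E.inj ((hγ v).symm.trans e), e2]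
  exact ⟨fun h => by rw [h, mul_zero], fun h => by linear_combination ε * h - qf v * e1⟩

theorem hom (hg : g ∈ normalizer (J : Set G)) (h0 : g * ι (e4 0) * g⁻¹ ∈ zpowers (ι (e4 0))) :
    ∃ γ : V →+ V, Lin ι g γ ∧ ∀ v, qf (γ v) = qf v := by
  have E := F.toC0.toEmb
  obtain ⟨γ, hγ⟩ := E.exists_lin hg
  obtain ⟨ε, e1, e2⟩ := sim F hγ
  rw [hγ, E.mem_zpowers'] at h0
  obtain rfl := d6.2.2.2.1 _ ε h0 e1 (e2 _)
  exact ⟨AddMonoidHom.mk' γ (E.lin_add hγ), hγ, fun v => (e2 v).trans (one_mul _)⟩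

theorem mon4 (hg : g ∈ normalizer (J : Set G)) (h0 : g * ι (e4 0) * g⁻¹ ∈ zpowers (ι (e4 0))) :
    ∃ ε a, Lin ι g (ext ε a) := by
  obtain ⟨d1, d2, d3, d4, d5, d6, d7⟩ := b3_mon
  obtain ⟨γ, hγ, hq⟩ := hom F hg h0
  rw [hγ, F.toC0.toEmb.mem_zpowers'] at h0
  obtain ⟨ε, hε⟩ := d6 _ ((hq _).trans d7) h0
  choose f s hf using fun i : Fin 3 => d1 (γ (e4 i.succ)) ε ((hq _).trans (d4 i).1)
    (by rw [← hε, ← map_add, hq, (d4 i).2.1])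
  have hi : Function.Injective f := fun i j e => by_contra fun ne => d2 (f j) (s i) (s j) (by
    rw [← hf j, ← e, ← hf i, ← map_add, hq, d3 i j ne])
  refine ⟨ε, (Equiv.ofBijective f (Finite.injective_iff_bijective.1 hi), s), hγ.congr fun v => ?_⟩
  conv_lhs => rw [d5 v]
  rw [b3_ext, map_add, map_add, map_add, map_nsmul, map_nsmul, map_nsmul, map_nsmul, hε, hf, hf, hf]
  rfl

theorem sig {K : Subgroup G} (hK : (Nat.card K).Coprime 3) (hJ : J ≤ normalizer (K : Set G)) : K = ⊥ := by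
  have E := F.toC0.toEmb
  obtain ⟨d1, d2', d3, d4, d5, d6, -⟩ := b3_W
  let W : Subgroup G :=
    { carrier := {g | ∃ v, b3W v ∧ ι v = g}
      one_mem' := ⟨0, d3, E.zero⟩
      mul_mem' := by
        rintro _ _ ⟨u, hu, rfl⟩ ⟨v, hv, rfl⟩
        exact ⟨u + v, d1 u v hu hv, E.add u v⟩
      inv_mem' := by
        rintro _ ⟨u, hu, rfl⟩
        exact ⟨-u, (d2' u hu).1, E.neg u⟩ }
  have WJ : W ≤ J := by
    rintro _ ⟨u, -, rfl⟩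
    exact E.memJ u
  have : IsMulCommutative W := ⟨⟨fun a b => Subtype.ext (F.toC0.comm (WJ a.2) (WJ b.2))⟩⟩
  refine le_bot_iff.1 (le_of_forall_centralizer_le (A := W) (fun hc => ?_) (WJ.trans hJ)
    (Nat.Coprime.coprime_dvd_left (card_dvd_of_le WJ) (E.card ▸ hK.symm.pow_left 4)) ?_)
  · obtain ⟨⟨_, u, hu, rfl⟩, hg⟩ := hc.exists_generator
    have k : ∀ v, b3W v → v = 0 ∨ v = u ∨ v = -u := fun v hv => by
      obtain ⟨k, hk⟩ := hg ⟨_, v, hv, rfl⟩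
      exact E.mem_zpowers'.1 ⟨k, congrArg Subtype.val hk⟩
    exact d6 u (k _ d4) (k _ d5)
  rintro _ ⟨u, hu, rfl⟩ h1
  obtain ⟨w, -, hw⟩ := (d2 u).resolve_left fun e => h1 (E.eq_one.2 e)
  obtain ⟨h, h2⟩ := wd F w
  replace hw := (hw.resolve_right fun e => e.1 (d2' u hu).2).2
  refine (CL.Even.cj_eq_bot.1 (F.sg _ ?_ ?_ ?_ : Subgroup.map (MulAut.conj h).toMonoidHom _ = ⊥)).le
  · rw [CL.Even.card_cj]
    exact Nat.Coprime.coprime_dvd_left (card_dvd_of_le inf_le_left) hK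
  · rw [← CL.Even.cj_norm, CL.Even.le_cj_iff, CL.Even.cj_eq (inv_mem (E.norm h2))]
    exact CL.Even.le_norm_inf hJ (CL.Even.le_norm_of_le fun j hj =>
      mem_centralizer_singleton_iff.2 (F.toC0.comm hj (E.memJ u)))
  · rintro _ ⟨k, hk, rfl⟩
    refine mem_centralizer_singleton_iff.2 ?_
    rw [← hw, ← h2]
    exact (conj_mul.trans (by rw [mem_centralizer_singleton_iff.1 hk.2])).trans conj_mul.symm

theorem c128 : 128 ∣ Nat.card G := by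
  have E := F.toC0.toEmb
  obtain ⟨-, -, -, -, c1, c2, c3, c4, c5, c6⟩ := d6
  have hm : ∀ d ∈ normalizer (J : Set G) ⊓ centralizer {ι (e4 0)}, ∃ γ : V →+ V, Lin ι d γ ∧ (∀ v, qf (γ v) = qf v) ∧
      γ (e4 0) = e4 0 := fun d hd => by
    have e := mem_centralizer_singleton_iff.1 hd.2
    obtain ⟨γ, h1, h2⟩ := hom F hd.1 (by rw [e, mul_inv_cancel_right]; exact mem_zpowers _)
    exact ⟨γ, h1, h2, E.fix h1 e⟩
  have h1 := orb E (normalizer (J : Set G)) (e4 0) (fun v => qf v ≠ 0) (fun d hd => by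
    obtain ⟨γ, hγ⟩ := E.exists_lin hd
    exact ⟨_, mt (ncs F _ _ (isConj_iff.2 ⟨d, hγ _⟩)).2 c4, hγ _⟩) fun v hv => by
    obtain ⟨w, -, hw⟩ := (d2 v).resolve_left fun e => hv (e ▸ rfl)
    obtain ⟨h, h2⟩ := wd F w
    refine ⟨h⁻¹, inv_mem (E.norm h2), ?_⟩
    rw [← (hw.resolve_left fun e => hv e.1).2, ← h2]; group
  have h2 := orb E (normalizer (J : Set G) ⊓ centralizer {ι (e4 0)}) (e4 1) (fun u => qf u = 1 ∧ qf (u + e4 0) = 2)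
    (fun d hd => by
      obtain ⟨γ, k1, k2, k3⟩ := hm d hd
      exact ⟨_, ⟨(k2 _).trans c5.1, by rw [← k3, ← map_add, k2, c5.2]⟩, k1 _⟩) fun v hv => by
    obtain ⟨w, -, k1, k2⟩ := d4.1 v hv
    obtain ⟨h, h2⟩ := wd F w
    exact ⟨h, ⟨E.norm h2, mem_centralizer_singleton_iff.2 (h2.commute k1)⟩, k2 ▸ h2 _⟩
  have h3 := orb E (normalizer (J : Set G) ⊓ centralizer {ι (e4 0)} ⊓ centralizer {ι (e4 1)}) (e4 2)
    (fun u => qf u = 1 ∧ qf (u + e4 0) = 2 ∧ qf (u + e4 1) = 2) (fun d hd => by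
      obtain ⟨γ, k1, k2, k3⟩ := hm d hd.1
      exact ⟨_, ⟨(k2 _).trans c6.1, by rw [← k3, ← map_add, k2, c6.2.1], by
        rw [← E.fix k1 (mem_centralizer_singleton_iff.1 hd.2), ← map_add, k2, c6.2.2]⟩, k1 _⟩) fun v hv => by
    obtain ⟨w, -, k1, k2, k3⟩ := d4.2 v hv
    obtain ⟨h, h2⟩ := wd F w
    exact ⟨h, ⟨⟨E.norm h2, mem_centralizer_singleton_iff.2 (h2.commute k1)⟩,
      mem_centralizer_singleton_iff.2 (h2.commute k2)⟩, k3 ▸ h2 _⟩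
  refine Dvd.dvd.trans ?_ (card_subgroup_dvd_card (normalizer (J : Set G)))
  rw [h1, h2, h3, c1, c2, c3]
  omega

end A3x

open A3x in
theorem a3Thm : A3Thm.{u} := by
  intro G _ _ ι J S θ q n x F
  have k : ∀ w γ, (∀ v, ev xM w v = γ v) → ∃ g, Lin ι g γ := fun w γ h => (wd F w).imp fun _ e => e.congr h
  obtain ⟨c1, c2, c3, c4, c5⟩ := d5
  exact ⟨ι, F.toTh, ncs F, fun _ => mon4 F, fun g h => let ⟨p, i, e⟩ := cz F h d6.2.2.1; d6.2.1 p i fun _ => e _,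
    ⟨q, F.lq⟩, k _ _ c1, k _ _ c2, k _ _ c3, k _ _ c4, k _ _ c5, fun _ => sig F, c128 F⟩

end CL.HN3
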