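/-
The 3-local characterisation of the Harada–Norton group: the involution `i` and the element `w`.
-/
import Cfsg.Agent.Hn3.Defs2

set_option autoImplicit false
set_option synthInstance.maxSize 4096

namespace CL.HN3

open Subgroup Cfsg CL.Grp CL.McL3 CL.McL3.C27 CL.S9R CL.Ast Equiv

universe u

variable {G : Type*} [Group G]

namespace A4x

variable {ι : V → G} {J : Subgroup G} {θ : L5 →* G} (F : Th ι J θ) {x : G}
include F

theorem conj_lin {w : G} (hw : Lin ι w wM) : Lin ι (w * θ k0 * w⁻¹) fun v => -kM v :=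
  ((hw.mul F.lk).mul (hw.inv (γ' := wM) (by decide +kernel))).congr (by decide +kernel)

variable (hx : Lin ι x fun v => -kM v) (xt : x * θ (-1) = θ (-1) * x)
include hx xt

theorem rng (b : L5) : ∃ b', θ b' = x * θ b * x⁻¹ := by
  have E := F.toEmb
  have xz : x⁻¹ * ι zv * x = (ι zv)⁻¹ := by
    have : _ = ι (-kM (-zv)) := hx (-zv)
    rw [show -kM (-zv) = zv by decide +kernel, E.neg] at this
    calc _ = x⁻¹ * (x * (ι zv)⁻¹ * x⁻¹) * x := by rw [this]
      _ = _ := by group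
  have k : ∀ c, ∃ (i : ℕ) (c' : L5), x * θ c * x⁻¹ = ι zv ^ i * θ c' := fun c => F.czt _
    (by
      have := (show Commute (θ c) _ from F.θz c).inv_right.eq
      rw [← xz] at this
      calc _ = x * (θ c * (x⁻¹ * ι zv * x)) * x⁻¹ := by group
        _ = _ := by rw [this]; group)
    (((show Commute x _ from xt).mul_left (F.θt c)).mul_left (show Commute x _ from xt).inv_left)
  have k2 : ∀ b ∈ [a0, s0, k0], b ∈ θ.range.comap ((MulAut.conj x).toMonoidHom.comp θ) := fun b hb => by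
    obtain ⟨c, d, rfl⟩ := S25.comm b hb
    obtain ⟨i, c', hc⟩ := k c
    obtain ⟨j, d', hd⟩ := k d
    refine ⟨c' * d' * c'⁻¹ * d'⁻¹, ?_⟩
    have h1 : ∀ (n : ℕ) (e : L5), Commute (ι zv ^ n) (θ e) := fun n e =>
      (show Commute (θ e) _ from F.θz e).symm.pow_left n
    have h2 : Commute (ι zv ^ i) (ι zv ^ j * θ d') := ((Commute.refl _).pow_pow i j).mul_right (h1 i d')
    have h3 : θ c' * (ι zv ^ j * θ d') * (θ c')⁻¹ = ι zv ^ j * θ (c' * d' * c'⁻¹) := by
      rw [← mul_assoc, ← (h1 j c').eq, map_mul, map_mul, map_inv]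
      group
    calc _ = ι zv ^ i * (ι zv ^ j * θ (c' * d' * c'⁻¹)) * (ι zv ^ i)⁻¹ * (ι zv ^ j * θ d')⁻¹ := by
          rw [(((Commute.refl _).pow_pow i j).mul_right (h1 i _)).eq, (h1 j _).eq, (h1 j _).eq]
          simp [mul_assoc]
      _ = x * θ c * x⁻¹ * (x * θ d * x⁻¹) * (x * θ c * x⁻¹)⁻¹ * (x * θ d * x⁻¹)⁻¹ := by
          rw [hc, hd, ← h3]
          group
      _ = _ := by simp [mul_assoc]
  exact S25.gen (k2 _ (by simp)) (k2 _ (by simp)) (k2 _ (by simp)) b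

theorem cen (xx : x * x = θ (-1)) (b : L5) : x * θ b = θ b * x := by
  have E := F.toEmb
  have xs : x * θ s0 * x⁻¹ = θ s0 := by
    rw [F.θs]
    exact (hx zp).trans (congrArg ι (by decide +kernel))
  obtain ⟨k1, h1⟩ := rng F hx xt k0
  obtain ⟨b0, h2⟩ := rng F hx xt a0
  have l1 : Lin ι (θ k1) kM := h1 ▸ ((hx.mul F.lk).mul (hx.inv (γ' := fun v => -kM (tH v))
    (by decide +kernel))).congr (by decide +kernel)
  have m1 : θ (k0⁻¹ * k1) ∈ J := by rw [map_mul, map_inv]; exact F.memJ' F.lk l1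
  have m2 : (k0⁻¹ * k1) ^ 3 = 1 := F.θinj (by rw [map_pow, F.cubeJ m1, map_one])
  have m3 : k0⁻¹ * k1 * s0 = s0 * (k0⁻¹ * k1) := F.θinj (by
    rw [map_mul _ _ s0, map_mul _ s0, F.θs]
    exact (E.lin_id m1).commute rfl)
  obtain ⟨i, hi⟩ := S25.cs _ m3
  have m4 : k1 = k0 * s0 ^ i.1 := by
    rcases hi with hi | hi
    · rw [← hi, mul_inv_cancel_left]
    · rw [hi] at m2
      exact absurd m2 ((by decide +kernel : ∀ i : Fin 3, (-s0 ^ i.1) ^ 3 ≠ 1) i)
  have m5 : k0 * s0 ^ i.1 * s0 ^ i.1 = k0 := F.θinj (by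
    rw [← m4, map_mul, map_pow, ← xs, h1, conj_pow, conj_mul, ← map_pow, ← map_mul, ← m4, h1]
    calc _ = x * x * θ k0 * (x * x)⁻¹ := by group
      _ = _ := by rw [xx, ← F.θt, mul_inv_cancel_right])
  rw [(by decide +kernel : ∀ i : Fin 3, k0 * s0 ^ i.1 * s0 ^ i.1 = k0 → k0 * s0 ^ i.1 = k0) i m5] at m4
  rw [m4] at h1
  have m6 : b0 = a0 := S25.rig b0
    (F.θinj (by rw [map_mul, h2, conj_mul, ← map_mul, S25.rel.2.2.2.2.1, xt, mul_inv_cancel_right]))
    (F.θinj (by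
      rw [map_pow, map_mul, h2, ← xs, conj_mul, conj_pow, ← map_mul, ← map_pow, S25.rel.2.2.2.2.2.1]
      simp))
    (F.θinj (by
      rw [map_pow, map_mul, map_mul, h2, ← xs, h1, conj_mul, conj_mul, conj_pow, ← map_mul, ← map_mul, ← map_pow,
        S25.rel.2.2.2.2.2.2.1]
      simp))
  rw [m6] at h2
  have k : ∀ c, θ c = x * θ c * x⁻¹ → c ∈ (centralizer {x}).comap θ := fun c e =>
    mem_centralizer_singleton_iff.2 (eq_mul_inv_iff_mul_eq.1 e)
  exact (mem_centralizer_singleton_iff.1 (S25.gen (k _ h2) (k _ xs.symm) (k _ h1) b)).symm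

end A4x

theorem a4Thm : A4Thm.{u} := by
  intro G _ _ ι J θ F
  have T := F.toTh
  obtain ⟨g, hg⟩ := F.rw
  obtain ⟨w0, h1, h2⟩ := T.lift T.tt T.lt hg (by decide +kernel)
  have hx := A4x.conj_lin T h1
  have kt : Commute (θ k0) (θ (-1)) := T.θt k0
  have xt : Commute (w0 * θ k0 * w0⁻¹) (θ (-1)) :=
    ((show Commute w0 _ from h2).mul_left kt).mul_left (show Commute w0 _ from h2).inv_left
  have xx : w0 * θ k0 * w0⁻¹ * (w0 * θ k0 * w0⁻¹) = θ (-1) := by rw [conj_mul, T.kk, h2, mul_inv_cancel_right]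
  have c := A4x.cen T hx xt xx
  generalize w0 * θ k0 * w0⁻¹ = x at hx xt xx c
  have xk : Commute x (θ k0) := c k0
  have i2 : θ k0 * x * θ (-1) * (θ k0 * x * θ (-1)) = 1 := by
    rw [(kt.mul_left xt).symm.mul_mul_mul_comm, xk.mul_mul_mul_comm, T.kk, xx, T.tt, one_mul]
  have li : Lin ι (θ k0 * x * θ (-1)) fun v => -v := ((T.lk.mul hx).mul T.lt).congr (by decide +kernel)
  have ik : Commute (θ k0 * x * θ (-1)) (θ k0) := ((Commute.refl _).mul_left xk).mul_left kt.symm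
  have ix : Commute (θ k0 * x * θ (-1)) x := (xk.symm.mul_left (Commute.refl _)).mul_left xt.symm
  obtain ⟨w, h3, h4⟩ := T.lift i2 li hg (by decide +kernel)
  have e : w * θ k0 * w⁻¹ = x := T.uniq li (A4x.conj_lin T h3) hx
    (((show Commute w _ from h4).mul_left ik.symm).mul_left (show Commute w _ from h4).inv_left) ix.symm
  exact ⟨_, w, F, i2, li, ik, h3, h4.symm, fun b => e ▸ c b⟩

end CL.HN3
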