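/-
The 3-local characterisation of the Harada–Norton group: the normalizer of the subgroup generated by a long vector.
-/
import Cfsg.Agent.Hn3.Defs2
import Cfsg.Agent.Ast.Long
import Cfsg.Agent.Rec.A9B

set_option autoImplicit false
set_option synthInstance.maxSize 4096

namespace CL.HN3

open Subgroup Cfsg CL.Grp CL.Rec CL.McL3 CL.McL3.C27 CL.S9R CL.Ast Equiv
open scoped Pointwise

universe u

namespace B1x

def m3 : Mo := (1, ![1, 1, -1])
def i0 : Perm (Fin 9) := swap 0 1 * swap 3 4 * swap 6 7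
def nz (a : Fin 3) : ℕ := if a = 0 then 0 else 1
/-- the number of nonzero coordinates -/
def wt (v : V3) : ℕ := nz (v 0) + nz (v 1) + nz (v 2)

theorem d1 : (∀ ε a, ext ε a (e4 0) = 0 ∨ ext ε a (e4 0) = e4 0 ∨ ext ε a (e4 0) = -e4 0) ∧
    (∀ ε a, (∀ v, ext ε a v - v = 0 ∨ ext ε a v - v = e4 0 ∨ ext ε a v - v = -e4 0) →
      (∀ v, ext ε a v = v) ∨ ∀ v, ext ε a v = tM v) ∧ (∀ v, tH v = ext (-1) mτ v) ∧ (∀ v, d3M v = ext (-1) m3 v) ∧
    (∀ v, -v = ext (-1) mι v) ∧ mm mι m3 = md ∧ (∀ w, (qf zv = 0 ↔ qf w = 0) → qf zv = qf w) := by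
  refine ⟨?_, ?_, ?_, ?_, ?_, ?_, ?_⟩ <;> decide +kernel

theorem d2 : (∀ v, (mon c9 v).support.card = 3 * wt v) ∧ x9.cycleType = {3, 3, 3} ∧
    (∀ i, i0 * c9 i * i0⁻¹ = (c9 i)⁻¹) ∧ (∀ v, mon c9 v * (mon c9 v * i0) * (mon c9 v)⁻¹ = i0) ∧
    ∀ i, mι.1 i = i ∧ mι.2 i = -1 := by
  refine ⟨?_, ?_, ?_, ?_, ?_⟩ <;> decide +kernel

theorem d3 : ∀ a b c d e f : Fin 3, wt ![a, b, c] ≠ 0 → wt ![d, e, f] = wt ![a, b, c] →
    wt ![-a + d, -b + e, -c + f] = wt ![a + d, b + e, c + f] → ∀ g h i : Fin 3, wt ![g, h, i] = wt ![d, e, f] →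
    wt ![-a + g, -b + h, -c + i] = wt ![a + g, b + h, c + i] →
    wt ![-d + g, -e + h, -f + i] = wt ![d + g, e + h, f + i] →
    ∃ m : Mo, ∀ j, lin ![![a, b, c], ![d, e, f], ![g, h, i]] (mx m j) = Pi.single j 1 := by decide +kernel

theorem d4 (M : Fin 3 → V3) (h0 : lin M ![1, 0, 0] ≠ 0) (h : ∀ (a : Mo) v, wt (lin M (av a v)) = wt (lin M v)) :
    ∃ m : Mo, ∀ j, lin M (mx m j) = Pi.single j 1 := by
  have e : M = ![![M 0 0, M 0 1, M 0 2], ![M 1 0, M 1 1, M 1 2], ![M 2 0, M 2 1, M 2 2]] := by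
    funext i j; fin_cases i <;> fin_cases j <;> rfl
  have k : ∀ (a : Mo) (v w : V3), av a v = w → wt (lin M w) = wt (lin M v) := fun a v w e => e ▸ h a v
  rw [e]
  refine d3 _ _ _ _ _ _ (fun h1 => h0 ?_) ?_ ?_ _ _ _ ?_ ?_ ?_
  · have : ∀ a b c : Fin 3, wt ![a, b, c] = 0 → a = 0 ∧ b = 0 ∧ c = 0 := by decide
    obtain ⟨h2, h3, h4⟩ := this _ _ _ h1
    funext j
    fin_cases j <;> simp [lin, h2, h3, h4]
  · simpa [wt, lin] using k mr ![1, 0, 0] ![0, 1, 0] (by decide)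
  · simpa [wt, lin] using k (1, ![-1, 1, 1]) ![1, 1, 0] ![-1, 1, 0] (by decide)
  · simpa [wt, lin] using k mr ![0, 1, 0] ![0, 0, 1] (by decide)
  · simpa [wt, lin] using k (1, ![-1, 1, 1]) ![1, 0, 1] ![-1, 0, 1] (by decide)
  · simpa [wt, lin] using k (1, ![1, -1, 1]) ![0, 1, 1] ![0, -1, 1] (by decide)

/-- the model -/
theorem s0_model : S0 (closure (Set.range c9)) c9 r9 t9 := by
  obtain ⟨k1, k2, k3, k4, k5, k6⟩ := c_x9
  have e3 : ∀ i, c9 i ^ 3 = 1 := fun i => (k1 i).2.1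
  have ec : ∀ i j, Commute (c9 i) (c9 j) := fun i j => (k1 i).2.2.1 j
  have ex := fun {g} => ex_mon (g := g) e3 ec
  have mm' := mon_mem (x := c9) fun i => subset_closure (Set.mem_range_self i)
  refine ⟨?_, rfl, fun a ha => ?_, fun a ha b hb => ?_, fun g hg => ?_, fun i => ?_, fun i => ?_, k4, fun g hg => ?_⟩
  · refine (Nat.card_eq_of_bijective (fun v => ⟨_, mm' v⟩) ⟨fun v w e => ?_, fun t =>
      (ex t.2).imp fun _ e => Subtype.ext e⟩).symm.trans (by simp)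
    have e1 := mon_add e3 ec (v - w) w
    rw [sub_add_cancel, Subtype.mk_eq_mk.1 e, right_eq_mul] at e1
    exact sub_eq_zero.1 ((k6 _).1 e1)
  · obtain ⟨v, rfl⟩ := ex ha
    rw [pow_three, ← mon_add e3 ec, ← mon_add e3 ec, (by decide : ∀ v : V3, v + (v + v) = 0), mon_zero]
  · obtain ⟨v, rfl⟩ := ex ha
    obtain ⟨w, rfl⟩ := ex hb
    exact (mon_add e3 ec v w).symm.trans (by rw [add_comm, mon_add e3 ec])
  · obtain ⟨v, rfl⟩ := (model (k5 ▸ (hg _ (mm' 1)).symm)).2 fun i => (hg _ (subset_closure ⟨i, rfl⟩)).symm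
    exact mm' v
  · rw [(k1 i).2.2.2.2.2.1, Units.val_one, zpow_one]
    exact (k1 i).2.2.2.1
  · rw [(k1 i).2.2.2.2.2.2, Units.val_one, zpow_one]
    exact (k1 i).2.2.2.2.1
  · obtain ⟨κ, hκ⟩ := (model (k5 ▸ hg)).1
    exact ⟨(κ, 1), fun i => by rw [hκ i]; simp⟩

theorem into {X : Subgroup (Perm (Fin 9))} (hX : IsPGroup 3 X) : ∃ h, ∀ y ∈ X, h * y * h⁻¹ ∈ centralizer {x9} := by
  have := Fact.mk Nat.prime_three
  obtain ⟨T, hT, -⟩ := exists_isSylowIn_ge (p := 3) IsPGroup.of_bot (bot_le : ⊥ ≤ centralizer {x9})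
  have h1 : Nat.card (centralizer {x9}) = 162 := by
    rw [Perm.nat_card_centralizer, d2.2.1]
    decide +kernel
  have h2 := (centralizer {x9}).card_mul_index
  rw [h1, Nat.card_perm, Nat.card_eq_fintype_card, Fintype.card_fin, show Nat.factorial 9 = 362880 from rfl] at h2
  have h3 : IsSylowIn 3 T ⊤ := ⟨le_top, hT.isPGroup, fun h => by
    rw [relIndex_top_right, ← relIndex_mul_index hT.le] at h
    exact (Nat.prime_three.dvd_mul.1 h).elim hT.not_dvd (by omega)⟩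
  obtain ⟨h, -, k⟩ := h3.exists_conj_le hX le_top
  exact ⟨h, fun y hy => hT.le ((conj_smul_le_iff _ _ _).1 k y hy)⟩

theorem s9 {X : Subgroup (Perm (Fin 9))} {x : Fin 3 → Perm (Fin 9)} {r τ j : Perm (Fin 9)} (F : Sx X x r τ)
    (hd : Re x md) (hj : Act x j mι) (hX : X ≤ centralizer {x9}) :
    ∃ h, (∀ i, h * x i * h⁻¹ = c9 i) ∧ h * j * h⁻¹ = i0 := by
  have B := s0_model
  have e := (B.le_or_card (fun b hb => B.cx b (c_x9.2.2.2.2.1 ▸ mem_centralizer_singleton_iff.1 (hX hb))) F.cube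
    F.comm).resolve_right (by rw [F.card]; omega)
  choose M hM using fun i => B.exm (e (F.xm i))
  have ml : ∀ v, mon c9 (lin M v) = mon x v := fun v => by rw [B.mlin, funext hM]
  obtain ⟨m, hm⟩ := d4 M (fun h => absurd (F.one_iff.1 (by rw [← ml, h, mon_zero])) (by decide)) fun a v => by
    obtain ⟨g, hg⟩ := F.reD hd (.inr ⟨j, hj⟩) (a := a)
    have := Perm.card_support_conj (σ := g) (τ := mon x v)
    rw [F.app hg, ← ml, ← ml, d2.1, d2.1] at this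
    omega
  obtain ⟨g, hg⟩ := F.reD hd (.inr ⟨j, hj⟩) (a := m)
  have h1 : ∀ i, g * x i * g⁻¹ = c9 i := fun i => by rw [F.ac.1 hg i, ← ml, hm, mon_single]
  have h2 : ∀ i, g * j * g⁻¹ * c9 i * (g * j * g⁻¹)⁻¹ = (c9 i)⁻¹ := fun i => by
    have := hj i
    rw [(d2.2.2.2.2 i).1, (d2.2.2.2.2 i).2] at this
    calc _ = g * (j * x i * j⁻¹) * g⁻¹ := by rw [← h1]; group
      _ = _ := by rw [this, ← h1]; simp [mul_assoc]
  obtain ⟨v, hv⟩ := B.exm (B.memJ1 (g := g * j * g⁻¹ * i0⁻¹) (Act.of_comm fun i => by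
    have h3 : i0⁻¹ * c9 i * i0 = (c9 i)⁻¹ := by
      rw [← inv_inj, inv_inv, mul_inv_rev, mul_inv_rev, ← d2.2.2.1 i]; group
    refine mul_inv_eq_iff_eq_mul.1 ?_
    calc _ = (g * j * g⁻¹ * (i0⁻¹ * c9 i * i0)⁻¹ * (g * j * g⁻¹)⁻¹)⁻¹ := by group
      _ = _ := by rw [h3, inv_inv, h2, inv_inv]))
  refine ⟨mon c9 v * g, fun i => ?_, ?_⟩
  · calc _ = mon c9 v * (g * x i * g⁻¹) * (mon c9 v)⁻¹ := by group
      _ = _ := by rw [h1, (B.comm _ (B.mJ v) _ (B.xm i)).eq, mul_inv_cancel_right]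
  · rw [← d2.2.2.2.1 v]
    nth_rewrite 4 [hv]
    group

variable {G Q : Type*} [Group G] [Group Q] [Finite G] {ι : V → G} {J : Subgroup G} {θ : L5 →* G} {i w g : G}

theorem memN {y : G} : g ∈ normalizer (zpowers y : Set G) ↔ g * y * g⁻¹ ∈ zpowers y :=
  ⟨fun h => (mem_normalizer_iff.1 h _).1 (mem_zpowers _), fun h => mem_normalizer_fintype (by
    rintro _ ⟨k, rfl⟩
    rw [← conj_zpow]
    exact zpow_mem h k)⟩

theorem lin_mem (E : Emb ι J) {ε : ℤˣ} {a : Mo} (h : Lin ι g (ext ε a)) : g ∈ normalizer (zpowers (ι (e4 0)) : Set G) :=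
  memN.2 (h _ ▸ E.mem_zpowers'.2 (d1.1 ε a))

theorem sx (F : GF ι J θ i w) (JC : J ≤ normalizer (zpowers (ι (e4 0)) : Set G))
    (iC : i ∈ normalizer (zpowers (ι (e4 0)) : Set G)) (π : normalizer (zpowers (ι (e4 0)) : Set G) →* Q)
    (hs : Function.Surjective π) (one : ∀ g, π g = 1 ↔ (g : G) ∈ zpowers (ι (e4 0))) :
    (∃ r τ, Sx ((J.subgroupOf _).map π) (fun k : Fin 3 => π ⟨ι (e4 k.succ), JC (F.memJ _)⟩) r τ) ∧
      Re (fun k : Fin 3 => π ⟨ι (e4 k.succ), JC (F.memJ _)⟩) md ∧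
      Act (fun k : Fin 3 => π ⟨ι (e4 k.succ), JC (F.memJ _)⟩) (π ⟨i, iC⟩) mι ∧
      ∀ g, π g ∈ normalizer ((J.subgroupOf _).map π : Set Q) → (g : G) ∈ normalizer (J : Set G) := by
  have := Fact.mk Nat.prime_three
  have E := F.toEmb
  obtain ⟨-, -, c3, -, c5, -, c7, c8, -, c10⟩ := LongJ.d1
  obtain ⟨-, b2, b3, b4, b5, b6, b7⟩ := d1
  have hN : ∀ g : normalizer (zpowers (ι (e4 0)) : Set G), (g : G) * ι (e4 0) * (g : G)⁻¹ ∈ zpowers (ι (e4 0)) :=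
    fun g => memN.1 g.2
  have nC : normalizer (zpowers (ι (e4 0)) : Set G) ≤ normalizer (centralizer (zpowers (ι (e4 0)) : Set G) : Set G) :=
    CL.Even.norm_le_norm_cent _
  have lm : ∀ {g ε a}, Lin ι g (ext ε a) → g ∈ normalizer (zpowers (ι (e4 0)) : Set G) := fun h => lin_mem E h
  generalize normalizer (zpowers (ι (e4 0)) : Set G) = C at *
  have yJ : zpowers (ι (e4 0)) ≤ J := zpowers_le.2 (E.memJ _)
  have hk : π.ker = (zpowers (ι (e4 0))).subgroupOf C := Subgroup.ext one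
  have kX : π.ker ≤ J.subgroupOf C := hk.le.trans (subgroupOf_mono _ yJ)
  have cm := comap_map_eq_self kX
  have nrm : ∀ g : C, π g ∈ normalizer ((J.subgroupOf C).map π : Set Q) → (g : G) ∈ normalizer (J : Set G) :=
    fun g hg => by rwa [← mem_comap, comap_normalizer_eq_of_surjective _ hs, cm, ← subgroupOf_normalizer_eq JC] at hg
  have EC : Emb (fun v => (⟨ι v, JC (E.memJ v)⟩ : C)) (J.subgroupOf C) := ⟨fun v w => Subtype.ext (E.add v w),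
    fun v w e => E.inj (congrArg Subtype.val e), fun g => (E.mem g).trans (exists_congr fun v =>
      ⟨fun k => Subtype.ext k, congrArg Subtype.val⟩)⟩
  have act : ∀ (g : C) ε a, Lin ι g (ext ε a) → Act (fun k : Fin 3 => π ⟨ι (e4 k.succ), JC (E.memJ _)⟩) (π g) a :=
    fun g ε a h => H4J.act_map π (LongJ.act_of EC (ε := ε) fun v => Subtype.ext (h v))
  have mn : ∀ v, mon (fun k : Fin 3 => π ⟨ι (e4 k.succ), JC (E.memJ _)⟩) v = π ⟨ι (up v), JC (E.memJ _)⟩ := fun v =>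
    (H4J.mon_map π _ v).trans (congrArg π (LongJ.mon_up EC v))
  have mo : ∀ g : C, (g : G) ∈ normalizer (J : Set G) →
      ∃ a, Act (fun k : Fin 3 => π ⟨ι (e4 k.succ), JC (E.memJ _)⟩) (π g) a := fun g hg => by
    obtain ⟨ε, a, h⟩ := F.mon4 g hg (hN g)
    exact ⟨a, act g ε a h⟩
  have cmt : ∀ (g : C) v, π g * π ⟨ι v, JC (E.memJ v)⟩ = π ⟨ι v, JC (E.memJ v)⟩ * π g →
      g * ι v * (g : G)⁻¹ * (ι v)⁻¹ ∈ zpowers (ι (e4 0)) := fun g v h =>
    (one (g * ⟨ι v, JC (E.memJ v)⟩ * g⁻¹ * (⟨ι v, JC (E.memJ v)⟩ : C)⁻¹)).1 (by simp [h])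
  have cent : centralizer (((J.subgroupOf C).map π : Subgroup Q) : Set Q) ≤ (J.subgroupOf C).map π := fun g hg => by
    obtain ⟨g, rfl⟩ := hs g
    obtain ⟨ε, a, h⟩ := F.mon4 g (nrm g (centralizer_le_normalizer _ hg)) (hN g)
    refine ⟨g, F.cJ g (h.congr ((b2 ε a fun v => E.mem_zpowers'.1 ?_).resolve_right fun k => F.nref g (h.congr k))), rfl⟩
    rw [E.sub, ← h]
    exact cmt g v (hg _ ⟨_, E.memJ v, rfl⟩).symm
  have cube : ∀ a ∈ (J.subgroupOf C).map π, a ^ 3 = 1 := by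
    rintro _ ⟨a, ha, rfl⟩
    rw [← map_pow, LongJ.cube EC ha, map_one]
  obtain ⟨q, lq⟩ := F.rq
  obtain ⟨d, ld⟩ := F.rd3
  have ai := act ⟨i, iC⟩ _ _ (F.li.congr b5)
  refine ⟨⟨π ⟨q, lm (lq.congr c5)⟩, π ⟨θ (-1), lm (F.lt.congr b3)⟩, ⟨?_, le_antisymm ?_ ?_, cube, ?_, cent,
    act _ _ _ (lq.congr c5), act _ _ _ (F.lt.congr b3), ?_, fun g hg => ?_⟩, fun g hg => ?_, fun K h1 h2 => ?_⟩,
    b6 ▸ Re.mul ⟨_, ai⟩ ⟨_, act ⟨d, lm (ld.congr b4)⟩ _ _ (ld.congr b4)⟩, ai, nrm⟩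
  · have := card_eq_card_inf_ker_mul_card_map π (J.subgroupOf C)
    rw [EC.card, inf_eq_left.2 kX, hk, Nat.card_congr (subgroupOfEquivOfLe (yJ.trans JC)).toEquiv, Nat.card_zpowers,
      E.ord c10] at this
    omega
  · rintro _ ⟨x, hx, rfl⟩
    obtain ⟨v, rfl⟩ := (EC.mem x).1 hx
    rw [c3 v, EC.add, EC.nsmul, map_mul, map_pow, (one ⟨ι (e4 0), _⟩).2 (mem_zpowers _), one_pow, mul_one, ← mn]
    exact mon_mem (fun i => subset_closure (Set.mem_range_self i)) _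
  · rw [closure_le]
    rintro _ ⟨i, rfl⟩
    exact ⟨_, E.memJ _, rfl⟩
  · rintro _ ⟨a, ha, rfl⟩ _ ⟨b, hb, rfl⟩
    exact (LongJ.comm EC ha hb).map π
  · rw [← map_mul, ← map_one π]
    exact congrArg π (Subtype.ext F.toTh.tt)
  · obtain ⟨g, rfl⟩ := hs g
    rw [mn, c7] at hg
    have k := cmt g zv hg
    obtain ⟨u, hu⟩ := (E.mem _).1 (yJ k)
    have l : g * ι zv * (g : G)⁻¹ = ι (u + zv) := by rw [E.add, hu, inv_mul_cancel_right]
    rw [c8 u (E.mem_zpowers'.1 (hu ▸ k)) (b7 _ (F.ncs _ _ (isConj_iff.2 ⟨_, l⟩))), zero_add] at l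
    exact mo g (F.cze g (mul_inv_eq_iff_eq_mul.1 l) (hN g))
  · obtain ⟨g, rfl⟩ := hs g
    exact mo g (nrm g hg)
  · have JZ : J ≤ centralizer (zpowers (ι (e4 0)) : Set G) := fun j hj x hx => (LongJ.comm E (yJ hx) hj).eq
    have o1 : ∀ k ∈ K, ∀ n : ℕ, k ^ 3 ^ n = 1 → k = 1 := fun k hk n l => orderOf_eq_one_iff.1
      (Nat.eq_one_of_dvd_coprimes (h1.pow_right n) (K.orderOf_dvd_natCard hk) (orderOf_dvd_of_pow_eq_one l))
    obtain ⟨R, RD, co, -, hR, dec⟩ := exists_compl (p := 3)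
      (D := (K.comap π).map C.subtype ⊓ centralizer (zpowers (ι (e4 0)) : Set G)) (V := zpowers (ι (e4 0)))
      (fun x hx => ⟨⟨⟨x, JC (yJ hx)⟩, by simp [(one ⟨x, _⟩).2 hx], rfl⟩, JZ (yJ hx)⟩) (E.isPGroup.to_le yJ)
      (fun n hn _ => hn.2) (by
        rintro _ ⟨⟨g, hg, rfl⟩, -⟩ - k l
        exact (one g).1 (o1 _ hg k (by rw [← map_pow, show g ^ 3 ^ k = 1 from Subtype.ext l, map_one])))
    have R1 := F.sig R co fun j hj => mem_normalizer_fintype fun r hr => hR _ ⟨(mem_normalizer_iff.1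
      (le_normalizer_map C.subtype ⟨⟨j, JC hj⟩, le_normalizer_comap π (h2 ⟨_, hj, rfl⟩), rfl⟩) r).1 (RD hr).1,
        (centralizer _).mul_mem (mul_mem (JZ hj) (RD hr).2) (inv_mem (JZ hj))⟩ (by
        rw [show orderOf (j * r * j⁻¹) = _ from (MulAut.conj j).orderOf_eq r]
        exact co.coprime_dvd_left (R.orderOf_dvd_natCard hr))
    refine eq_bot_iff.2 fun k hk => o1 k hk 1 (cube k (cent ?_))
    obtain ⟨k, rfl⟩ := hs k
    rintro _ ⟨j, hj, rfl⟩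
    obtain ⟨r, hr, v, hv, e⟩ := dec (j * k * j⁻¹ * k⁻¹ : C) ⟨⟨j * k * j⁻¹ * k⁻¹, by
      rw [SetLike.mem_coe, mem_comap, map_mul, map_mul, map_mul, map_inv, map_inv]
      exact mul_mem ((mem_normalizer_iff.1 (h2 ⟨j, hj, rfl⟩) _).1 hk) (inv_mem hk), rfl⟩, by
      have := mul_mem (JZ hj) ((mem_normalizer_iff.1 (nC k.2) _).1 (inv_mem (JZ hj)))
      simpa [mul_assoc] using this⟩
    rw [R1, mem_bot] at hr
    have := (one _).2 (by rwa [e, hr, one_mul])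
    rw [map_mul, map_mul, map_mul, map_inv, map_inv, mul_inv_eq_one, mul_inv_eq_iff_eq_mul] at this
    exact this

end B1x

open B1x

theorem b1Thm : B1Thm.{u} := by
  intro G _ _ ι J θ i w F
  have E := F.toEmb
  have JC : J ≤ normalizer (zpowers (ι (e4 0)) : Set G) := fun j hj =>
    memN.2 (by rw [E.lin_id hj]; exact mem_zpowers _)
  have iC := lin_mem E (F.li.congr d1.2.2.2.2.1)
  have : ((zpowers (ι (e4 0))).subgroupOf (normalizer (zpowers (ι (e4 0)) : Set G))).Normal :=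
    normal_in_normalizer
  have q1 : ∀ g : normalizer (zpowers (ι (e4 0)) : Set G), QuotientGroup.mk' ((zpowers (ι (e4 0))).subgroupOf _) g = 1 ↔
      (g : G) ∈ zpowers (ι (e4 0)) := fun g => QuotientGroup.eq_one_iff (N := (zpowers (ι (e4 0))).subgroupOf _) g
  obtain ⟨⟨r, τ, X⟩, -, -, l⟩ := sx F JC iC _ (QuotientGroup.mk'_surjective _) q1
  rcases X.main (fun h => CL.A9R.Hy.main h) with hn | ⟨⟨e⟩⟩
  · refine .inl fun g hg => l ⟨g, memN.2 ?_⟩ ((normalizer_eq_top _).ge (mem_top _))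
    rw [mem_centralizer_singleton_iff.1 hg, mul_inv_cancel_right]
    exact mem_zpowers _
  right
  have key : ∀ h : Perm (Fin 9), Function.Surjective ((e.trans (MulAut.conj h)).toMonoidHom.comp (QuotientGroup.mk' _)) ∧
      ∀ g : normalizer (zpowers (ι (e4 0)) : Set G),
        (e.trans (MulAut.conj h)).toMonoidHom.comp (QuotientGroup.mk' _) g = 1 ↔ (g : G) ∈ zpowers (ι (e4 0)) :=
    fun h => ⟨(e.trans (MulAut.conj h)).surjective.comp (QuotientGroup.mk'_surjective _), fun g =>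
      (map_eq_one_iff _ (e.trans (MulAut.conj h)).injective).trans (q1 g)⟩
  obtain ⟨h0, k0⟩ := into ((X.three).map e.toMonoidHom)
  obtain ⟨⟨r', τ', X'⟩, hd, hj, -⟩ := sx F JC iC _ (key h0).1 (key h0).2
  obtain ⟨h, k1, k2⟩ := s9 X' hd hj (by
    rintro _ ⟨j, hj, rfl⟩
    exact k0 _ ⟨_, ⟨j, hj, rfl⟩, rfl⟩)
  obtain ⟨π, π1, π2, π3⟩ : ∃ π : normalizer (zpowers (ι (e4 0)) : Set G) →* Perm (Fin 9), Function.Surjective π ∧
      (∀ g, π g = 1 ↔ (g : G) ∈ zpowers (ι (e4 0))) ∧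
      ∀ g, π g = h * (e.trans (MulAut.conj h0)).toMonoidHom.comp (QuotientGroup.mk' _) g * h⁻¹ :=
    ⟨_, (key (h * h0)).1, (key (h * h0)).2, fun g => by simp [mul_assoc]⟩
  classical
  refine ⟨fun g => if hg : g ∈ normalizer (zpowers (ι (e4 0)) : Set G) then π ⟨g, hg⟩ else 1, fun a ha b hb => ?_,
    fun p => ?_, fun g hg => ?_, ?_, ?_, ?_, ?_⟩
  · rw [dif_pos ha, dif_pos hb, dif_pos (mul_mem ha hb), ← map_mul]
    rfl
  · obtain ⟨g, rfl⟩ := π1 p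
    exact ⟨g, g.2, dif_pos g.2⟩
  · rw [dif_pos hg, π2]
  · rw [dif_pos (JC (E.memJ _)), π3]
    exact k1 0
  · rw [dif_pos (JC (E.memJ _)), π3]
    exact k1 1
  · rw [dif_pos (JC (E.memJ _)), π3]
    exact k1 2
  · rw [dif_pos iC, π3]
    exact k2

end CL.HN3
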