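/-
The 3-local characterisation of the Harada–Norton group: the centralizer of the quaternion group when
`C(e0) ≤ N(J)`.
-/
import Cfsg.Agent.Hn3.Defs2
import Cfsg.Agent.Grp.Coprime2

set_option autoImplicit false
set_option synthInstance.maxSize 4096

namespace CL.HN3

open Subgroup Cfsg CL.Grp CL.Rec CL.McL3 CL.McL3.C27 CL.S9R CL.Ast Equiv

universe u

namespace B2ax

def q1i (v : V) : V := ![v 2, v 1, v 3, v 0]

def dM (a b : Bool) (v : V) : V := (if a then wM else id) ((if b then tH else id) v)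

theorem mono : ∀ (ε : ℤˣ) (a : Mo), q1i (ext ε a (q1M (e4 3))) = e4 3 →
    (∀ i, q1i (ext ε a (q1M (tH (e4 i)))) = tH (q1i (ext ε a (q1M (e4 i))))) →
    ∃ b c, (∀ v, q1i (ext ε a (q1M (dM b c v))) = v) ∨ ∀ v, q1i (ext ε a (q1M (dM b c v))) = tM v := by
  decide +kernel

theorem fixT : ∀ v : V, tH v = v → v = 0 ∨ ∃ u ∈ [zv, zp, e4 3, yp], u = v ∨ u = -v := by decide +kernel

theorem spanT : ∀ v : V, tH v = v → ∃ i j : Fin 3, v = i.1 • zv + j.1 • zp := by decide +kernel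

theorem p12 : ∀ (i : Fin 3) (j : Fin 4), (s0 ^ i.1 * k0 ^ j.1) ^ 12 = 1 := by decide +kernel

variable {G : Type u} [Group G] [Finite G]

theorem one_of {B : Subgroup G} (hB : (Nat.card B).Coprime 3) {x : G} (x3 : x ^ 3 = 1) (h : x * x ∈ B) : x = 1 := by
  by_contra x1
  refine not_mem_cop hB (a := 1) (fun e => x1 ?_) ?_ h
  · rw [← x3, pow_succ, pow_two, ← pow_one (x * x), e, one_mul]
  · rw [← pow_two, ← pow_mul, mul_comm, pow_mul, one_mul, x3, one_pow]

theorem le_t {B : Subgroup G} (hB : (Nat.card B).Coprime 3) {x t g : G} (x3 : x ^ 3 = 1) (t2 : t * t = 1)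
    (c : x * t = t * x) (hg : g ∈ B) (e : g = x ∨ g = x * t) : g ∈ zpowers t := by
  have k : x * x ∈ B := by
    rcases e with rfl | rfl
    · exact mul_mem hg hg
    · have : x * t * (x * t) = x * x := by
        calc _ = x * (t * x) * t := by group
          _ = x * x * (t * t) := by rw [← c]; group
          _ = _ := by rw [t2, mul_one]
      exact this ▸ mul_mem hg hg
  obtain rfl := one_of hB x3 k
  rcases e with rfl | rfl
  exacts [one_mem _, by rw [one_mul]; exact mem_zpowers _]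

/-- a `3'`-group normalized by `⟨s0, k0⟩` meets `⟨x⟩ × SL(2, 5)` in the centre -/
theorem cen {B : Subgroup G} (hB : (Nat.card B).Coprime 3) {θ : L5 →* G} (inj : Function.Injective θ) {x : G}
    (x3 : x ^ 3 = 1) (c : ∀ b, θ b * x = x * θ b) (hs : θ s0 ∈ normalizer (B : Set G))
    (hk : θ k0 ∈ normalizer (B : Set G)) {b : L5} (hb : x * θ b ∈ B) : b = 1 ∨ b = -1 := by
  have cm (b : L5) (m : ℕ) : Commute (x ^ m) (θ b) := (show Commute (θ b) x from c b).symm.pow_left m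
  let P : L5 → Prop := fun β => ∃ m : ℕ, x ^ m * θ β ∈ B
  have mul {β γ : L5} (h1 : P β) (h2 : P γ) : P (β * γ) := by
    obtain ⟨m, h1⟩ := h1
    obtain ⟨n, h2⟩ := h2
    refine ⟨m + n, ?_⟩
    have := mul_mem h1 h2
    rwa [mul_assoc, ← mul_assoc (θ β), ← (cm β n).eq, mul_assoc, ← map_mul, ← mul_assoc, ← pow_add] at this
  have cj {β d : L5} (hd : θ d ∈ normalizer (B : Set G)) (h1 : P β) : P (d * β * d⁻¹) := by
    obtain ⟨m, h1⟩ := h1
    refine ⟨m, ?_⟩
    have := (mem_normalizer_iff.1 hd _).1 h1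
    rwa [← mul_assoc, ← (cm d m).eq, mul_assoc, mul_assoc, ← map_inv, ← map_mul, ← map_mul, ← mul_assoc] at this
  have no {β : L5} (h1 : P β) : ¬ S25.T3 β := fun h => by
    obtain ⟨m, h1⟩ := h1
    refine not_mem_cop hB (a := 2) (fun e => ?_) ?_ h1
    · rw [(cm β m).mul_pow, ← pow_mul, ← map_pow, mul_eq_one_iff_eq_inv] at e
      have k (a : L5) : β ^ 2 * a = a * β ^ 2 := inj (by
        have := (cm a (m * 2)).inv_left.eq
        rwa [e, inv_inv, ← map_mul, ← map_mul] at this)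
      rcases S25.cq _ (k _) (k _) with e1 | e1
      · exact h.1 e1
      · have := h.2
        rw [show 6 = 2 * 3 from rfl, pow_mul, e1] at this
        exact absurd this (by decide +kernel)
    · rw [(cm β m).mul_pow, ← map_pow, show 2 * 3 = 6 from rfl, h.2, map_one, mul_one, ← pow_mul, mul_comm, pow_mul,
        show 6 = 3 * 2 from rfl, pow_mul, x3, one_pow, one_pow]
  have p0 : P b := ⟨1, by rwa [pow_one]⟩
  have p1 := cj hs p0
  have p2 : P (s0⁻¹ * b * s0) := by simpa using cj (d := s0⁻¹) (by rw [map_inv]; exact inv_mem hs) p0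
  have p3 := cj hk p0
  obtain e | e | e | e | e | e | e := S25.cop2 b
  exacts [.inl e, .inr e, absurd e (no (mul (mul (mul p0 p1) p0) p2)), absurd e (no (mul p0 p1)),
    absurd e (no (mul p1 p3)), absurd e (no (mul p2 p3)), absurd e (no (mul p0 p3))]

variable {ι : V → G} {J : Subgroup G} {θ : L5 →* G} {i w g : G}

/-- the possibilities for an element of `C(ι a, t)` -/
def Sh (ι : V → G) (J : Subgroup G) (t : G) (b : V) (g : G) : Prop :=
  (∃ v, tH v = v ∧ (g = ι v ∨ g = ι v * t)) ∨ (g * ι b * g⁻¹ = (ι b)⁻¹ ∧ g * g ∈ J)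

omit [Finite G] in
theorem l1 (F : GF ι J θ i w) (hC : centralizer {ι (e4 0)} ≤ normalizer (J : Set G))
    (h1 : g * ι (e4 3) = ι (e4 3) * g) (h2 : g * θ (-1) = θ (-1) * g) : Sh ι J (θ (-1)) yp g := by
  have E := F.toEmb
  obtain ⟨q, hq⟩ := F.rq1
  have q0 : q * ι (e4 3) * q⁻¹ = ι (e4 0) := (hq _).trans (congrArg ι (by decide +kernel))
  have c0 : q * g * q⁻¹ * ι (e4 0) = ι (e4 0) * (q * g * q⁻¹) := by rw [← q0, conj_mul, conj_mul, h1]
  obtain ⟨ε, a, ha⟩ := F.mon4 _ (hC (mem_centralizer_singleton_iff.2 c0))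
    (by rw [c0, mul_inv_cancel_right]; exact mem_zpowers _)
  have hg : Lin ι g fun v => q1i (ext ε a (q1M v)) := by
    simpa [mul_assoc] using ((hq.inv (γ' := q1i) (by decide +kernel)).mul ha).mul hq
  have ct : Commute w (θ (-1)) := F.wt
  have ld (b c : Bool) : ∃ d, Lin ι d (dM b c) ∧ Commute d (θ (-1)) ∧ d * d = 1 ∧
      (b = false → d = 1 ∨ d = θ (-1)) := by
    cases b <;> cases c
    · exact ⟨1, Lin.one ι, Commute.one_left _, mul_one _, fun _ => .inl rfl⟩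
    · exact ⟨_, F.lt, Commute.refl _, F.toTh.tt, fun _ => .inr rfl⟩
    · exact ⟨w, F.lw, ct, F.ww, fun e => absurd e (by decide)⟩
    · refine ⟨_, F.lw.mul F.lt, ct.mul_left (Commute.refl _), ?_, fun e => absurd e (by decide)⟩
      rw [← pow_two, ct.mul_pow, pow_two, pow_two, F.ww, F.toTh.tt, one_mul]
  obtain ⟨b, c, e⟩ := mono ε a (E.fix hg h1) fun j =>
    E.lin_ext (hg.mul F.lt) (h2 ▸ F.lt.mul hg) (e4 j)
  obtain ⟨d, hd, dt, d2, d0⟩ := ld b c
  rcases e with e | e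
  · obtain ⟨v, hv⟩ := (F.mem _).1 (F.cJ _ ((hg.mul hd).congr e))
    have vt : tH v = v := E.fix F.lt (hv ▸ ((show Commute g _ from h2).mul_left dt).symm)
    have eg : g = ι v * d := by rw [hv, mul_assoc, d2, mul_one]
    cases b
    · refine .inl ⟨v, vt, ?_⟩
      rcases d0 rfl with rfl | rfl
      exacts [.inl (eg.trans (mul_one _)), .inr eg]
    · refine .inr ⟨?_, ?_⟩
      · rw [eg, ((E.lin_id (E.memJ v)).mul hd) yp, ← E.neg]
        exact congrArg ι (by cases c <;> decide +kernel)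
      · have : g * g = ι v * (d * ι v * d⁻¹) * (d * d) := by rw [eg]; group
        rw [this, hd, d2, mul_one]
        exact mul_mem (E.memJ _) (E.memJ _)
  · exact absurd ((hg.mul hd).congr e) (F.nref _)

theorem l1' (F : GF ι J θ i w) (hC : centralizer {ι (e4 0)} ≤ normalizer (J : Set G))
    (h1 : g * ι yp = ι yp * g) (h2 : g * θ (-1) = θ (-1) * g) : Sh ι J (θ (-1)) (e4 3) g := by
  have E := F.toEmb
  have k1 : θ k0 * ι yp * (θ k0)⁻¹ = ι (e4 3) := (F.lk _).trans (congrArg ι (by decide +kernel))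
  have k2 : θ k0 * ι (e4 3) * (θ k0)⁻¹ = ι yp := (F.lk _).trans (congrArg ι (by decide +kernel))
  have k3 : θ k0 * θ (-1) * (θ k0)⁻¹ = θ (-1) := by rw [F.toTh.θt, mul_inv_cancel_right]
  have li : Lin ι (θ k0)⁻¹ fun v => kM (tH v) := F.lk.inv (by decide +kernel)
  have bk (x : G) : x = (θ k0)⁻¹ * (θ k0 * x * (θ k0)⁻¹) * (θ k0)⁻¹⁻¹ := by group
  rcases l1 (g := θ k0 * g * (θ k0)⁻¹) F hC (by rw [← k1, conj_mul, conj_mul, h1])
    (by rw [← k3, conj_mul, conj_mul, h2]) with ⟨v, hv, e⟩ | ⟨e1, e2⟩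
  · refine .inl ⟨kM (tH v), (by decide +kernel : ∀ v, tH v = v → tH (kM (tH v)) = kM (tH v)) v hv, ?_⟩
    rw [← li, bk g]
    rcases e with e | e
    · exact .inl (by rw [e])
    · refine .inr ?_
      rw [e, ← conj_mul]
      conv_lhs => rw [← k3, ← bk]
  · refine .inr ⟨?_, ?_⟩
    · rw [← k2, conj_mul, conj_inv, conj_mul, conj_inv] at e1
      simpa using e1
    · simpa [mul_assoc] using (mem_normalizer_iff.1 (E.norm li) _).1 e2

omit [Finite G] in
theorem six (F : GF ι J θ i w) {b : V} (h : Sh ι J (θ (-1)) b g) : g ^ 6 = 1 := by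
  have E := F.toEmb
  suffices k : g * g ∈ J by rw [show 6 = 2 * 3 from rfl, pow_mul, pow_two, F.toTh.cubeJ k]
  rcases h with ⟨v, hv, rfl | rfl⟩ | h
  · exact mul_mem (E.memJ _) (E.memJ _)
  · have : ι v * θ (-1) * (ι v * θ (-1)) = ι v * (θ (-1) * ι v * (θ (-1))⁻¹) * (θ (-1) * θ (-1)) := by group
    rw [this, F.lt, F.toTh.tt, mul_one]
    exact mul_mem (E.memJ _) (E.memJ _)
  · exact h.2

theorem l2 (F : GF ι J θ i w) {b : V} (b0 : b ≠ 0) {B : Subgroup G} (hB : (Nat.card B).Coprime 3)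
    (hb : ι b ∈ normalizer (B : Set G)) (hg : g ∈ B) (h : Sh ι J (θ (-1)) b g) : g ∈ zpowers (θ (-1)) := by
  have E := F.toEmb
  rcases h with ⟨v, hv, e⟩ | h
  · exact le_t hB (E.cube v) F.toTh.tt (F.lt.commute hv).symm hg e
  · refine absurd (E.eq_one.1 (one_of hB (E.cube b) ?_)) b0
    have := mul_mem ((mem_normalizer_iff.1 hb _).1 hg) (inv_mem hg)
    rwa [show ι b * g * (ι b)⁻¹ * g⁻¹ = ι b * (g * ι b * g⁻¹)⁻¹ by group, h.1, inv_inv] at this

/-- the centralizer of the quaternion group -/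
def CC (θ : L5 →* G) : Subgroup G := centralizer {θ a0, θ a1}

omit [Finite G] in
theorem mem_CC : g ∈ CC θ ↔ g * θ a0 = θ a0 * g ∧ g * θ a1 = θ a1 * g := by
  simp [CC, mem_centralizer_iff, eq_comm]

omit [Finite G] in
theorem CC_t (hg : g ∈ CC θ) : g * θ (-1) = θ (-1) * g := by
  rw [← S25.rel.2.2.2.2.1, map_mul]
  exact (show Commute g _ from (mem_CC.1 hg).1).mul_right (mem_CC.1 hg).1

theorem s_norm : θ s0 ∈ normalizer (CC θ : Set G) := by
  refine inv_mem_iff.1 (mem_normalizer_fintype fun g hg => ?_)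
  obtain ⟨h0, h1⟩ := mem_CC.1 hg
  have k (a : L5) (h : Commute g (θ (s0 * a * s0⁻¹))) :
      (θ s0)⁻¹ * g * (θ s0)⁻¹⁻¹ * θ a = θ a * ((θ s0)⁻¹ * g * (θ s0)⁻¹⁻¹) := by
    have e : θ a = (θ s0)⁻¹ * θ (s0 * a * s0⁻¹) * (θ s0)⁻¹⁻¹ := by simp [mul_assoc]
    rw [e, conj_mul, conj_mul, h.eq]
  refine mem_CC.2 ⟨k a0 h1, k a1 ?_⟩
  rw [S25.rel.2.2.2.2.2.2.2.2.2.1, map_inv, map_mul]
  exact ((show Commute g _ from h0).mul_right h1).inv_right

/-- the conjugate of `θ` by `w` -/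
def θw (θ : L5 →* G) (w : G) : L5 →* G := (MulAut.conj w).toMonoidHom.comp θ

omit [Finite G] in
theorem θw_apply (b : L5) : θw θ w b = w * θ b * w⁻¹ := rfl

omit [Finite G] in
theorem θw_inj (F : GF ι J θ i w) : Function.Injective (θw θ w) := (MulAut.conj w).injective.comp F.θinj

omit [Finite G] in
theorem θw_t (F : GF ι J θ i w) : θw θ w (-1) = θ (-1) := by rw [θw_apply, F.wt, mul_inv_cancel_right]

omit [Finite G] in
theorem θw_s (F : GF ι J θ i w) : θw θ w s0 = (ι zv)⁻¹ := by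
  rw [θw_apply, F.θs, F.lw, ← F.toEmb.neg]
  exact congrArg ι (by decide +kernel)

omit [Finite G] in
theorem z_CC (F : GF ι J θ i w) : ι zv ∈ CC θ := mem_CC.2 ⟨(F.θz _).symm, (F.θz _).symm⟩

omit [Finite G] in
theorem k_CC (F : GF ι J θ i w) : θw θ w k0 ∈ CC θ := mem_CC.2 ⟨F.kp _, F.kp _⟩

omit [Finite G] in
theorem cz (F : GF ι J θ i w) (hg : g ∈ CC θ) (h : g * ι zv = ι zv * g) :
    ∃ n : ℕ, g = ι zv ^ n ∨ g = ι zv ^ n * θ (-1) := by
  obtain ⟨n, b, rfl⟩ := F.czt g h (CC_t hg)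
  obtain ⟨h0, h1⟩ := mem_CC.1 (mul_mem (inv_mem (pow_mem (z_CC F) n)) hg)
  rw [inv_mul_cancel_left, ← map_mul, ← map_mul] at h0 h1
  rcases S25.cq b (F.θinj h0) (F.θinj h1) with rfl | rfl
  exacts [⟨n, .inl (by simp)⟩, ⟨n, .inr rfl⟩]

omit [Finite G] in
theorem cs (F : GF ι J θ i w) (h : g * ι zp = ι zp * g) (ht : g * θ (-1) = θ (-1) * g) :
    ∃ x b, x ^ 3 = 1 ∧ (∀ c, θw θ w c * x = x * θw θ w c) ∧ g = x * θw θ w b := by
  have e1 : w⁻¹ * (ι zp)⁻¹ * w⁻¹⁻¹ = ι zv := by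
    rw [← F.toEmb.neg, F.lw.inv (γ' := wM) (by decide +kernel)]
    exact congrArg ι (by decide +kernel)
  have e2 : w⁻¹ * θ (-1) * w⁻¹⁻¹ = θ (-1) := by rw [inv_inv, mul_assoc, ← F.wt, inv_mul_cancel_left]
  obtain ⟨n, b, e⟩ := F.czt (w⁻¹ * g * w⁻¹⁻¹)
    (by rw [← e1, conj_mul, conj_mul, (show Commute g _ from h).inv_right.eq])
    (by rw [← e2, conj_mul, conj_mul, ht])
  refine ⟨w * ι zv ^ n * w⁻¹, b, ?_, fun c => ?_, ?_⟩
  · rw [conj_pow, ← pow_mul, mul_comm, pow_mul, F.toEmb.cube]; simp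
  · rw [θw_apply, conj_mul, conj_mul, ((show Commute _ _ from F.θz c).pow_right n).eq]
  · rw [θw_apply, conj_mul, ← e]; group

omit [Finite G] in
theorem mem_X (F : GF ι J θ i w) : g ∈ J ⊓ centralizer {θ (-1)} ↔ ∃ v, tH v = v ∧ ι v = g := by
  refine ⟨fun h => ?_, ?_⟩
  · obtain ⟨v, rfl⟩ := (F.mem g).1 h.1
    exact ⟨v, F.toEmb.fix F.lt (mem_centralizer_singleton_iff.1 h.2).symm, rfl⟩
  · rintro ⟨v, hv, rfl⟩
    exact ⟨F.toEmb.memJ v, mem_centralizer_singleton_iff.2 (F.lt.commute hv).symm⟩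

omit [Finite G] in
theorem card_X (F : GF ι J θ i w) : Nat.card (J ⊓ centralizer {θ (-1)} : Subgroup G) = 9 := by
  rw [← Nat.card_congr (Equiv.ofBijective (fun v : {v : V // tH v = v} =>
    (⟨ι v, (mem_X F).2 ⟨v, v.2, rfl⟩⟩ : (J ⊓ centralizer {θ (-1)} : Subgroup G)))
    ⟨fun _ _ e => Subtype.ext (F.inj (congrArg Subtype.val e)), fun j =>
      let ⟨v, hv, e⟩ := (mem_X F).1 j.2; ⟨⟨v, hv⟩, Subtype.ext e⟩⟩), Nat.card_eq_fintype_card]
  decide +kernel

omit [Finite G] in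
theorem X_norm (F : GF ι J θ i w) {B : Subgroup G} (h1 : ι zv ∈ normalizer (B : Set G))
    (h2 : θ s0 ∈ normalizer (B : Set G)) : J ⊓ centralizer {θ (-1)} ≤ normalizer (B : Set G) := fun x hx => by
  obtain ⟨v, hv, rfl⟩ := (mem_X F).1 hx
  obtain ⟨a, b, rfl⟩ := spanT v hv
  rw [F.add, F.toEmb.nsmul, F.toEmb.nsmul, ← F.θs]
  exact mul_mem (pow_mem h1 _) (pow_mem h2 _)

omit [Finite G] in
theorem X_cases (F : GF ι J θ i w) {d : G} (hd : d ∈ J ⊓ centralizer {θ (-1)}) (d1 : d ≠ 1) (h : g * d = d * g) :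
    g * ι zv = ι zv * g ∨ g * ι zp = ι zp * g ∨ g * ι (e4 3) = ι (e4 3) * g ∨ g * ι yp = ι yp * g := by
  obtain ⟨v, hv, rfl⟩ := (mem_X F).1 hd
  obtain ⟨u, hu, e⟩ := (fixT v hv).resolve_left (mt F.toEmb.eq_one.2 d1)
  have k : g * ι u = ι u * g := by
    rcases e with rfl | rfl
    exacts [h, F.toEmb.neg v ▸ (show Commute g _ from h).inv_right]
  simp only [List.mem_cons, List.not_mem_nil, or_false] at hu
  rcases hu with rfl | rfl | rfl | rfl <;> simp only [k, true_or, or_true]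

theorem l3 (F : GF ι J θ i w) (hC : centralizer {ι (e4 0)} ≤ normalizer (J : Set G)) :
    pPrimeCoreOf 3 (CC θ) ≤ zpowers (θ (-1)) := by
  have E := F.toEmb
  have cop := pPrimeCoreOf_coprime 3 (CC θ)
  have nT := le_normalizer_pPrimeCoreOf 3 (CC θ)
  have TK := pPrimeCoreOf_le 3 (CC θ)
  have hX := X_norm F (nT (z_CC F)) (normalizer_le_normalizer_pPrimeCoreOf 3 _ s_norm)
  have : IsMulCommutative (J ⊓ centralizer {θ (-1)} : Subgroup G) := ⟨⟨fun a b => Subtype.ext (by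
    obtain ⟨v, -, hv⟩ := (mem_X F).1 a.2
    obtain ⟨u, -, hu⟩ := (mem_X F).1 b.2
    simpa [hv, hu] using (E.comm v u).eq)⟩⟩
  refine le_of_forall_centralizer_le (fun hc => ?_) hX (by rw [card_X F]; exact (cop.symm.pow_left 2)) fun d hd d1 g hg => ?_
  · obtain ⟨a, ha⟩ := hc.exists_ofOrder_eq_natCard
    have : orderOf a ∣ 3 := orderOf_dvd_of_pow_eq_one (Subtype.ext (F.toTh.cubeJ a.2.1))
    rw [ha, card_X F] at this
    omega
  have gt := CC_t (TK hg.1)
  have xm (v : V) (hv : tH v = v) := hX ((mem_X F).2 ⟨v, hv, rfl⟩)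
  rcases X_cases F hd d1 (mem_centralizer_singleton_iff.1 hg.2) with h | h | h | h
  · obtain ⟨n, e⟩ := cz F (TK hg.1) h
    exact le_t cop (by rw [← E.nsmul, E.cube]) F.toTh.tt ((show Commute _ _ from F.θz _).pow_right n).symm hg.1 e
  · obtain ⟨x, b, x3, c, rfl⟩ := cs F h gt
    refine le_t cop x3 F.toTh.tt (θw_t F ▸ (c _).symm) hg.1 ?_
    rcases cen cop (θw_inj F) x3 c (θw_s F ▸ inv_mem (nT (z_CC F))) (nT (k_CC F)) hg.1 with rfl | rfl
    exacts [.inl (by simp), .inr (by rw [θw_t F])]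
  · exact l2 F (by decide) cop (xm _ (by decide +kernel)) hg.1 (l1 F hC h gt)
  · exact l2 F (by decide) cop (xm _ (by decide +kernel)) hg.1 (l1' F hC h gt)

end B2ax

open B2ax in
theorem b2aThm : B2aThm.{u} := by
  intro G _ _ ι J θ i w F hC
  have E := F.toEmb
  have := Fact.mk Nat.prime_two
  have t2 := F.toTh.tt
  have ot : orderOf (θ (-1)) = 2 := orderOf_eq_prime (by rw [pow_two, t2]) fun e =>
    S25.rel.2.2.2.2.2.2.2.2.2.2 (F.θinj (e.trans (map_one θ).symm))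
  have ct : Nat.card (zpowers (θ (-1))) = 2 := by rw [Nat.card_zpowers, ot]
  have oz : orderOf (ι zv) = 3 := E.ord (by decide)
  have tC : θ (-1) ∈ CC θ := mem_CC.2 ⟨(F.toTh.θt _).symm, (F.toTh.θt _).symm⟩
  have zt : Commute (ι zv) (θ (-1)) := (F.θz _).symm
  -- an element of order three in a coset `x ⟨t⟩`
  have key {x y : G} (x3 : x ^ 3 = 1) (y3 : y ^ 3 = 1) (c : Commute x (θ (-1))) (h : y * x⁻¹ ∈ zpowers (θ (-1))) :
      y = x := by
    have c1 : Commute (y * x⁻¹) x := (CL.G23.cm_of_mem h c.eq).symm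
    have e : (y * x⁻¹) ^ 3 = 1 := by
      have := c1.mul_pow 3
      rwa [inv_mul_cancel_right, x3, y3, mul_one, eq_comm] at this
    exact mul_inv_eq_one.1 (one_of (B := zpowers (θ (-1))) (by rw [ct]; decide) e (mul_mem h h))
  have z3 (g : G) : (g * ι zv * g⁻¹) ^ 3 = 1 := by rw [conj_pow, E.cube]; simp
  have sc : SCM (CC θ) (zpowers (θ (-1))) (ι zv) := ⟨z_CC F, zpowers_le.2 tC, fun g hg =>
    centralizer_le_normalizer _ (mem_centralizer_iff.2 fun x hx => (CL.G23.cm_of_mem hx (CC_t hg)).symm),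
    by rw [ct]; decide, oz, fun c hc h => by
      have c1 : Commute c (θ (-1)) := CC_t hc
      have e := key (z3 c) (E.cube zv) ((c1.mul_left zt).mul_left c1.inv_left) (by simpa [mul_assoc] using h)
      obtain ⟨n, e⟩ := cz F hc (mul_inv_eq_iff_eq_mul.1 e.symm)
      have k : (ι zv ^ n)⁻¹ * c ∈ zpowers (θ (-1)) := by
        rcases e with e | e <;> rw [e]
        exacts [by simp, by simp]
      rcases (CL.Perm.mem_zpowers_three oz).1 (pow_mem (mem_zpowers (ι zv)) n) with e1 | e1 | e1 <;> rw [e1] at k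
      exacts [.inl (by simpa using k), .inr (.inl k), .inr (.inr (by simpa using k))]⟩
  have zK : ι zv = θw θ w s0⁻¹ := by rw [map_inv, θw_s F, inv_inv]
  have rg (b : L5) : θw θ w b ∈ (θw θ w).range := ⟨b, rfl⟩
  rcases sc.ft3 (l3 F hC) with h | h
  · have h' (g : G) (hg : g ∈ CC θ) : g * ι zv * g⁻¹ = ι zv ∨ g * ι zv * g⁻¹ = (ι zv)⁻¹ :=
      (h g hg).imp (key (E.cube zv) (z3 g) zt) fun e =>
        key (by rw [inv_pow, E.cube, inv_one]) (z3 g) zt.inv_left (by rwa [inv_inv])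
    have k1 (g : G) (hg : g ∈ CC θ) (e : g * ι zv * g⁻¹ = ι zv) : g ∈ (θw θ w).range := by
      obtain ⟨n, e | e⟩ := cz F hg (mul_inv_eq_iff_eq_mul.1 e) <;> rw [e, zK]
      exacts [pow_mem (rg _) n, mul_mem (pow_mem (rg _) n) (θw_t F ▸ rg _)]
    refine ⟨fun g h0 h1 => ?_, .inl fun g h0 h1 => ?_⟩
    · have hg := mem_CC.2 ⟨h0, h1⟩
      suffices k : g ∈ (θw θ w).range from k.imp fun _ e => e.symm
      refine (h' g hg).elim (k1 g hg) fun e => ?_
      refine (mul_mem_cancel_left (rg k0)).1 (k1 _ (mul_mem (k_CC F) hg) ?_)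
      calc _ = θw θ w k0 * (g * ι zv * g⁻¹) * (θw θ w k0)⁻¹ := by group
        _ = _ := by rw [e, ← θw_s F, ← map_inv, ← map_mul, ← map_mul, S25.rel.2.2.2.1, zK]
    · rcases h' g (mem_CC.2 ⟨h0, h1⟩) with e | e <;> rw [e]
      exacts [mem_zpowers _, inv_mem (mem_zpowers _)]
  · rw [ct] at h
    obtain ⟨d, hd, d1, g, hg, c, g36⟩ := no57 (card_X F) (X_norm F (le_normalizer (z_CC F)) s_norm) (k := 1) h
    have n6 : g ^ 6 ≠ 1 := fun e => g36 (by rw [show 36 = 6 * 6 from rfl, pow_mul, e, one_pow])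
    have gt := CC_t hg
    have all (b : L5) : θw θ w b ∈ CC θ := by
      rcases X_cases F hd d1 c with e | e | e | e
      · obtain ⟨n, e⟩ := cz F hg e
        refine absurd (six (b := 0) F (.inl ⟨n • zv, ?_, by rwa [E.nsmul]⟩)) n6
        exact E.fix F.lt (E.nsmul n zv ▸ (zt.pow_left n).symm)
      · obtain ⟨x, a, x3, c', rfl⟩ := cs F e gt
        have e3 : (x * θw θ w a) ^ 3 = θw θ w (a ^ 3) := by
          rw [(show Commute _ _ from c' a).symm.mul_pow, x3, one_mul, map_pow]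
        have hs : s0 ∈ (CC θ).comap (θw θ w) := by rw [mem_comap, θw_s F]; exact inv_mem (z_CC F)
        obtain ⟨m, n, e1⟩ | ⟨l, -, e1⟩ := S25.max0 (a ^ 3)
        · exact absurd (by rw [show 36 = 3 * 12 from rfl, pow_mul, e3, e1, ← map_pow, p12, map_one]) g36
        · exact S25.gen (K := (CC θ).comap (θw θ w))
            (e1 ▸ S25.ev_mem (show θw θ w _ ∈ _ from e3 ▸ pow_mem hg 3) hs (k_CC F) l) hs (k_CC F) b
      · exact absurd (six F (l1 F hC e gt)) n6
      · exact absurd (six F (l1' F hC e gt)) n6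
    have le : (θw θ w).range ≤ CC θ := by
      rintro _ ⟨b, rfl⟩
      exact all b
    have c120 : Nat.card (θw θ w).range = 120 := by
      rw [← Nat.card_congr (MonoidHom.ofInjective (θw_inj F)).toEquiv, S25.card]
    have dv := card_dvd_of_le le
    have eq := eq_of_le_of_card_ge le (by rw [c120] at dv ⊢; omega)
    refine ⟨fun g h0 h1 => ?_, .inr fun b => (mem_CC.1 (all b)).1⟩
    obtain ⟨b, e⟩ := eq.ge (mem_CC.2 ⟨h0, h1⟩)
    exact ⟨b, e.symm⟩

end CL.HN3
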