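/-
The 3-local characterisation of the Harada–Norton group: the case `C(e0) ≤ N(J)` is impossible (helper50).
-/
import Cfsg.Agent.Hn3.Defs2

set_option autoImplicit false
set_option synthInstance.maxSize 4096

namespace CL.HN3

open Subgroup Cfsg CL.Grp CL.McL3 CL.McL3.C27 CL.S9R CL.Ast Equiv

universe u

namespace B2bx

/-- the quaternion group -/
def Q8 : Subgroup L5 where
  carrier := {b | ∃ (i : Fin 4) (j : Fin 2), b = a0 ^ i.1 * a1 ^ j.1}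
  mul_mem' := by
    rintro _ _ ⟨i, j, rfl⟩ ⟨i', j', rfl⟩
    exact (by decide +kernel : ∀ (i : Fin 4) (j : Fin 2) (i' : Fin 4) (j' : Fin 2), ∃ (k : Fin 4) (l : Fin 2),
      a0 ^ i.1 * a1 ^ j.1 * (a0 ^ i'.1 * a1 ^ j'.1) = a0 ^ k.1 * a1 ^ l.1) i j i' j'
  one_mem' := ⟨0, 0, by simp⟩
  inv_mem' := by
    rintro _ ⟨i, j, rfl⟩
    exact (by decide +kernel : ∀ (i : Fin 4) (j : Fin 2), ∃ (k : Fin 4) (l : Fin 2),
      (a0 ^ i.1 * a1 ^ j.1)⁻¹ = a0 ^ k.1 * a1 ^ l.1) i j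

theorem q0 : a0 ∈ Q8 := ⟨1, 0, by simp⟩
theorem q1 : a1 ∈ Q8 := ⟨0, 1, by simp⟩
theorem qm : -1 ∈ Q8 := S25.rel.2.2.2.2.1 ▸ mul_mem q0 q0
theorem qneg {b : L5} (h : b ∈ Q8) : -b ∈ Q8 := by simpa using mul_mem qm h

theorem qsq {b : L5} (h : b ∈ Q8) : b * b = 1 ∨ b * b = -1 := by
  obtain ⟨i, j, rfl⟩ := h
  revert i j; decide +kernel

theorem qcm {a b : L5} (ha : a ∈ Q8) (hb : b ∈ Q8) : a * b * a⁻¹ * b⁻¹ = 1 ∨ a * b * a⁻¹ * b⁻¹ = -1 := by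
  obtain ⟨i, j, rfl⟩ := ha
  obtain ⟨i', j', rfl⟩ := hb
  revert i j i' j'; decide +kernel

theorem qcov {a b : L5} (ha : a ∈ Q8) (hb : b ∈ Q8) : ∃ (i : Fin 4) (j i' j' : Fin 2),
    a = a0 ^ i.1 * a1 ^ j.1 ∧ b = a0 ^ i'.1 * a1 ^ j'.1 ∨ a = -(a0 ^ i.1 * a1 ^ j.1) ∧ b = -(a0 ^ i'.1 * a1 ^ j'.1) := by
  obtain ⟨i, j, rfl⟩ := ha
  obtain ⟨i', j', rfl⟩ := hb
  revert i j i' j'; decide +kernel

theorem q3 : ∀ (i : Fin 4) (j : Fin 2) (l : Fin 3), (∃ (i' : Fin 4) (j' : Fin 2),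
    a0 ^ i.1 * a1 ^ j.1 * s0 ^ l.1 = a0 ^ i'.1 * a1 ^ j'.1) ∨ S25.T3 (a0 ^ i.1 * a1 ^ j.1 * s0 ^ l.1) := by
  decide +kernel

theorem nc01 : a0 * a1 ≠ a1 * a0 ∧ a0 * a1 * a0 ≠ a0 * (a0 * a1) := by decide +kernel

/-- a 2-element normalizing the quaternion group lies in it -/
theorem two_mem {b : L5} {k : ℕ} (hb : b ^ 2 ^ k = 1) (h0 : b * a0 * b⁻¹ ∈ Q8) (h1 : b * a1 * b⁻¹ ∈ Q8) : b ∈ Q8 := by
  obtain ⟨i, j, l, rfl⟩ := S25.nq b h0 h1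
  obtain h | ⟨h2, h6⟩ := q3 i j l
  · exact h
  refine (h2 (orderOf_eq_one_iff.1 (Nat.dvd_one.1 ?_))).elim
  rw [← Nat.Coprime.pow_left k (by decide : Nat.Coprime 2 3)]
  exact Nat.dvd_gcd (orderOf_dvd_of_pow_eq_one (by rw [← pow_mul, mul_comm, pow_mul, hb, one_pow]))
    (orderOf_dvd_of_pow_eq_one (by rw [← pow_mul]; exact h6))

variable {G : Type*} [Group G]

theorem card_le {α : Type} [Finite α] {T : Subgroup G} (f : α → G) (h : ∀ x ∈ T, ∃ a, f a = x) :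
    Nat.card T ≤ Nat.card α := by
  have h' : ∀ x : T, ∃ a, f a = x := fun x => h x x.2
  choose g hg using h'
  exact Nat.card_le_card_of_injective g fun x y e => Subtype.ext (by rw [← hg x, ← hg y, e])

/-- the image of the quaternion group -/
abbrev A (θ : L5 →* G) : Subgroup G := Q8.map θ

theorem conjA {θ : L5 →* G} {K : Subgroup G} {g : G} (h0 : g * θ a0 * g⁻¹ ∈ K) (h1 : g * θ a1 * g⁻¹ ∈ K) :
    ∀ x ∈ A θ, g * x * g⁻¹ ∈ K := by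
  rintro _ ⟨_, ⟨i, j, rfl⟩, rfl⟩
  rw [map_mul, map_pow, map_pow, ← conj_mul, ← conj_pow, ← conj_pow]
  exact mul_mem (pow_mem h0 _) (pow_mem h1 _)

structure Ba (θ1 θ : L5 →* G) : Prop where
  inj : Function.Injective θ
  inj1 : Function.Injective θ1
  t : θ1 (-1) = θ (-1)

theorem tt (θ : L5 →* G) : θ (-1) * θ (-1) = 1 := by rw [← map_mul]; simp

theorem pg4 (θ : L5 →* G) {E : Subgroup G} (h : ∀ x ∈ E, x * x = 1 ∨ x * x = θ (-1)) : IsPGroup 2 E :=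
  fun x => ⟨2, Subtype.ext (by
    have : x.1 ^ 4 = x.1 * x.1 * (x.1 * x.1) := by simp [pow_succ, mul_assoc]
    obtain e | e := h x x.2 <;> simp [this, e, tt])⟩

theorem θt (θ : L5 →* G) (b : L5) : Commute (θ b) (θ (-1)) := by
  rw [Commute, SemiconjBy, ← map_mul, ← map_mul]; simp

theorem θneg (θ : L5 →* G) (b : L5) : θ (-b) = θ b * θ (-1) := by rw [← map_mul]; simp

namespace Ba

variable {θ1 θ : L5 →* G} (h : Ba θ1 θ)
include h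

theorem symm : Ba θ θ1 := ⟨h.inj1, h.inj, h.t.symm⟩

theorem t1 : θ (-1) ≠ 1 := fun e => S25.rel.2.2.2.2.2.2.2.2.2.2 (h.inj (e.trans (map_one θ).symm))

theorem cen {b : L5} (h0 : Commute (θ b) (θ a0)) (h1 : Commute (θ b) (θ a1)) : b = 1 ∨ b = -1 :=
  S25.cq b (h.inj (by rw [map_mul, map_mul]; exact h0)) (h.inj (by rw [map_mul, map_mul]; exact h1))

theorem ker {c b : L5} (hc : ∀ b, Commute (θ1 c) (θ b)) (e : θ1 c = θ b) : c = 1 ∧ b = 1 ∨ c = -1 ∧ b = -1 := by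
  obtain rfl | rfl := h.cen (e ▸ hc a0) (e ▸ hc a1)
  exacts [.inl ⟨h.inj1 (by rw [e, map_one, map_one]), rfl⟩, .inr ⟨h.inj1 (e.trans h.t.symm), rfl⟩]

theorem ker' {c b : L5} (hc : ∀ b, Commute (θ1 c) (θ b)) (e : θ1 c * θ b = 1) : c = 1 ∧ b = 1 ∨ c = -1 ∧ b = -1 := by
  obtain ⟨e1, e2⟩ | ⟨e1, e2⟩ := h.ker hc (b := b⁻¹) (by rw [map_inv]; exact eq_inv_of_mul_eq_one_left e)
  exacts [.inl ⟨e1, inv_eq_one.1 e2⟩, .inr ⟨e1, by rw [← inv_inv b, e2]; simp⟩]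

theorem two {c b : L5} {k : ℕ} (hc : ∀ b, Commute (θ1 c) (θ b)) (e : (θ1 c * θ b) ^ 2 ^ k = 1) :
    c ^ 2 ^ (k + 1) = 1 ∧ b ^ 2 ^ (k + 1) = 1 := by
  rw [(hc b).mul_pow, ← map_pow, ← map_pow] at e
  rw [pow_succ, pow_mul, pow_mul]
  obtain ⟨e1, e2⟩ | ⟨e1, e2⟩ := h.ker' (fun b => by rw [map_pow]; exact (hc b).pow_left _) e <;> simp [e1, e2]

theorem fix_t {g : G} (e : g * θ (-1) * g⁻¹ = 1 ∨ g * θ (-1) * g⁻¹ = θ (-1)) : Commute g (θ (-1)) := by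
  obtain e | e := e
  exacts [(h.t1 (conj_eq_one_iff.1 e)).elim, mul_inv_eq_iff_eq_mul.1 e]

end Ba

structure Su (θ1 θ : L5 →* G) : Prop extends Ba θ1 θ where
  zc : ∀ b, Commute (θ1 s0) (θ b)
  czt : ∀ g, Commute g (θ1 s0) → Commute g (θ (-1)) → ∃ (i : ℕ) (b : L5), g = θ1 s0 ^ i * θ b
  cq : ∀ g, Commute g (θ a0) → Commute g (θ a1) → ∃ b, g = θ1 b
  cj : ∀ β, Commute (θ1 β) (θ a0) → Commute (θ1 β) (θ a1) → β ^ 3 = 1 → β ≠ 1 →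
    ∃ c, (∀ b, Commute (θ1 c) (θ b)) ∧ c * s0 * c⁻¹ = β
  c128 : 128 ∣ Nat.card G

variable {θ1 θ : L5 →* G}

/-- the normalizer of the quaternion group -/
theorem Su.nrm (h : Su θ1 θ) {g : G} (hg : g ∈ normalizer (A θ : Set G)) :
    ∃ c d, (∀ b, Commute (θ1 c) (θ b)) ∧ (∀ a ∈ Q8, d * a * d⁻¹ ∈ Q8) ∧ g = θ1 c * θ d := by
  have gt : Commute g (θ (-1)) := by
    obtain ⟨b, -, e⟩ := (mem_normalizer_iff.1 hg _).1 (mem_map_of_mem θ qm)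
    refine h.fix_t ?_
    obtain rfl | rfl := S25.sq b (h.inj (by rw [map_mul, e, conj_mul, tt]; simp))
    exacts [.inl (e.symm.trans (map_one θ)), .inr e.symm]
  have hz (a) (ha : a ∈ Q8) : Commute (g * θ1 s0 * g⁻¹) (θ a) := by
    obtain ⟨b, -, e⟩ := (mem_normalizer_iff''.1 hg _).1 (mem_map_of_mem θ ha)
    have := (h.zc b).conj g
    rwa [e, show g * (g⁻¹ * θ a * g) * g⁻¹ = θ a by group] at this
  obtain ⟨β, hβ⟩ := h.cq _ (hz _ q0) (hz _ q1)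
  obtain ⟨c, hc, rfl⟩ := h.cj β (hβ ▸ hz _ q0) (hβ ▸ hz _ q1)
    (h.inj1 (by rw [map_pow, ← hβ, conj_pow, ← map_pow, S25.rel.1]; simp))
    fun e => S25.rel.2.1 (h.inj1 (by rw [e, map_one, conj_eq_one_iff] at hβ; rw [hβ, map_one]))
  rw [map_mul, map_mul, map_inv] at hβ
  obtain ⟨i, d, e⟩ := h.czt ((θ1 c)⁻¹ * g)
    (by rw [Commute, SemiconjBy]
        calc _ = (θ1 c)⁻¹ * (g * θ1 s0 * g⁻¹) * g := by group
          _ = _ := by rw [hβ]; group)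
    ((hc _).inv_left.mul_left gt)
  have hc' (b) : Commute (θ1 (c * s0 ^ i)) (θ b) := by
    rw [map_mul, map_pow]; exact (hc b).mul_left ((h.zc b).pow_left _)
  have eg : g = θ1 (c * s0 ^ i) * θ d := by rw [map_mul, map_pow, mul_assoc, ← e]; group
  refine ⟨_, d, hc', fun a ha => (mem_map_iff_mem h.inj).1 ?_, eg⟩
  have := (mem_normalizer_iff.1 hg _).1 (mem_map_of_mem θ ha)
  rwa [eg, show ∀ x y z : G, x * y * z * (x * y)⁻¹ = x * (y * z * y⁻¹) * x⁻¹ from fun _ _ _ => by group, ← map_inv,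
    ← map_mul, ← map_mul, (hc' _).eq, mul_inv_cancel_right] at this

theorem syl [Finite G] (h : Su θ1 θ) {P : Subgroup G} (hP : IsPGroup 2 P) :
    ∃ T : Subgroup G, IsPGroup 2 T ∧ P ≤ T ∧ 128 ≤ Nat.card T := by
  obtain ⟨T, hT⟩ := hP.exists_le_sylow
  exact ⟨T, T.isPGroup', hT, Nat.le_of_dvd Nat.card_pos (T.pow_dvd_card_of_pow_dvd_card (n := 7) h.c128)⟩

theorem case1 [Finite G] (h : Su θ1 θ) (kc : ∀ b, Commute (θ1 k0) (θ b))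
    (hc : ∀ c, (∀ b, Commute (θ1 c) (θ b)) → ∃ (i : Fin 3) (j : Fin 4), c = s0 ^ i.1 * k0 ^ j.1) : False := by
  have kk : θ1 k0 * θ1 k0 = θ (-1) := by rw [← map_mul, S25.rel.2.2.1, h.t]
  have kN : θ1 k0 ∈ normalizer (A θ : Set G) := mem_normalizer_fintype (by
    rintro _ ⟨b, hb, rfl⟩
    rw [(kc b).eq, mul_inv_cancel_right]; exact mem_map_of_mem θ hb)
  set E := A θ ⊔ zpowers (θ1 k0) with hE
  have mE (x) (hx : x ∈ E) : ∃ b ∈ Q8, x = θ b ∨ x = θ b * θ1 k0 := by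
    obtain ⟨b, hb, e⟩ | ⟨b, hb, e⟩ := (CL.Inv.mem_sup_zpowers_iff kN (kk ▸ mem_map_of_mem θ qm) x).1 hx
    exacts [⟨b, hb, .inl e.symm⟩, ⟨b, hb, .inr (by rw [e]; group)⟩]
  have AE (b) (hb : b ∈ Q8) : θ b ∈ E := mem_sup_left (mem_map_of_mem θ hb)
  have kE : θ1 k0 ∈ E := mem_sup_right (mem_zpowers _)
  have sq (b) : θ b * θ1 k0 * (θ b * θ1 k0) = θ (b * b * -1) := by
    rw [(kc b).mul_mul_mul_comm, kk, map_mul, map_mul]
  have sE (x) (hx : x ∈ E) : x * x = 1 ∨ x * x = θ (-1) := by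
    obtain ⟨b, hb, rfl | rfl⟩ := mE x hx
    · rw [← map_mul]; obtain e | e := qsq hb <;> simp [e]
    · rw [sq]; obtain e | e := qsq hb <;> simp [e]
  obtain ⟨T, hT, ET, cT⟩ := syl h (pg4 θ sE)
  have cE : Nat.card E ≤ 16 := by
    refine (card_le (fun x : Fin 4 × Fin 2 × Fin 2 => θ (a0 ^ x.1.1 * a1 ^ x.2.1.1) * θ1 k0 ^ x.2.2.1) fun x hx => ?_).trans
      (by simp)
    obtain ⟨_, ⟨i, j, rfl⟩, rfl | rfl⟩ := mE x hx
    exacts [⟨(i, j, 0), by simp⟩, ⟨(i, j, 1), by simp⟩]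
  obtain ⟨n, nT, nE, hn⟩ := CL.Inv.exists_mem_normalizer_of_lt_pgroup hT (lt_of_le_of_ne ET fun e => by
    rw [e] at cE; omega)
  obtain ⟨k, hk⟩ := hT ⟨n, nT⟩
  replace hk : n ^ 2 ^ k = 1 := congrArg Subtype.val hk
  have sa {a} (ha : a * a = -1) : n * θ a * n⁻¹ * (n * θ a * n⁻¹) = n * θ (-1) * n⁻¹ := by rw [conj_mul, ← map_mul, ha]
  have nt : Commute n (θ (-1)) :=
    h.fix_t (sa S25.rel.2.2.2.2.1 ▸ sE _ ((mem_normalizer_iff.1 hn _).1 (AE _ q0)))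
  have cE (b) (e : b = 1 ∨ b = -1) (x) (hx : x ∈ E) : Commute (θ b * θ1 k0) x := by
    have k (c) : Commute (θ b) (θ c) := by obtain rfl | rfl := e; exacts [by simp, (θt θ c).symm]
    obtain ⟨c, -, rfl | rfl⟩ := mE x hx
    exacts [(k c).mul_left (kc c), ((k c).mul_left (kc c)).mul_right ((kc b).symm.mul_left (.refl _))]
  have key (a) (ha : a ∈ Q8) (a2 : a * a = -1) : n * θ a * n⁻¹ ∈ A θ := by
    obtain ⟨b, hb, e | e⟩ := mE _ ((mem_normalizer_iff.1 hn _).1 (AE _ ha))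
    · exact ⟨b, hb, e.symm⟩
    have k := sa a2
    rw [e, sq, nt.eq, mul_inv_cancel_right] at k
    have k2 (c) (hc : c ∈ Q8) : Commute (θ a) (θ c) :=
      (Commute.conj_iff n).1 (e ▸ cE b (S25.sq b (by simpa using h.inj k)) _ ((mem_normalizer_iff.1 hn _).1 (AE _ hc)))
    obtain rfl | rfl := h.cen (k2 _ q0) (k2 _ q1) <;> exact absurd a2 (by decide +kernel)
  obtain ⟨c, d, cc, hd, rfl⟩ := h.nrm (mem_normalizer_fintype (conjA (key _ q0 S25.rel.2.2.2.2.1)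
    (key _ q1 S25.rel.2.2.2.2.2.2.2.1)))
  refine nE (mul_mem ?_ (AE _ (two_mem (h.two cc hk).2 (hd _ q0) (hd _ q1))))
  have e : θ1 c * θ d * θ1 k0 * (θ1 c * θ d)⁻¹ = θ1 (c * k0 * c⁻¹) := by
    rw [mul_assoc (θ1 c), ← (kc d).eq, map_mul, map_mul, map_inv]; group
  have cc' (b) : Commute (θ1 (c * k0 * c⁻¹)) (θ b) := by
    rw [map_mul, map_mul, map_inv]; exact ((cc b).mul_left (kc b)).mul_left (cc b).inv_left
  have k : c * k0 * c⁻¹ = 1 ∨ c * k0 * c⁻¹ = -1 ∨ c * k0 * c⁻¹ * k0⁻¹ = 1 ∨ c * k0 * c⁻¹ * k0⁻¹ = -1 := by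
    obtain ⟨b, -, e' | e'⟩ := mE _ (e ▸ (mem_normalizer_iff.1 hn _).1 kE)
    · obtain ⟨e, -⟩ | ⟨e, -⟩ := h.ker cc' e' <;> simp [e]
    · obtain ⟨e, -⟩ | ⟨e, -⟩ := h.ker (c := c * k0 * c⁻¹ * k0⁻¹) (b := b)
        (fun b => by rw [map_mul, map_inv]; exact (cc' b).mul_left (kc b).inv_left)
        (by rw [map_mul, e', map_inv, mul_inv_cancel_right]) <;> simp [e]
  obtain ⟨i, j, rfl⟩ := hc c cc
  rw [(by decide +kernel : ∀ (i : Fin 3) (j : Fin 4) (c : L5), c = s0 ^ i.1 * k0 ^ j.1 → c * k0 * c⁻¹ = 1 ∨ c * k0 * c⁻¹ = -1 ∨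
    c * k0 * c⁻¹ * k0⁻¹ = 1 ∨ c * k0 * c⁻¹ * k0⁻¹ = -1 → c = k0 ^ j.1) i j _ rfl k, map_pow]
  exact pow_mem kE _

section two

variable (h : Ba θ1 θ) (hc : ∀ c b, Commute (θ1 c) (θ b))
include h hc

omit h in
theorem mP {x : G} (hx : x ∈ A θ1 ⊔ A θ) : ∃ a ∈ Q8, ∃ b ∈ Q8, x = θ1 a * θ b := by
  obtain ⟨_, ⟨a, ha, rfl⟩, _, ⟨b, hb, rfl⟩, rfl⟩ := (CL.Odd.mem_sup_norm (by
    rintro _ ⟨b, -, rfl⟩
    refine centralizer_le_normalizer _ (mem_centralizer_iff.2 ?_)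
    rintro _ ⟨a, -, rfl⟩
    exact hc a b)).1 hx
  exact ⟨a, ha, b, hb, rfl⟩

omit h in
theorem mulP (a b c d : L5) : θ1 a * θ b * (θ1 c * θ d) = θ1 (a * c) * θ (b * d) := by
  rw [(hc c b).symm.mul_mul_mul_comm, map_mul, map_mul]

omit h in
theorem invP (a b : L5) : (θ1 a * θ b)⁻¹ = θ1 a⁻¹ * θ b⁻¹ := by rw [mul_inv_rev, ← map_inv, ← map_inv, (hc _ _).eq]

omit hc in
theorem pm {a b : L5} (ha : a = 1 ∨ a = -1) (hb : b = 1 ∨ b = -1) : θ1 a * θ b = 1 ∨ θ1 a * θ b = θ (-1) := by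
  obtain rfl | rfl := ha <;> obtain rfl | rfl := hb <;> simp [h.t, tt]

theorem sP {x : G} (hx : x ∈ A θ1 ⊔ A θ) : x * x = 1 ∨ x * x = θ (-1) := by
  obtain ⟨a, ha, b, hb, rfl⟩ := mP hc hx
  rw [mulP hc]; exact pm h (qsq ha) (qsq hb)

theorem cP {x y : G} (hx : x ∈ A θ1 ⊔ A θ) (hy : y ∈ A θ1 ⊔ A θ) : x * y * x⁻¹ * y⁻¹ = 1 ∨ x * y * x⁻¹ * y⁻¹ = θ (-1) := by
  obtain ⟨a, ha, b, hb, rfl⟩ := mP hc hx
  obtain ⟨c, hc', d, hd, rfl⟩ := mP hc hy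
  rw [invP hc, invP hc, mulP hc, mulP hc, mulP hc]; exact pm h (qcm ha hc') (qcm hb hd)

variable {n : G} (hn : n ∈ normalizer ((A θ1 ⊔ A θ : Subgroup G) : Set G))
include hn

omit h hc in
theorem cjP {a : L5} (ha : a ∈ Q8) : n * θ a * n⁻¹ ∈ A θ1 ⊔ A θ :=
  (mem_normalizer_iff.1 hn _).1 (mem_sup_right (mem_map_of_mem θ ha))

theorem nt : Commute n (θ (-1)) := h.fix_t (by
  have := sP h hc (cjP hn q0)
  rwa [conj_mul, ← map_mul, S25.rel.2.2.2.2.1] at this)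

theorem dich0 {a : L5} (ha : a ∈ Q8) (a2 : a * a = -1) : n * θ a * n⁻¹ ∈ A θ ∨ n * θ a * n⁻¹ ∈ A θ1 := by
  obtain ⟨c, hc', d, hd, e⟩ := mP hc (cjP hn ha)
  have k : n * θ a * n⁻¹ * (n * θ a * n⁻¹) = θ (-1) := by
    rw [conj_mul, ← map_mul, a2, (nt h hc hn).eq, mul_inv_cancel_right]
  rw [e, mulP hc] at k
  rw [e]
  obtain ⟨e1, -⟩ | ⟨-, e2⟩ := h.ker' (c := c * c) (b := -(d * d)) (hc _) (by rw [θneg, ← mul_assoc, k, tt])
  · refine .inl (mul_mem ?_ (mem_map_of_mem θ hd))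
    obtain rfl | rfl := S25.sq c e1
    exacts [map_one θ1 ▸ one_mem _, h.t ▸ mem_map_of_mem θ qm]
  · refine .inr (mul_mem (mem_map_of_mem θ1 hc') ?_)
    obtain rfl | rfl := S25.sq d (neg_inj.1 e2)
    exacts [map_one θ ▸ one_mem _, h.t ▸ mem_map_of_mem θ1 qm]

theorem dich : (∀ x ∈ A θ, n * x * n⁻¹ ∈ A θ) ∨ ∀ x ∈ A θ, n * x * n⁻¹ ∈ A θ1 := by
  have k {x y : G} (hx : x ∈ A θ1) (hy : y ∈ A θ) : Commute x y := by
    obtain ⟨a, -, rfl⟩ := hx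
    obtain ⟨b, -, rfl⟩ := hy
    exact hc a b
  have k2 : ¬ Commute (n * θ a0 * n⁻¹) (n * θ a1 * n⁻¹) := fun e =>
    nc01.1 (h.inj (by rw [map_mul, map_mul]; exact (Commute.conj_iff n).1 e))
  obtain h0 | h0 := dich0 h hc hn q0 S25.rel.2.2.2.2.1 <;>
    obtain h1 | h1 := dich0 h hc hn q1 S25.rel.2.2.2.2.2.2.2.1
  exacts [.inl (conjA h0 h1), (k2 (k h1 h0).symm).elim, (k2 (k h0 h1)).elim, .inr (conjA h0 h1)]

theorem swap [Finite G] (hs : ∀ x ∈ A θ, n * x * n⁻¹ ∈ A θ1) : ∀ x ∈ A θ1, n * x * n⁻¹ ∈ A θ := by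
  obtain k | k := dich h.symm (fun c b => (hc b c).symm) (sup_comm (A θ1) (A θ) ▸ hn)
  · obtain ⟨c, -, e⟩ := (mem_normalizer_iff.1 (mem_normalizer_fintype k : n ∈ normalizer (A θ1 : Set G)) _).2
      (hs _ (mem_map_of_mem θ q0))
    obtain ⟨-, e⟩ | ⟨-, e⟩ := h.ker (hc c) e <;> exact absurd e (by decide +kernel)
  · exact k

end two

theorem case2 [Finite G] (h : Su θ1 θ) (hc : ∀ c b, Commute (θ1 c) (θ b)) : False := by
  have B := h.toBa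
  obtain ⟨T, hT, PT, cT⟩ := syl h (pg4 θ fun x => sP B hc)
  set P := A θ1 ⊔ A θ with hP
  set T1 := T ⊓ normalizer (P : Set G)
  have PT1 : P ≤ T1 := le_inf PT le_normalizer
  have AP (b) (hb : b ∈ Q8) : θ b ∈ P := mem_sup_right (mem_map_of_mem θ hb)
  have K0 (x) (hx : x ∈ T1) (hA : ∀ y ∈ A θ, x * y * x⁻¹ ∈ A θ) : x ∈ P := by
    obtain ⟨k, hk⟩ := hT ⟨x, hx.1⟩
    replace hk : x ^ 2 ^ k = 1 := congrArg Subtype.val hk
    obtain ⟨c, d, cc, hd, rfl⟩ := h.nrm (mem_normalizer_fintype hA)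
    have k (a) (ha : a ∈ Q8) : c * a * c⁻¹ ∈ Q8 := by
      obtain ⟨a', ha', b, -, e⟩ := mP hc ((mem_normalizer_iff.1 hx.2 _).1 (mem_sup_left (mem_map_of_mem θ1 ha)))
      rw [mul_assoc (θ1 c), ← (hc a d).eq, show ∀ x y z : G, x * (y * z) * (x * z)⁻¹ = x * y * x⁻¹ from fun _ _ _ => by group,
        ← map_inv, ← map_mul, ← map_mul] at e
      obtain ⟨e, -⟩ | ⟨e, -⟩ := B.ker (c := a'⁻¹ * (c * a * c⁻¹)) (b := b) (hc _) (by rw [map_mul, e, map_inv]; group) <;>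
        rw [eq_mul_of_inv_mul_eq e]
      exacts [mul_mem ha' (one_mem _), mul_mem ha' qm]
    exact mul_mem (mem_sup_left (mem_map_of_mem θ1 (two_mem (B.two cc hk).1 (k _ q0) (k _ q1))))
      (AP _ (two_mem (B.two cc hk).2 (hd _ q0) (hd _ q1)))
  have K1 (x) (hx : x ∈ T1) : x ∈ P ∨ ∀ y ∈ A θ, x * y * x⁻¹ ∈ A θ1 := (dich B hc hx.2).imp_left (K0 x hx)
  have K2 (x) (hx : x ∈ T1) (y) (hy : y ∈ T1) (hx' : x ∉ P) (hy' : y ∉ P) : x * y ∈ P :=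
    K0 _ (mul_mem hx hy) fun a ha => by
      have := swap B hc hx.2 ((K1 x hx).resolve_left hx') _ ((K1 y hy).resolve_left hy' a ha)
      rwa [show x * (y * a * y⁻¹) * x⁻¹ = x * y * a * (x * y)⁻¹ by group] at this
  have K4 (x) (hx : x ∈ P) (y) (hy : y ∈ P) (v) (hv : v ∈ T1) : Commute (x * y * x⁻¹ * y⁻¹) v := by
    obtain e | e := cP B hc hx hy <;> rw [e]
    exacts [Commute.one_left _, (nt B hc hv.2).symm]
  have TT : T ≤ T1 := by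
    by_contra hlt
    obtain ⟨g, gT, g1, hg⟩ := CL.Inv.exists_mem_normalizer_of_lt_pgroup hT (lt_of_le_not_ge inf_le_left hlt)
    refine g1 ⟨gT, mem_normalizer_fintype fun x hx => ?_⟩
    refine (K1 _ ((mem_normalizer_iff.1 hg _).1 (PT1 hx))).resolve_right fun hs => ?_
    have m (a) (ha : a ∈ Q8) : g⁻¹ * θ a * g ∈ T1 := (mem_normalizer_iff''.1 hg _).1 (PT1 (AP a ha))
    have k (a) (ha : a ∈ Q8) (e : g⁻¹ * θ a * g ∈ P) : a = 1 ∨ a = -1 := by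
      obtain ⟨c, -, ec⟩ := hs _ (mem_map_of_mem θ ha)
      have k (b) (hb : b ∈ Q8) : Commute (θ a) (θ b) := by
        have := (K4 x hx _ e _ (m b hb)).conj g
        rw [show g * (g⁻¹ * θ b * g) * g⁻¹ = θ b by group, show g * (x * (g⁻¹ * θ a * g) * x⁻¹ * (g⁻¹ * θ a * g)⁻¹) * g⁻¹ =
          g * x * g⁻¹ * θ a * (g * x * g⁻¹)⁻¹ * (θ a)⁻¹ by group, ← ec] at this
        simpa using ((hc c b).inv_left.mul_left this).inv_left
      exact B.cen (k _ q0) (k _ q1)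
    have k0 : g⁻¹ * θ a0 * g ∉ P := fun e => absurd (k _ q0 e) (by decide +kernel)
    have k1 : g⁻¹ * θ a1 * g ∉ P := fun e => absurd (k _ q1 e) (by decide +kernel)
    exact absurd (k _ (mul_mem q0 q1) (by
      have := K2 _ (m _ q0) _ (m _ q1) k0 k1
      rwa [map_mul, show g⁻¹ * (θ a0 * θ a1) * g = g⁻¹ * θ a0 * g * (g⁻¹ * θ a1 * g) by group])) (by decide +kernel)
  obtain ⟨v, hv⟩ : ∃ v, ∀ x ∈ T, x ∈ P ∨ x * v⁻¹ ∈ P := by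
    by_cases e : T ≤ P
    · exact ⟨1, fun x hx => .inl (e hx)⟩
    obtain ⟨v, vT, vP⟩ := SetLike.not_le_iff_exists.1 e
    exact ⟨v⁻¹, fun x hx => or_iff_not_imp_left.2 fun xP => by rw [inv_inv]; exact K2 x (TT hx) v (TT vT) xP vP⟩
  have cov (x) (hx : x ∈ P) : ∃ (i : Fin 4) (j i' j' : Fin 2), θ1 (a0 ^ i.1 * a1 ^ j.1) * θ (a0 ^ i'.1 * a1 ^ j'.1) = x := by
    obtain ⟨a, ha, b, hb, rfl⟩ := mP hc hx
    obtain ⟨i, j, i', j', ⟨rfl, rfl⟩ | ⟨rfl, rfl⟩⟩ := qcov ha hb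
    · exact ⟨i, j, i', j', rfl⟩
    · exact ⟨i, j, i', j', by rw [θneg, B.t, mul_assoc, ← map_mul θ (-1)]; simp⟩
  have := card_le (fun x : Fin 4 × Fin 2 × Fin 2 × Fin 2 × Fin 2 =>
    θ1 (a0 ^ x.1.1 * a1 ^ x.2.1.1) * θ (a0 ^ x.2.2.1.1 * a1 ^ x.2.2.2.1.1) * v ^ x.2.2.2.2.1) (T := T) fun x hx => by
      obtain e | e := hv x hx <;> obtain ⟨i, j, i', j', e⟩ := cov _ e
      exacts [⟨(i, j, i', j', 0), by simp only [e]; simp⟩, ⟨(i, j, i', j', 1), by simp only [e]; simp⟩]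
  simp at this
  omega

end B2bx

open B2bx in
theorem b2bThm : B2bThm.{u} := by
  intro G _ _ ι J θ i w F ⟨hq, hcase⟩
  set θ1 : L5 →* G := (MulAut.conj w).toMonoidHom.comp θ
  have e1 (b) : θ1 b = w * θ b * w⁻¹ := rfl
  have E := F.toEmb
  have wi : w⁻¹ = w := inv_eq_of_mul_eq_one_right F.ww
  have es : θ1 s0 = (ι zv)⁻¹ := by
    rw [e1, F.θs, F.lw, ← E.neg]; exact congrArg ι (by decide)
  have sy {b c} (e : Commute (θ1 b) (θ c)) : Commute (θ1 c) (θ b) := by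
    have := e.conj w
    rw [e1, wi, show w * (w * θ b * w) * w = w * w * θ b * (w * w) by group, F.ww, one_mul, mul_one] at this
    rw [e1, wi]; exact this.symm
  have B : Ba θ1 θ := ⟨F.θinj, (MulAut.conj w).injective.comp F.θinj, by rw [e1, F.wt, mul_inv_cancel_right]⟩
  have zc (b) : Commute (θ1 s0) (θ b) := es ▸ (show Commute _ _ from F.θz b).symm.inv_left
  have kc (b) : Commute (θ1 k0) (θ b) := F.kp b
  have S (cj) : Su θ1 θ := ⟨B, zc, fun g h1 h2 => by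
    obtain ⟨i, b, e⟩ := F.czt g (by simpa [es] using h1.inv_right.eq) h2
    refine ⟨2 * i, b, ?_⟩
    rw [e, es, pow_mul, show (ι zv)⁻¹ ^ 2 = ι zv from ?_]
    rw [inv_pow, inv_eq_iff_mul_eq_one, ← pow_succ, E.cube], hq, cj, F.c128⟩
  obtain h1 | h2 := hcase
  · have k (c) (h0 : Commute (θ1 c) (θ a0)) (h0' : Commute (θ1 c) (θ a1)) :
        ∃ (i : Fin 3) (j : Fin 4), c = s0 ^ i.1 * k0 ^ j.1 := by
      have e : θ1 (c * s0 * c⁻¹) = (θ1 c * ι zv * (θ1 c)⁻¹)⁻¹ := by rw [map_mul, map_mul, map_inv, es]; group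
      refine S25.ns c ?_
      obtain e' | e' | e' := E.mem_zpowers.1 (h1 _ h0 h0') <;> rw [e'] at e
      · exact absurd (conj_eq_one_iff.1 (B.inj1 (e.trans (by simp)) : c * s0 * c⁻¹ = 1)) S25.rel.2.1
      · exact .inl (B.inj1 (e.trans es.symm))
      · exact .inr (B.inj1 (e.trans (by rw [map_inv, es, E.neg])))
    refine case1 (S fun β h0 h0' h3 hn => ?_) kc fun c hc => k c (hc _) (hc _)
    obtain ⟨i, j, e⟩ := k β h0 h0'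
    obtain rfl | rfl := (by decide +kernel : ∀ (i : Fin 3) (j : Fin 4) (β : L5), β = s0 ^ i.1 * k0 ^ j.1 → β ^ 3 = 1 →
      β ≠ 1 → β = s0 ∨ β = s0⁻¹) i j β e h3 hn
    exacts [⟨1, by simp, by simp⟩, ⟨k0, kc, S25.rel.2.2.2.1⟩]
  · have hc (c b) : Commute (θ1 c) (θ b) :=
      S25.gen (K := (centralizer {θ1 c}).comap θ) (mem_centralizer_singleton_iff.2 (h2 c).symm)
        (mem_centralizer_singleton_iff.2 (sy (zc c)).symm) (mem_centralizer_singleton_iff.2 (sy (kc c)).symm) b _ rfl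
    refine case2 (S fun β _ _ h3 hn => ?_) hc
    obtain ⟨c, e⟩ := (S25.o3 β h3).resolve_left hn
    exact ⟨c, hc c, e⟩

end CL.HN3
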