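/-
The 3-local characterisation of the Harada–Norton group: the subgroup `A₁₂` from Carmichael's presentation.
-/
import Cfsg.Agent.Hn3.Defs2
import Cfsg.Agent.Known.AltCarm

set_option autoImplicit false
set_option synthInstance.maxSize 4096

namespace CL.HN3

open Subgroup Cfsg CL.Grp CL.McL3 CL.McL3.C27 CL.S9R CL.Ast Equiv CL.Known

universe u

variable {G : Type*} [Group G]

namespace B3ax

/-- the generating 3-cycles of `A₉` -/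
abbrev c (j : Fin 9) : Perm (Fin 9) := c3 0 1 j

def w3 (i j k : Fin 3) : Perm (Fin 9) := c3 0 1 2 ^ i.1 * c3 3 4 5 ^ j.1 * c3 6 7 8 ^ k.1

theorem blk : (∀ α β γ : Fin 9, c3 α β γ = c3 0 1 2 → ∃ i, ∀ j k, w3 i j k 0 = α ∧ w3 i j k 1 = β ∧ w3 i j k 2 = γ) ∧
    (∀ α β γ : Fin 9, c3 α β γ = c3 3 4 5 → ∃ j, ∀ i k, w3 i j k 3 = α ∧ w3 i j k 4 = β ∧ w3 i j k 5 = γ) ∧
    ∀ α β γ : Fin 9, c3 α β γ = c3 6 7 8 → ∃ k, ∀ i j, w3 i j k 6 = α ∧ w3 i j k 7 = β ∧ w3 i j k 8 = γ := by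
  decide +kernel

theorem cz3 {p : Perm (Fin 9)} (h1 : p * c3 0 1 2 * p⁻¹ = c3 0 1 2) (h2 : p * c3 3 4 5 * p⁻¹ = c3 3 4 5)
    (h3 : p * c3 6 7 8 * p⁻¹ = c3 6 7 8) : ∃ i j k, w3 i j k = p := by
  rw [c3_conj] at h1 h2 h3
  obtain ⟨i, hi⟩ := blk.1 _ _ _ h1
  obtain ⟨j, hj⟩ := blk.2.1 _ _ _ h2
  obtain ⟨k, hk⟩ := blk.2.2 _ _ _ h3
  refine ⟨i, j, k, Equiv.ext fun x => ?_⟩
  fin_cases x
  exacts [(hi j k).1, (hi j k).2.1, (hi j k).2.2, (hj i k).1, (hj i k).2.1, (hj i k).2.2, (hk i j).1, (hk i j).2.1,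
    (hk i j).2.2]

theorem sqc : ∀ j : Fin 9, 3 ≤ j → (c j * c 2) ^ 2 = 1 ∧
    ∃ k, c3 2 k j * c3 2 k j * c 2 * (c3 2 k j * c3 2 k j)⁻¹ = c j := by decide +kernel

theorem trp : ∀ j j' : Fin 9, 3 ≤ j → 3 ≤ j' → j ≠ j' → (c j * c j') ^ 2 = 1 ∧ ∃ u v : Fin 9,
    swap u v * c j * (swap u v)⁻¹ = c j ∧ swap u v * c j' * (swap u v)⁻¹ = c j' ∧ swap u v * c 2 * (swap u v)⁻¹ = c 2 ∧
    ((swap u v * c3 3 4 5 * (swap u v)⁻¹ = (c3 3 4 5)⁻¹ ∧ swap u v * c3 6 7 8 * (swap u v)⁻¹ = c3 6 7 8) ∨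
      (swap u v * c3 3 4 5 * (swap u v)⁻¹ = c3 3 4 5 ∧ swap u v * c3 6 7 8 * (swap u v)⁻¹ = (c3 6 7 8)⁻¹)) := by
  decide +kernel

theorem tau : ∀ α β γ : Fin 9, ∀ τ, τ = c 2 * c3 α β γ → (τ * c 2) ^ 2 = 1 → τ ^ 3 = 1 → τ * c3 3 4 5 = c3 3 4 5 * τ →
    swap 0 1 * swap 3 4 * swap 6 7 * τ * (swap 0 1 * swap 3 4 * swap 6 7)⁻¹ = τ⁻¹ → τ * c 2 ≠ 1 → τ = c 8 := by
  simp only [forall_eq]
  decide +kernel

def κ : Perm (Fin 12) := c3 0 6 9 * c3 1 7 10 * c3 2 8 11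

def up9 (l : Fin 9) : Fin 12 := ⟨l.1 + 3, by omega⟩

theorem red : ∀ j j' : Fin 12, 3 ≠ j → 4 ≠ j → 3 ≠ j' → 4 ≠ j' → ∃ (n : Fin 3) (l l' : Fin 9), 2 ≤ l ∧ 2 ≤ l' ∧
    (κ ^ n.1) j = up9 l ∧ (κ ^ n.1) j' = up9 l' := by decide +kernel

/-- The group-theoretic data. -/
structure Cx (N : Subgroup G) (π : G → Perm (Fin 9)) (a e f g i q : G) : Prop where
  mem : ∀ x, x ∈ N ↔ x * a * x⁻¹ = a ∨ x * a * x⁻¹ = a⁻¹
  hom : HomOn N π
  surj : ∀ p, ∃ x ∈ N, π x = p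
  ker : ∀ x ∈ N, π x = 1 ↔ x ∈ zpowers a
  a1 : a ≠ 1
  a3 : a ^ 3 = 1
  e3 : e ^ 3 = 1
  q3 : q ^ 3 = 1
  ea : Commute e a
  fa : Commute f a
  ga : Commute g a
  fe : Commute f e
  ge : Commute g e
  gf : Commute g f
  πe : π e = c 2
  πf : π f = c3 3 4 5
  πg : π g = c3 6 7 8
  πi : π i = swap 0 1 * swap 3 4 * swap 6 7
  ia : i * a * i⁻¹ = a⁻¹
  ie : i * e * i⁻¹ = e⁻¹
  qa : q * a * q⁻¹ = f
  qf : q * f * q⁻¹ = g
  qg : q * g * q⁻¹ = a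
  qe : q * e * q⁻¹ = e
  qi : Commute q i
  d2 : ∃ d, d * a * d⁻¹ = a⁻¹ ∧ d * e * d⁻¹ = e ∧ d * f * d⁻¹ = f⁻¹ ∧ d * g * d⁻¹ = g
  d3 : ∃ d, d * a * d⁻¹ = a⁻¹ ∧ d * e * d⁻¹ = e ∧ d * f * d⁻¹ = f ∧ d * g * d⁻¹ = g⁻¹

theorem cj {x y : G} (h : Commute x y) : x * y * x⁻¹ = y := mul_inv_eq_iff_eq_mul.2 h

theorem czp {a b x : G} (hb : b ∈ zpowers a) (h : Commute x a) : Commute x b := by
  obtain ⟨n, rfl⟩ := hb
  exact h.zpow_right n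

theorem sq_swap {x y : G} (h : (x * y) ^ 2 = 1) : (y * x) ^ 2 = 1 := by
  rw [show y * x = y * (x * y) * y⁻¹ by group, conj_pow, h]; simp

theorem one23 {x : G} (h2 : x * x = 1) (h3 : x ^ 3 = 1) : x = 1 := by
  rw [pow_succ, sq, h2, one_mul] at h3; exact h3

theorem a4 {x y : G} (h2 : (x * y) ^ 2 = 1) (h3 : x ^ 3 = 1) : x = y * (x * y * x⁻¹) := by
  calc x = x ^ 3 * x⁻¹ * (x * y) ^ 2 * x⁻¹ * (x * ((x * y) ^ 2)⁻¹ * x⁻¹) := by group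
    _ = _ := by rw [h3, one_mul]; nth_rw 2 [h2]; rw [pow_two]; group

namespace Cx

variable {N : Subgroup G} {π : G → Perm (Fin 9)} {a e f g i q : G} (C : Cx N π a e f g i q) {x y h b : G}
include C

theorem cN (h : Commute x a) : x ∈ N := (C.mem x).2 (.inl (cj h))

theorem iN (h : x * a * x⁻¹ = a⁻¹) : x ∈ N := (C.mem x).2 (.inr h)

theorem cjc (hx : x ∈ N) (hy : Commute y a) : Commute (x * y * x⁻¹) a := by
  have := hy.conj x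
  rcases (C.mem x).1 hx with k | k <;> rw [k] at this
  exacts [this, Commute.inv_right_iff.1 this]

theorem sqN (hx : x ∈ N) : Commute (x * x) a := by
  refine mul_inv_eq_iff_eq_mul.1 ?_
  rw [show x * x * a * (x * x)⁻¹ = x * (x * a * x⁻¹) * x⁻¹ by group]
  rcases (C.mem x).1 hx with k | k
  · rw [k, k]
  · rw [k, ← conj_inv, k, inv_inv]

theorem b3 (hb : b ∈ zpowers a) : b ^ 3 = 1 := cube_zp C.a3 hb

theorem fix1 (hb : b ∈ zpowers a) (ha : h * a * h⁻¹ = a⁻¹) (k : h * b * h⁻¹ = b) : b = 1 := by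
  refine one23 ?_ (C.b3 hb)
  obtain ⟨n, rfl⟩ := hb
  simp only at k ⊢
  rw [← conj_zpow, ha, inv_zpow] at k
  exact inv_eq_iff_mul_eq_one.1 k

theorem diff (hx : x ∈ N) (hy : y ∈ N) (k : π x = π y) : x⁻¹ * y ∈ zpowers a :=
  (C.ker _ (mul_mem (inv_mem hx) hy)).1 (by rw [C.hom _ (inv_mem hx) _ hy, C.hom.map_inv hx, k, inv_mul_cancel])

theorem zN (hb : b ∈ zpowers a) : b ∈ N := C.cN (czp hb (Commute.refl a)).symm

theorem uniq (hx : Commute x a) (hy : y ∈ N) (k : π x = π y) (h1 : (x * e) ^ 2 = 1) (h2 : (y * e) ^ 2 = 1) : x = y := by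
  have hb := C.diff (C.cN hx) hy k
  obtain ⟨b, rfl⟩ : ∃ b, y = x * b := ⟨x⁻¹ * y, by group⟩
  rw [inv_mul_cancel_left] at hb
  have k1 := czp hb C.ea
  rw [mul_assoc, ← k1.eq, ← mul_assoc, ((czp hb hx).mul_left k1).mul_pow, h1, one_mul, pow_two] at h2
  rw [one23 h2 (C.b3 hb), mul_one]

theorem ex (j : Fin 9) (hj : 3 ≤ j) : ∃ x, Commute x a ∧ π x = c j ∧ (x * e) ^ 2 = 1 ∧ x ^ 3 = 1 := by
  obtain ⟨s, k, hk⟩ := sqc j hj
  obtain ⟨h, hN, hh⟩ := C.surj (c3 2 k j)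
  have h2 := mul_mem hN hN
  have eN := C.cN C.ea
  obtain ⟨y, hy⟩ : ∃ y, y = h * h * e * (h * h)⁻¹ := ⟨_, rfl⟩
  have ya : Commute y a := hy ▸ C.cjc h2 C.ea
  have y3 : y ^ 3 = 1 := by rw [hy, conj_pow, C.e3]; simp
  have πy : π y = c j := by rw [hy, C.hom.map_conj h2 eN, C.hom _ hN _ hN, hh, C.πe, hk]
  have yN := C.cN ya
  have hb : (y * e) ^ 2 ∈ zpowers a := (C.ker _ (pow_mem (mul_mem yN eN) 2)).1 (by
    rw [C.hom.map_pow (mul_mem yN eN), C.hom _ yN _ eN, πy, C.πe, s])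
  obtain ⟨b, hb'⟩ : ∃ b, b = (y * e) ^ 2 := ⟨_, rfl⟩
  rw [← hb'] at hb
  have k1 := czp hb C.ea
  have k2 := czp hb ya
  refine ⟨y * b, ya.mul_left (czp hb (Commute.refl a)).symm, ?_, ?_, ?_⟩
  · rw [C.hom _ yN _ (C.zN hb), (C.ker _ (C.zN hb)).2 hb, mul_one, πy]
  · rw [mul_assoc, ← k1.eq, ← mul_assoc, (k2.mul_left k1).mul_pow, ← hb', ← pow_succ', C.b3 hb]
  · rw [k2.mul_pow, y3, C.b3 hb, one_mul]

theorem lift {d : G} {τ : Perm (Fin 9)} (hd : d * a * d⁻¹ = a⁻¹) (h1 : τ * c 2 * τ⁻¹ = π (d * e * d⁻¹))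
    (h2 : τ * c3 3 4 5 * τ⁻¹ = π (d * f * d⁻¹)) (h3 : τ * c3 6 7 8 * τ⁻¹ = π (d * g * d⁻¹)) :
    ∃ h, π h = τ ∧ h * a * h⁻¹ = a⁻¹ ∧ h * e * h⁻¹ = d * e * d⁻¹ ∧ h * f * h⁻¹ = d * f * d⁻¹ := by
  have dN := C.iN hd
  have eN := C.cN C.ea
  have fN := C.cN C.fa
  have gN := C.cN C.ga
  rw [C.hom.map_conj dN eN, C.πe] at h1
  rw [C.hom.map_conj dN fN, C.πf] at h2
  rw [C.hom.map_conj dN gN, C.πg] at h3
  have k : ∀ σ : Perm (Fin 9), τ * σ * τ⁻¹ = π d * σ * (π d)⁻¹ → (π d)⁻¹ * τ * σ * ((π d)⁻¹ * τ)⁻¹ = σ := fun σ hσ => by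
    calc _ = (π d)⁻¹ * (τ * σ * τ⁻¹) * π d := by group
      _ = σ := by rw [hσ]; group
  obtain ⟨l, m, n, hw⟩ := cz3 (k _ h1) (k _ h2) (k _ h3)
  have k2 : ∀ y, Commute e y → Commute f y → Commute g y →
      d * (e ^ l.1 * f ^ m.1 * g ^ n.1) * y * (d * (e ^ l.1 * f ^ m.1 * g ^ n.1))⁻¹ = d * y * d⁻¹ := fun y k1 k2 k3 => by
    conv_rhs => rw [← cj (((k1.pow_left l.1).mul_left (k2.pow_left m.1)).mul_left (k3.pow_left n.1))]
    group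
  refine ⟨d * (e ^ l.1 * f ^ m.1 * g ^ n.1), ?_, (k2 a C.ea C.fa C.ga).trans hd, k2 e (Commute.refl e) C.fe C.ge,
    k2 f C.fe.symm (Commute.refl f) C.gf⟩
  have m1 := mul_mem (pow_mem eN l.1) (pow_mem fN m.1)
  rw [C.hom _ dN _ (mul_mem m1 (pow_mem gN _)), C.hom _ m1 _ (pow_mem gN _), C.hom _ (pow_mem eN _) _ (pow_mem fN _),
    C.hom.map_pow eN, C.hom.map_pow fN, C.hom.map_pow gN, C.πe, C.πf, C.πg]
  exact (congrArg _ hw).trans (mul_inv_cancel_left _ _)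

theorem t2 {τ : Perm (Fin 9)} (h1 : τ * c 2 * τ⁻¹ = c 2) (h2 : τ * c3 3 4 5 * τ⁻¹ = (c3 3 4 5)⁻¹)
    (h3 : τ * c3 6 7 8 * τ⁻¹ = c3 6 7 8) : ∃ h, π h = τ ∧ h * a * h⁻¹ = a⁻¹ ∧ h * e * h⁻¹ = e := by
  obtain ⟨d, k0, k1, k2, k3⟩ := C.d2
  obtain ⟨h, l0, l1, l2, -⟩ := C.lift (τ := τ) k0 (by rw [k1, C.πe, h1])
    (by rw [k2, C.hom.map_inv (C.cN C.fa), C.πf, h2]) (by rw [k3, C.πg, h3])
  exact ⟨h, l0, l1, l2.trans k1⟩

theorem t3 {τ : Perm (Fin 9)} (h1 : τ * c 2 * τ⁻¹ = c 2) (h2 : τ * c3 3 4 5 * τ⁻¹ = c3 3 4 5)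
    (h3 : τ * c3 6 7 8 * τ⁻¹ = (c3 6 7 8)⁻¹) : ∃ h, π h = τ ∧ h * a * h⁻¹ = a⁻¹ ∧ h * e * h⁻¹ = e ∧ h * f * h⁻¹ = f := by
  obtain ⟨d, k0, k1, k2, k3⟩ := C.d3
  obtain ⟨h, l0, l1, l2, l3⟩ := C.lift (τ := τ) k0 (by rw [k1, C.πe, h1]) (by rw [k2, C.πf, h2])
    (by rw [k3, C.hom.map_inv (C.cN C.ga), C.πg, h3])
  exact ⟨h, l0, l1, l2.trans k1, l3.trans k2⟩

end Cx

/-- The data with the lifts of the generators. -/
structure Cy (N : Subgroup G) (π : G → Perm (Fin 9)) (a e f g i q : G) (x : Fin 9 → G) : Prop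
    extends Cx N π a e f g i q where
  x2 : x 2 = e
  hx : ∀ j, 3 ≤ j → Commute (x j) a ∧ π (x j) = c j ∧ (x j * e) ^ 2 = 1 ∧ x j ^ 3 = 1

theorem Cx.cy {N : Subgroup G} {π : G → Perm (Fin 9)} {a e f g i q : G} (C : Cx N π a e f g i q) :
    ∃ x, Cy N π a e f g i q x := by
  choose x hx using C.ex
  exact ⟨fun j => if h : 3 ≤ j then x j h else e, C, dif_neg (by decide), fun j hj => by
    simp only [dif_pos hj]; exact hx j hj⟩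

/-- the generators of `A₁₂` -/
def XX (q : G) (x : Fin 9 → G) : Fin 12 → G :=
  ![q * x 6 * q⁻¹, q * x 7 * q⁻¹, q * x 8 * q⁻¹, 1, 1, x 2, x 3, x 4, x 5, x 6, x 7, x 8]

namespace Cy

variable {N : Subgroup G} {π : G → Perm (Fin 9)} {a e f g i q : G} {x : Fin 9 → G} (C : Cy N π a e f g i q x)
  {h : G} {j j' : Fin 9}
include C

theorem two (hj : 2 ≤ j) : Commute (x j) a ∧ π (x j) = c j ∧ x j ^ 3 = 1 := by
  rcases hj.eq_or_lt with rfl | hj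
  · exact C.x2 ▸ ⟨C.ea, C.πe, C.e3⟩
  · exact ⟨(C.hx j hj).1, (C.hx j hj).2.1, (C.hx j hj).2.2.2⟩

theorem U (hN : h ∈ N) (he : h * e * h⁻¹ = e) (hj : 3 ≤ j) (hj' : 3 ≤ j') (k : π h * c j * (π h)⁻¹ = c j') :
    h * x j * h⁻¹ = x j' := by
  obtain ⟨k1, k2, k3, -⟩ := C.hx j hj
  obtain ⟨l1, l2, l3, -⟩ := C.hx j' hj'
  refine C.toCx.uniq (C.toCx.cjc hN k1) (C.toCx.cN l1) (by rw [C.hom.map_conj hN (C.toCx.cN k1), k2, k, l2]) ?_ l3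
  rw [← he, conj_mul, conj_pow, k3]; simp

theorem U' (hN : h ∈ N) (he : h * e * h⁻¹ = e⁻¹) (hj : 3 ≤ j) (hj' : 3 ≤ j') (k : π h * c j * (π h)⁻¹ = (c j')⁻¹) :
    h * x j * h⁻¹ = (x j')⁻¹ := by
  obtain ⟨k1, k2, k3, -⟩ := C.hx j hj
  obtain ⟨l1, l2, l3, -⟩ := C.hx j' hj'
  have k4 := C.toCx.cjc hN k1
  rw [← inv_eq_iff_eq_inv]
  refine C.toCx.uniq k4.inv_left (C.toCx.cN l1)
    (by rw [C.hom.map_inv (C.toCx.cN k4), C.hom.map_conj hN (C.toCx.cN k1), k2, k, l2, inv_inv]) ?_ l3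
  rw [← inv_inv e, ← he, ← mul_inv_rev, inv_pow, conj_mul, conj_pow, sq_swap k3]; simp

theorem rel (hj : 2 ≤ j) (hj' : 2 ≤ j') (hne : j ≠ j') : (x j * x j') ^ 2 = 1 := by
  rcases hj.eq_or_lt with rfl | hj
  · exact C.x2 ▸ sq_swap (C.hx j' (hj'.lt_of_ne hne)).2.2.1
  rcases hj'.eq_or_lt with rfl | hj'
  · exact C.x2 ▸ (C.hx j hj).2.2.1
  obtain ⟨s, u, v, k1, k2, k3, k4⟩ := trp j j' hj hj' hne
  have m1 := C.toCx.cN (C.hx j hj).1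
  have m2 := C.toCx.cN (C.hx j' hj').1
  obtain ⟨h, l0, l1, l2⟩ : ∃ h, π h = swap u v ∧ h * a * h⁻¹ = a⁻¹ ∧ h * e * h⁻¹ = e := by
    rcases k4 with ⟨k4, k5⟩ | ⟨k4, k5⟩
    · exact C.toCx.t2 k3 k4 k5
    · exact (C.toCx.t3 k3 k4 k5).imp fun _ k => ⟨k.1, k.2.1, k.2.2.1⟩
  refine C.toCx.fix1 ((C.ker _ (pow_mem (mul_mem m1 m2) 2)).1 ?_) l1 ?_
  · rw [C.hom.map_pow (mul_mem m1 m2), C.hom _ m1 _ m2, (C.hx j hj).2.1, (C.hx j' hj').2.1, s]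
  · rw [← conj_pow, ← conj_mul, C.U (C.toCx.iN l1) l2 hj hj (l0 ▸ k1), C.U (C.toCx.iN l1) l2 hj' hj' (l0 ▸ k2)]

theorem Uf (hj : 3 ≤ j) (hj' : 3 ≤ j') (k : c3 3 4 5 * c j * (c3 3 4 5)⁻¹ = c j') : f * x j * f⁻¹ = x j' :=
  C.U (C.toCx.cN C.fa) (cj C.fe) hj hj' (C.πf ▸ k)

theorem Ug (hj : 3 ≤ j) (hj' : 3 ≤ j') (k : c3 6 7 8 * c j * (c3 6 7 8)⁻¹ = c j') : g * x j * g⁻¹ = x j' :=
  C.U (C.toCx.cN C.ga) (cj C.ge) hj hj' (C.πg ▸ k)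

theorem Ui (hj : 3 ≤ j) (hj' : 3 ≤ j')
    (k : swap 0 1 * swap 3 4 * swap 6 7 * c j * (swap 0 1 * swap 3 4 * swap 6 7)⁻¹ = (c j')⁻¹) :
    i * x j * i⁻¹ = (x j')⁻¹ :=
  C.U' (C.toCx.iN C.ia) C.ie hj hj' (C.πi ▸ k)

theorem qi' {y z : G} (k : i * y * i⁻¹ = z⁻¹) : i * (q * y * q⁻¹) * i⁻¹ = (q * z * q⁻¹)⁻¹ := by
  calc _ = i * q * y * (i * q)⁻¹ := by group
    _ = q * (i * y * i⁻¹) * q⁻¹ := by rw [← C.qi.eq]; group
    _ = _ := by rw [k]; group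

theorem q5 : q * x 5 * q⁻¹ = x 8 := by
  obtain ⟨k1, k2, k3, k4⟩ := C.hx 5 (by decide)
  obtain ⟨l1, l2, l3, -⟩ := C.hx 8 (by decide)
  have eN := C.toCx.cN C.ea
  have pa : Commute (q * x 5 * q⁻¹) a := C.qg ▸ Commute.conj
    (show Commute g (x 5) from mul_inv_eq_iff_eq_mul.1 (C.Ug (by decide) (by decide) (by decide))).symm q
  have pf : Commute (q * x 5 * q⁻¹) f := C.qa ▸ k1.conj q
  have pe : (q * x 5 * q⁻¹ * e) ^ 2 = 1 := by rw [← C.qe, conj_mul, conj_pow, k3]; simp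
  have p3 : (q * x 5 * q⁻¹) ^ 3 = 1 := by rw [conj_pow, k4]; simp
  have pi := C.qi' (C.Ui (j := 5) (j' := 5) (by decide) (by decide) (by decide))
  have pn : q * x 5 * q⁻¹ * e ≠ 1 := fun k => by
    rw [← C.qe, conj_mul, conj_eq_one_iff] at k
    have := congrArg π k
    rw [C.hom _ (C.toCx.cN k1) _ eN, k2, C.πe, C.hom.map_one] at this
    exact absurd this (by decide)
  generalize q * x 5 * q⁻¹ = p at *
  have pN := C.toCx.cN pa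
  refine C.toCx.uniq pa (C.toCx.cN l1) ?_ pe l3
  have s2 : (π p * c 2) ^ 2 = 1 := by rw [← C.πe, ← C.hom _ pN _ eN, ← C.hom.map_pow (mul_mem pN eN), pe, C.hom.map_one]
  have s3 : π p ^ 3 = 1 := by rw [← C.hom.map_pow pN, p3, C.hom.map_one]
  rw [l2]
  refine tau (π p 0) (π p 1) (π p 2) _ ?_ s2 s3 ?_ ?_ fun k => pn ?_
  · rw [← c3_conj]
    exact a4 s2 s3
  · rw [← C.πf, ← C.hom _ pN _ (C.toCx.cN C.fa), pf.eq, C.hom _ (C.toCx.cN C.fa) _ pN]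
  · rw [← C.πi, ← C.hom.map_conj (C.toCx.iN C.ia) pN, pi, C.hom.map_inv pN]
  · have hb := (C.ker _ (mul_mem pN eN)).1 (by rw [C.hom _ pN _ eN, C.πe, k])
    exact one23 (pow_two (p * e) ▸ pe) (C.toCx.b3 hb)

theorem q3' : q * x 3 * q⁻¹ = x 6 := by
  rw [← C.Uf (j := 5) (j' := 3) (by decide) (by decide) (by decide),
    ← C.Ug (j := 8) (j' := 6) (by decide) (by decide) (by decide), ← C.q5, ← C.qf]
  group

theorem q4 : q * x 4 * q⁻¹ = x 7 := by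
  rw [← C.Uf (j := 3) (j' := 4) (by decide) (by decide) (by decide),
    ← C.Ug (j := 6) (j' := 7) (by decide) (by decide) (by decide), ← C.q3', ← C.qf]
  group

theorem qqq (y : G) : q * (q * (q * y * q⁻¹) * q⁻¹) * q⁻¹ = y := by
  calc _ = q * q * q * y * (q * q * q)⁻¹ := by simp only [mul_inv_rev, mul_assoc]
    _ = y := by rw [← pow_three', C.q3]; simp

theorem qX (l : Fin 12) : q * XX q x l * q⁻¹ = XX q x (κ l) := by
  have k2 : q * x 2 * q⁻¹ = x 2 := C.x2 ▸ C.qe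
  have k3 : q * (q * x 6 * q⁻¹) * q⁻¹ = x 3 := C.q3' ▸ C.qqq (x 3)
  have k4 : q * (q * x 7 * q⁻¹) * q⁻¹ = x 4 := C.q4 ▸ C.qqq (x 4)
  have k5 : q * (q * x 8 * q⁻¹) * q⁻¹ = x 5 := C.q5 ▸ C.qqq (x 5)
  have k1 : q * 1 * q⁻¹ = 1 := by simp
  fin_cases l
  exacts [k3, k4, k5, k1, k1, k2, C.q3', C.q4, C.q5, rfl, rfl, rfl]

theorem qnX (n : ℕ) (l : Fin 12) : q ^ n * XX q x l * (q ^ n)⁻¹ = XX q x ((κ ^ n) l) := by
  induction n with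
  | zero => simp
  | succ n ih => rw [pow_succ', pow_succ', Perm.mul_apply, ← C.qX, ← ih]; group

omit C in
theorem Xup (hj : 2 ≤ j) : XX q x (up9 j) = x j := by
  fin_cases j
  exacts [absurd hj (by decide), absurd hj (by decide), rfl, rfl, rfl, rfl, rfl, rfl, rfl]

theorem iX (l : Fin 12) (h3 : 3 ≠ l) (h4 : 4 ≠ l) : i * XX q x l * i⁻¹ = (XX q x (P.i.1 l))⁻¹ := by
  have k2 : i * x 2 * i⁻¹ = (x 2)⁻¹ := C.x2 ▸ C.ie
  have k6 := C.Ui (j := 6) (j' := 7) (by decide) (by decide) (by decide)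
  have k7 := C.Ui (j := 7) (j' := 6) (by decide) (by decide) (by decide)
  have k8 := C.Ui (j := 8) (j' := 8) (by decide) (by decide) (by decide)
  fin_cases l
  exacts [C.qi' k6, C.qi' k7, C.qi' k8, absurd rfl h3, absurd rfl h4, k2,
    C.Ui (j := 3) (j' := 4) (by decide) (by decide) (by decide), C.Ui (j := 4) (j' := 3) (by decide) (by decide) (by decide),
    C.Ui (j := 5) (j' := 5) (by decide) (by decide) (by decide), k6, k7, k8]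

theorem eta : ∃ η : Perm (Fin 12) → G, HomOn (alternatingGroup _) η ∧ ∀ l, 3 ≠ l → 4 ≠ l → η (c3 3 4 l) = XX q x l := by
  refine carmichael_univ (by decide) _ (fun l h3 h4 => ?_) fun l l' h3 h4 h3' h4' hne => ?_
  · obtain ⟨n, j, -, hj, -, k, -⟩ := red l l h3 h4 h3 h4
    rw [← conj_eq_one_iff (a := q ^ n.1), ← conj_pow, C.qnX, k, Xup hj, (C.two hj).2.2]
  · obtain ⟨n, j, j', hj, hj', k, k'⟩ := red l l' h3 h4 h3' h4'
    rw [← conj_eq_one_iff (a := q ^ n.1), ← conj_pow, ← conj_mul, C.qnX, C.qnX, k, k', Xup hj, Xup hj']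
    exact C.rel hj hj' fun e => hne ((κ ^ n.1).injective (by rw [k, k', e]))

theorem main : ∃ ψ : A12 →* G, ψ P.e0 = a ∧ ψ P.e1 = e ∧ ψ P.e2 = f ∧ ψ P.y = g ∧ ψ P.i = i ∧ N ≤ ψ.range := by
  obtain ⟨η, hη, hX⟩ := C.eta
  have cA : ∀ (p : Perm (Fin 12)), ∀ s ∈ alternatingGroup (Fin 12), p * s * p⁻¹ ∈ alternatingGroup (Fin 12) :=
    fun p s hs => Subgroup.Normal.conj_mem inferInstance s hs p
  have con : ∀ (y : G) (p : Perm (Fin 12)), (∀ l, 3 ≠ l → 4 ≠ l → y * XX q x l * y⁻¹ = η (p * c3 3 4 l * p⁻¹)) →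
      ∀ s ∈ alternatingGroup (Fin 12), y * η s * y⁻¹ = η (p * s * p⁻¹) := fun y p k s hs =>
    (alt_le_of_c3 (a := 3) (b := 4) (by decide) (H := (hη.conj y).eqLocus (hη.comp_conj (cA p))) (fun l h3 h4 =>
      ⟨c3_mem_alt (by decide) h4, by simp only [hX l h3 h4, k l h3 h4]⟩) hs).2
  have cq := con q κ fun l h3 h4 => by
    rw [c3_conj, C.qX, ← hX _ (κ.injective.ne h3) (κ.injective.ne h4)]; rfl
  have ci := con i P.i.1 fun l h3 h4 => by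
    have k3 : 3 ≠ P.i.1 l := P.i.1.injective.ne h4
    have k4 : 4 ≠ P.i.1 l := P.i.1.injective.ne h3
    rw [c3_conj, C.iX l h3 h4, ← hX _ k3 k4, ← hη.map_inv (c3_mem_alt (by decide) k4), c3_inv (by decide) k3 k4]; rfl
  have hx : ∀ j, 2 ≤ j → η (c3 3 4 (up9 j)) = x j := fun j hj => by
    rw [hX _ (by revert j; decide) (by revert j; decide), Xup hj]
  have m : ∀ j, 2 ≤ j → c3 3 4 (up9 j) ∈ alternatingGroup (Fin 12) := fun j hj =>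
    c3_mem_alt (by decide) (by revert j; decide)
  have xN : ∀ j, 2 ≤ j → x j ∈ N := fun j hj => C.toCx.cN (C.two hj).1
  have fN := C.toCx.cN C.fa
  have e2 : η P.e2.1 = f := by
    have m3 := m 3 (by decide)
    have m4 := m 4 (by decide)
    have m5 := m 5 (by decide)
    have n3 := xN 3 (by decide)
    have n4 := xN 4 (by decide)
    have n5 := xN 5 (by decide)
    have n1 := mul_mem (inv_mem n5) n4
    have n2 := mul_mem n1 (inv_mem n3)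
    rw [show P.e2.1 = (c3 3 4 (up9 5))⁻¹ * c3 3 4 (up9 4) * (c3 3 4 (up9 3))⁻¹ * c3 3 4 (up9 5) by decide,
      hη _ (mul_mem (mul_mem (inv_mem m5) m4) (inv_mem m3)) _ m5, hη _ (mul_mem (inv_mem m5) m4) _ (inv_mem m3),
      hη _ (inv_mem m5) _ m4, hη.map_inv m5, hη.map_inv m3, hx 3 (by decide), hx 4 (by decide), hx 5 (by decide)]
    obtain ⟨h, l0, l1, l2, l3⟩ := C.toCx.t3 (τ := swap 6 7) (by decide) (by decide) (by decide)
    have u3 := C.U (j := 3) (j' := 3) (C.toCx.iN l1) l2 (by decide) (by decide) (by rw [l0]; decide)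
    have u4 := C.U (j := 4) (j' := 4) (C.toCx.iN l1) l2 (by decide) (by decide) (by rw [l0]; decide)
    have u5 := C.U (j := 5) (j' := 5) (C.toCx.iN l1) l2 (by decide) (by decide) (by rw [l0]; decide)
    refine (inv_mul_eq_one.1 (C.toCx.fix1 (C.toCx.diff fN (mul_mem n2 n5) ?_) l1 ?_)).symm
    · rw [C.hom _ n2 _ n5, C.hom _ n1 _ (inv_mem n3), C.hom _ (inv_mem n5) _ n4, C.hom.map_inv n5, C.hom.map_inv n3,
        (C.two (j := 3) (by decide)).2.1, (C.two (j := 4) (by decide)).2.1, (C.two (j := 5) (by decide)).2.1, C.πf]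
      decide
    · simp only [← conj_mul, ← conj_inv, l3, u3, u4, u5]
  have ey : η P.y.1 = g := by rw [← C.qf, ← e2, cq _ P.e2.2]; exact congrArg η (by decide)
  have e0 : η P.e0.1 = a := by rw [← C.qg, ← ey, cq _ P.y.2]; exact congrArg η (by decide)
  have ir : η P.i.1 * a * (η P.i.1)⁻¹ = a⁻¹ := by
    rw [← e0, ← hη.map_conj P.i.2 P.e0.2, ← hη.map_inv P.e0.2]; exact congrArg η (by decide)
  have ei : η P.i.1 = i := by
    have z1 : ∀ s ∈ alternatingGroup (Fin 12), (η P.i.1)⁻¹ * i * η s * ((η P.i.1)⁻¹ * i)⁻¹ = η s := fun s hs => by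
      calc _ = (η P.i.1)⁻¹ * (i * η s * i⁻¹) * η P.i.1 := by group
        _ = _ := by rw [ci s hs, hη.map_conj P.i.2 hs]; group
    have zN : (η P.i.1)⁻¹ * i ∈ N := mul_mem (inv_mem (C.toCx.iN ir)) (C.toCx.iN C.ia)
    have z2 : π ((η P.i.1)⁻¹ * i) = 1 := eq_one_of_commute_alt (by simp) fun s hs =>
      (mem_centralizer_singleton_iff.1 (alt_le_of_c3 (a := 0) (b := 1) (by decide) (H := centralizer {π _}) (fun j h0 h1 => by
        have hj : 2 ≤ j := by revert j; decide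
        have := congrArg π (z1 _ (m j hj))
        rw [hx j hj, C.hom.map_conj zN (xN j hj), (C.two hj).2.1] at this
        exact mem_centralizer_singleton_iff.2 (mul_inv_eq_iff_eq_mul.1 this).symm) hs.mem_alternatingGroup)).symm
    refine inv_mul_eq_one.1 (C.toCx.fix1 ((C.ker _ zN).1 z2) ir ?_)
    exact cj (Commute.symm (mul_inv_eq_iff_eq_mul.1 (z1 _ P.i.2)))
  refine ⟨hη.toHom, e0, (hx 2 le_rfl).trans C.x2, e2, ey, ei, ?_⟩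
  have aR : zpowers a ≤ hη.toHom.range := zpowers_le.2 ⟨P.e0, e0⟩
  have ev : ∀ y ∈ N, π y ∈ alternatingGroup (Fin 9) → y ∈ hη.toHom.range := fun y hy k => by
    obtain ⟨z, ⟨zN, zR⟩, hz⟩ := alt_le_of_c3 (a := 0) (b := 1) (by decide)
      (H := ((N ⊓ hη.toHom.range).subgroupOf N).map C.hom.toHom) (fun j h0 h1 => by
        have hj : 2 ≤ j := by revert j; decide
        exact ⟨⟨x j, xN j hj⟩, ⟨xN j hj, ⟨_, m j hj⟩, hx j hj⟩, (C.two hj).2.1⟩) k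
    simpa using mul_mem zR (aR (C.toCx.diff zN hy hz))
  intro y hy
  rcases Int.units_eq_one_or (Perm.sign (π y)) with k | k
  · exact ev y hy k
  · have iN := C.toCx.iN C.ia
    have := ev _ (mul_mem hy iN) (by rw [Perm.mem_alternatingGroup, C.hom _ hy _ iN, map_mul, k, C.πi]; decide)
    exact (mul_mem_cancel_right (show i ∈ hη.toHom.range from ⟨P.i, ei⟩)).1 this

end Cy

end B3ax

open B3ax in
theorem b3aThm : B3aThm.{u} := by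
  intro G _ _ ι J θ i w π F S
  have E := F.toEmb
  obtain ⟨q0, hq0⟩ := F.rq1
  obtain ⟨q, hq, qi⟩ := F.lift0 hq0
  obtain ⟨d, hd⟩ := F.rd2
  obtain ⟨d', hd'⟩ := F.rd3
  have mem : ∀ x, x * ι (e4 0) * x⁻¹ ∈ zpowers (ι (e4 0)) → x ∈ normalizer (zpowers (ι (e4 0)) : Set G) := fun x hx =>
    mem_normalizer_fintype fun b hb => by
      obtain ⟨n, rfl⟩ := hb
      simp only [SetLike.mem_coe, ← conj_zpow]
      exact zpow_mem hx n
  have a1 : ι (e4 0) ≠ 1 := mt E.eq_one.1 (by decide)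
  have L : ∀ {g γ}, Lin ι g γ → ∀ v w, γ v = w → g * ι v * g⁻¹ = ι w := fun h v w k => k ▸ h v
  have L' : ∀ {g γ}, Lin ι g γ → ∀ v, γ v = -v → g * ι v * g⁻¹ = (ι v)⁻¹ := fun h v k => E.neg v ▸ k ▸ h v
  have C : Cx (normalizer (zpowers (ι (e4 0)) : Set G)) π (ι (e4 0)) (ι (e4 1)) (ι (e4 2)) (ι (e4 3)) i q :=
    { mem := fun x => ⟨fun hx => by
          rcases E.mem_zpowers.1 ((mem_normalizer_iff.1 hx _).1 (mem_zpowers _)) with k | k | k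
          exacts [absurd (conj_eq_one_iff.1 k) a1, .inl k, .inr (k.trans (E.neg _))],
        fun hx => mem x (by rcases hx with k | k <;> simp [k])⟩
      hom := S.mul, surj := S.surj, ker := S.ker, a1 := a1, a3 := E.cube _, e3 := E.cube _
      q3 := F.uniq0 (γ := id) (by
          rw [pow_succ, pow_two]; exact ((hq.mul hq).mul hq).congr (by decide +kernel)) (Lin.one ι)
        ((show Commute q i from qi).pow_left 3) (by simp)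
      ea := E.comm _ _, fa := E.comm _ _, ga := E.comm _ _, fe := E.comm _ _, ge := E.comm _ _, gf := E.comm _ _
      πe := S.e1, πf := S.e2, πg := S.e3, πi := S.pi
      ia := L' F.li _ rfl, ie := L' F.li _ rfl
      qa := L hq _ _ (by decide), qf := L hq _ _ (by decide), qg := L hq _ _ (by decide), qe := L hq _ _ (by decide)
      qi := qi
      d2 := ⟨d, L' hd _ (by decide), L hd _ _ (by decide), L' hd _ (by decide), L hd _ _ (by decide)⟩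
      d3 := ⟨d', L' hd' _ (by decide), L hd' _ _ (by decide), L hd' _ _ (by decide), L' hd' _ (by decide)⟩ }
  obtain ⟨x, C'⟩ := C.cy
  obtain ⟨ψ, h0, h1, h2, h3, h4, h5⟩ := C'.main
  exact ⟨ψ, h0, h1, h2, h3, h4, fun g hg => h5 (mem g hg)⟩

end CL.HN3
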