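/-
The 3-local characterisation of the Harada–Norton group (helper35): the passage from `J` to `A12`.
-/
import Cfsg.Agent.Hn3.Defs2

set_option autoImplicit false
set_option synthInstance.maxSize 4096

namespace CL.HN3

open Subgroup Cfsg CL.Grp CL.McL3 CL.McL3.C27 CL.S9R CL.Ast Equiv

universe u

namespace B3bx

/-- the element of `A12` with coordinates `v` -/
def io (v : V) : A12 := P.e0 ^ (v 0).val * P.e1 ^ (v 1).val * P.e2 ^ (v 2).val * P.y ^ (v 3).val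

theorem dec : (∀ v : V, v = (v 0).val • e4 0 + (v 1).val • e4 1 + (v 2).val • e4 2 + (v 3).val • e4 3) ∧
    (∀ v, P.t * io v * P.t⁻¹ = io (tH v)) ∧ (∀ v, P.w * io v * P.w⁻¹ = io (wM v)) ∧
    (∀ v, P.σ * io v * P.σ⁻¹ = io (d3M v)) ∧ P.t * P.i = P.i * P.t ∧ P.w * P.i = P.i * P.w ∧ P.σ * P.i = P.i * P.σ ∧
    io zv = P.z ∧ io zp = P.z' ∧ io mv = P.m ∧ io yp = P.y' ∧ P.e1 ≠ 1 := by decide +kernel

theorem dec2 : kM (e4 0) = mv ∧ kM mv = -e4 0 ∧ kM (e4 3) = yp ∧ kM yp = e4 3 ∧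
    (∀ v, kM (wM v) = d3M (tH (kM v))) ∧ ∀ v, kM (d3M v) = wM (tH (kM v)) := by decide +kernel

end B3bx

open B3bx in
theorem b3Thm (a : B3aThm.{u}) : B3Thm.{u} := by
  intro G _ _ ι J θ i w π F S
  obtain ⟨ψ, h0, h1, h2, h3, hi, hN⟩ := a F S
  obtain ⟨c0, c1, c2, c3, c4, c5, c6, c7, c8, c9, d1, d2⟩ := dec
  obtain ⟨k1, k2, k3, k4, k5, k6⟩ := dec2
  have E := F.toEmb
  have e (v : V) : ψ (io v) = ι v := by
    conv_rhs => rw [c0 v]
    simp only [io, map_mul, map_pow, E.add, E.nsmul, h0, h1, h2, h3]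
  have l {p : A12} {γ : V → V} (h : ∀ v, p * io v * p⁻¹ = io (γ v)) : Lin ι (ψ p) γ := fun v => by
    rw [← e, ← e, ← h, map_mul, map_mul, map_inv]
  have cm {p : A12} (h : p * P.i = P.i * p) : Commute (ψ p) i := by
    rw [← hi, Commute, SemiconjBy, ← map_mul, h, map_mul]
  have ki : Commute (θ k0) i := F.ik.symm
  have ht : θ (-1) = ψ P.t := F.uniq0 F.lt (l c1) F.it (cm c4)
  have hw : w = ψ P.w := F.uniq0 F.lw (l c2) F.iw.symm (cm c5)
  have hz : ι zv = ψ P.z := by rw [← e, c7]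
  have inj : Function.Injective ψ := by
    have := alternatingGroup.isSimpleGroup (α := Fin 12) (by simp)
    refine (MonoidHom.ker_eq_bot_iff ψ).1 ((MonoidHom.normal_ker ψ).eq_bot_or_eq_top.resolve_right fun k => ?_)
    exact absurd (E.eq_one.1 (h1.symm.trans (k ▸ mem_top _ : P.e1 ∈ ψ.ker))) (by decide)
  refine ⟨ψ, inj, h0.symm ▸ hN, F.θinj, ht, by rw [F.θs, ← e, c8], rfl, hz ▸ F.θz, hz ▸ ht ▸ F.czt,
    by rw [h0, F.lk, k1, ← e, c9], by rw [← c9, e, F.lk, k2, E.neg, map_inv, h0], by rw [h3, F.lk, k3, ← e, d1],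
    by rw [← d1, e, F.lk, k4, h3], mul_inv_eq_iff_eq_mul.2 ?_, mul_inv_eq_iff_eq_mul.2 ?_,
    by rw [hi, ki.eq, mul_inv_cancel_right], hw ▸ F.kp, hz ▸ h0.symm ▸ F.nc⟩
  · rw [map_mul]
    exact F.uniq0 ((F.lk.mul (l c2)).congr k5) (((l c3).mul (l c1)).mul F.lk) (ki.mul_left (cm c5))
      (((cm c6).mul_left (cm c4)).mul_left ki)
  · rw [map_mul]
    exact F.uniq0 ((F.lk.mul (l c3)).congr k6) (((l c2).mul (l c1)).mul F.lk) (ki.mul_left (cm c6))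
      (((cm c5).mul_left (cm c4)).mul_left ki)

end CL.HN3
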