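/-
Centralizers in the alternating group of degree twelve (helper92, for helper35's project).
-/
import Cfsg.Agent.Hn3.Defs

set_option autoImplicit false
set_option synthInstance.maxSize 4096

namespace CL.HN3

open Subgroup Cfsg CL.Grp CL.McL3 CL.McL3.C27 CL.S9R CL.Ast Equiv

namespace YFx

/-! ### Codes of permutations and a backtrack search -/

def ap (c x : ℕ) : ℕ := Nat.mod (Nat.shiftRight c (Nat.mul 4 x)) 16

def enc (f : ℕ → ℕ) : ℕ → ℕ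
  | 0 => 0
  | n + 1 => Nat.add (enc f n) (Nat.shiftLeft (f n) (Nat.mul 4 n))

theorem ap_eq (c x : ℕ) : ap c x = c / 16 ^ x % 16 := by
  show c >>> (4 * x) % 16 = _
  rw [Nat.shiftRight_eq_div_pow, pow_mul]; rfl

theorem enc_succ (f : ℕ → ℕ) (n : ℕ) : enc f (n + 1) = enc f n + f n * 16 ^ n := by
  show enc f n + f n <<< (4 * n) = _
  rw [Nat.shiftLeft_eq, pow_mul]; rfl

theorem enc_lt {f : ℕ → ℕ} (hf : ∀ i, f i < 16) : ∀ n, enc f n < 16 ^ n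
  | 0 => by simp [enc]
  | n + 1 => by
    have := enc_lt hf n
    have h2 := hf n
    rw [enc_succ, pow_succ]
    nlinarith

theorem ap_enc {f : ℕ → ℕ} (hf : ∀ i, f i < 16) : ∀ n x, x < n → ap (enc f n) x = f x
  | 0, _, h => absurd h (Nat.not_lt_zero _)
  | n + 1, x, h => by
    rw [enc_succ]
    rcases Nat.lt_succ_iff_lt_or_eq.1 h with h | rfl
    · rw [← ap_enc hf n x h, ap_eq, ap_eq]
      obtain ⟨m, rfl⟩ := Nat.exists_eq_add_of_lt h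
      rw [show f (x + m + 1) * 16 ^ (x + m + 1) = 16 ^ x * (16 * (f (x + m + 1) * 16 ^ m)) by ring,
        Nat.add_mul_div_left _ _ (by positivity), Nat.add_mul_mod_self_left]
    · rw [ap_eq, Nat.add_mul_div_right _ _ (by positivity), Nat.div_eq_of_lt (enc_lt hf x), zero_add,
        Nat.mod_eq_of_lt (hf x)]

theorem enc_congr {f g : ℕ → ℕ} : ∀ n, (∀ i < n, f i = g i) → enc f n = enc g n
  | 0, _ => rfl
  | n + 1, h => by
    rw [enc_succ, enc_succ, enc_congr n fun i hi => h i (by omega), h n (by omega)]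

def fn (p : Perm (Fin 12)) (i : ℕ) : ℕ := (p (Fin.ofNat 12 i)).1
def cod (p : Perm (Fin 12)) : ℕ := enc (fn p) 12
/-- one digit of the product -/
def dg (c d s : ℕ) : ℕ := Nat.shiftLeft (Nat.mod (Nat.shiftRight c (Nat.mul 4 (Nat.mod (Nat.shiftRight d s) 16))) 16) s
def rmul (c d : ℕ) : ℕ := Nat.add (Nat.add (Nat.add (Nat.add (Nat.add (Nat.add (Nat.add (Nat.add (Nat.add (Nat.add
  (Nat.add (Nat.add 0 (dg c d 0)) (dg c d 4)) (dg c d 8)) (dg c d 12)) (dg c d 16)) (dg c d 20)) (dg c d 24)) (dg c d 28))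
  (dg c d 32)) (dg c d 36)) (dg c d 40)) (dg c d 44)

theorem rmul_eq (c d : ℕ) : rmul c d = enc (fun i => ap c (ap d i)) 12 := rfl

theorem fn_lt (p : Perm (Fin 12)) (i : ℕ) : fn p i < 12 := Fin.is_lt _
theorem fn_lt' (p : Perm (Fin 12)) (i : ℕ) : fn p i < 16 := (fn_lt p i).trans (by norm_num)
theorem ap_cod (p : Perm (Fin 12)) {i : ℕ} (h : i < 12) : ap (cod p) i = fn p i := ap_enc (fn_lt' p) _ _ h
theorem fn_mul (p q : Perm (Fin 12)) (i : ℕ) : fn (p * q) i = fn p (fn q i) := by simp [fn]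
theorem fn_val (p : Perm (Fin 12)) (i : Fin 12) : fn p i.1 = (p i).1 := by simp [fn]

theorem fn_inj (p : Perm (Fin 12)) {i j : ℕ} (hi : i < 12) (hj : j < 12) (h : fn p i = fn p j) : i = j := by
  have := fn_val p ⟨i, hi⟩
  have h2 := fn_val p ⟨j, hj⟩
  exact congrArg Fin.val (p.injective (Fin.ext (this.symm.trans (h.trans h2))))

theorem cod_mul (p q : Perm (Fin 12)) : cod (p * q) = rmul (cod p) (cod q) :=
  (enc_congr _ fun i hi => by rw [ap_cod _ hi, ap_cod _ (fn_lt _ _), fn_mul]).trans (rmul_eq _ _).symm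

theorem eq_of_ap {p q : Perm (Fin 12)} (h : ∀ i < 12, ap (cod p) i = fn q i) : p = q :=
  Equiv.ext fun i => Fin.ext (by rw [← fn_val, ← fn_val, ← h _ i.2, ap_cod _ i.2])

theorem cod_inj {p q : Perm (Fin 12)} (h : cod p = cod q) : p = q :=
  eq_of_ap fun i hi => by rw [h, ap_cod _ hi]

attribute [local irreducible] cod rmul

def ok1 (a b n c x : ℕ) : Bool :=
  Bool.rec (Bool.rec (Bool.rec true false (Nat.beq (ap b x) x)) (Nat.beq (ap b x) x) (Nat.beq (ap a n) n))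
    (Nat.beq (ap c (ap a n)) (ap b x)) (Nat.ble (Nat.succ (ap a n)) n)

noncomputable def ok (A : List (ℕ × ℕ)) (n c x : ℕ) : Bool :=
  List.rec true (fun ab _ ih => Bool.rec false ih (ok1 ab.1 ab.2 n c x)) A

noncomputable def flt (n x : ℕ) (C : List ℕ) : List ℕ :=
  List.rec [] (fun d _ ih => Bool.rec ih (d :: ih) (Nat.beq (ap d n) x)) C

noncomputable def ers (x : ℕ) (C : List ℕ) : List ℕ :=
  List.rec [] (fun d _ ih => Bool.rec (d :: ih) ih (Nat.beq d x)) C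

noncomputable def all' (f : ℕ → Bool) (R : List ℕ) : Bool := List.rec true (fun x _ ih => Bool.rec false ih (f x)) R

noncomputable def go (A : List (ℕ × ℕ)) (k : ℕ) : ℕ → ℕ → List ℕ → List ℕ → Bool :=
  Nat.rec (fun _ _ _ C => List.rec false (fun _ _ _ => true) C) (fun _ ih n c R C => all' (fun x => Bool.rec true
    (ih (Nat.succ n) (Nat.add c (Nat.shiftLeft x (Nat.mul 4 n))) (ers x R) (flt n x C)) (ok A n c x)) R) k

theorem of_all' {f : ℕ → Bool} : ∀ {R : List ℕ}, all' f R = true → ∀ x ∈ R, f x = true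
  | [], _, _, h => absurd h List.not_mem_nil
  | y :: R, h, x, hx => by
    have h : Bool.rec false (all' f R) (f y) = true := h
    cases e : f y
    · rw [e] at h; exact absurd h (by simp)
    · rw [e] at h
      rcases List.mem_cons.1 hx with rfl | hx
      · exact e
      · exact of_all' h x hx

theorem mem_ers {x y : ℕ} (hxy : y ≠ x) : ∀ {R : List ℕ}, y ∈ R → y ∈ ers x R
  | [], h => h
  | d :: R, h => by
    show y ∈ (Bool.rec (d :: ers x R) (ers x R) (Nat.beq d x) : List ℕ)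
    rcases List.mem_cons.1 h with rfl | h
    · rw [Bool.eq_false_iff.2 (mt Nat.beq_eq.mp hxy)]; exact List.mem_cons_self
    · cases Nat.beq d x
      · exact List.mem_cons_of_mem _ (mem_ers hxy h)
      · exact mem_ers hxy h

theorem mem_flt {n x y : ℕ} : ∀ {C : List ℕ}, y ∈ flt n x C → y ∈ C ∧ ap y n = x
  | [], h => absurd h List.not_mem_nil
  | d :: C, h => by
    have h : y ∈ (Bool.rec (flt n x C) (d :: flt n x C) (Nat.beq (ap d n) x) : List ℕ) := h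
    cases e : Nat.beq (ap d n) x
    · rw [e] at h; exact ⟨List.mem_cons_of_mem _ (mem_flt h).1, (mem_flt h).2⟩
    · rw [e] at h
      rcases List.mem_cons.1 h with rfl | h
      · exact ⟨List.mem_cons_self, Nat.beq_eq.mp e⟩
      · exact ⟨List.mem_cons_of_mem _ (mem_flt h).1, (mem_flt h).2⟩

def cp (A : List (A12 × A12)) : List (ℕ × ℕ) := A.map fun ab => (cod ab.1.1, cod ab.2.1)

theorem ok1_of {p a b : A12} (h : p * a = b * p) {n : ℕ} (hn : n < 12) :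
    ok1 (cod a.1) (cod b.1) n (enc (fn p.1) n) (fn p.1 n) = true := by
  have e : fn p.1 (fn a.1 n) = fn b.1 (fn p.1 n) := by
    rw [← fn_mul, ← fn_mul]; exact congrArg (fun q : A12 => fn q.1 n) h
  simp only [ok1, ap_cod _ hn, ap_cod _ (fn_lt _ _), ← e]
  by_cases h1 : fn a.1 n < n
  · rw [Nat.ble_eq.mpr h1, ap_enc (fn_lt' _) _ _ h1]; exact Nat.beq_eq.mpr rfl
  · rw [Bool.eq_false_iff.2 (mt Nat.ble_eq.mp h1)]
    by_cases h2 : fn a.1 n = n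
    · rw [h2]; simp only [Nat.beq_refl]
    · have : fn p.1 (fn a.1 n) ≠ fn p.1 n := fun h => h2 (fn_inj _ (fn_lt _ _) hn h)
      rw [Bool.eq_false_iff.2 (mt Nat.beq_eq.mp h2), Bool.eq_false_iff.2 (mt Nat.beq_eq.mp this)]

theorem ok_of {p : A12} {n : ℕ} (hn : n < 12) : ∀ {A : List (A12 × A12)}, (∀ ab ∈ A, p * ab.1 = ab.2 * p) →
    ok (cp A) n (enc (fn p.1) n) (fn p.1 n) = true
  | [], _ => rfl
  | ab :: A, hA => by
    show Bool.rec false (ok (cp A) _ _ _) (ok1 (cod ab.1.1) (cod ab.2.1) _ _ _) = true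
    rw [ok1_of (hA _ List.mem_cons_self) hn]
    exact ok_of hn fun _ h => hA _ (List.mem_cons_of_mem _ h)

theorem go_sound {A : List (A12 × A12)} {p : A12} (hA : ∀ ab ∈ A, p * ab.1 = ab.2 * p) :
    ∀ (k n : ℕ) (R C : List ℕ), n + k = 12 → (∀ i, n ≤ i → i < 12 → fn p.1 i ∈ R) →
      go (cp A) k n (enc (fn p.1) n) R C = true → ∃ d ∈ C, ∀ i, n ≤ i → i < 12 → ap d i = fn p.1 i
  | 0, n, R, C, hn, _, h => by
    cases C with
    | nil => exact absurd h Bool.false_ne_true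
    | cons d C => exact ⟨d, List.mem_cons_self, fun i h1 h2 => by omega⟩
  | k + 1, n, R, C, hn, hR, h => by
    have hn' : n < 12 := by omega
    have h1 : Bool.rec true (go (cp A) k (n + 1) (enc (fn p.1) (n + 1)) (ers (fn p.1 n) R) (flt n (fn p.1 n) C))
      (ok (cp A) n (enc (fn p.1) n) (fn p.1 n)) = true := of_all' h _ (hR n le_rfl hn')
    rw [ok_of hn' hA] at h1
    obtain ⟨d, hd, hd'⟩ := go_sound hA k (n + 1) _ _ (by omega) (fun i hi hi' =>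
      mem_ers (fun e => by have := fn_inj _ hi' hn' e; omega) (hR i (by omega) hi')) h1
    refine ⟨d, (mem_flt hd).1, fun i hi hi' => ?_⟩
    rcases hi.eq_or_lt with rfl | hi
    · exact (mem_flt hd).2
    · exact hd' i hi hi'

/-- all codes in `L` belong to elements with the property `Q` -/
def Ok (L : List ℕ) (Q : A12 → Prop) : Prop := ∀ d ∈ L, ∃ q : A12, Q q ∧ d = cod q.1

def pr (L M : List ℕ) : List ℕ := M.flatMap fun b => L.map fun a => rmul a b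
def tab {α : Type} (f : α → A12) (l : List α) : List ℕ := l.map fun i => cod (f i).1
def pws (a : A12) (n : ℕ) : List ℕ := tab (fun i : ℕ => a ^ i) (List.range n)

theorem Ok.pr {L M : List ℕ} {Q Q' : A12 → Prop} (h : Ok L Q) (h' : Ok M Q') :
    Ok (pr L M) fun q => ∃ a b, Q a ∧ Q' b ∧ q = a * b := by
  intro d hd
  obtain ⟨b, hb, hd⟩ := List.mem_flatMap.1 hd
  obtain ⟨a, ha, rfl⟩ := List.mem_map.1 hd
  obtain ⟨a, ha0, rfl⟩ := h a ha
  obtain ⟨b, hb0, rfl⟩ := h' b hb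
  exact ⟨a * b, ⟨a, b, ha0, hb0, rfl⟩, (cod_mul _ _).symm⟩

theorem ok_tab {α : Type} (f : α → A12) (l : List α) : Ok (tab f l) fun q => ∃ i ∈ l, q = f i := by
  intro d hd
  obtain ⟨i, hi, rfl⟩ := List.mem_map.1 hd
  exact ⟨_, ⟨i, hi, rfl⟩, rfl⟩

theorem ok_pws (a : A12) (n : ℕ) : Ok (pws a n) fun q => ∃ i : Fin n, q = a ^ i.1 := by
  intro d hd
  obtain ⟨q, ⟨i, hi, rfl⟩, rfl⟩ := ok_tab _ _ d hd
  exact ⟨_, ⟨⟨i, List.mem_range.1 hi⟩, rfl⟩, rfl⟩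

/-- every permutation satisfying the relations `A` is in `L` or in `L (x y)` -/
noncomputable def chk (A : List (A12 × A12)) (L : List ℕ) (x y : Fin 12) : Bool :=
  go (cp A) 12 0 0 (List.range 12) (L ++ L.map fun d => rmul d (cod (swap x y)))

theorem srch {A : List (A12 × A12)} {L : List ℕ} {Q : A12 → Prop} {x y : Fin 12} (h : chk A L x y = true)
    (hL : Ok L Q) (p : A12) (hA : ∀ ab ∈ A, p * ab.1 = ab.2 * p) (hxy : x ≠ y := by decide) : Q p := by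
  obtain ⟨d, hd, hd'⟩ := go_sound hA 12 0 _ _ (Nat.zero_add _) (fun i _ _ => List.mem_range.2 (fn_lt _ _)) h
  rcases List.mem_append.1 hd with hd | hd
  · obtain ⟨q, hq, rfl⟩ := hL d hd
    rwa [← Subtype.ext (eq_of_ap fun i hi => hd' i (Nat.zero_le _) hi)]
  · obtain ⟨d, hd0, rfl⟩ := List.mem_map.1 hd
    obtain ⟨q, hq, rfl⟩ := hL d hd0
    rw [← cod_mul] at hd'
    have := congrArg Perm.sign (eq_of_ap fun i hi => hd' i (Nat.zero_le _) hi)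
    rw [map_mul, Perm.sign_swap hxy, Perm.mem_alternatingGroup.1 q.2, Perm.mem_alternatingGroup.1 p.2] at this
    exact absurd this (by decide)

def LN : List ℕ := tab P.ν (List.range 32)

theorem ok_LN : Ok LN fun q => ∃ a : Fin 32, q = P.ν a := by
  intro d hd
  obtain ⟨q, ⟨i, hi, rfl⟩, rfl⟩ := ok_tab _ _ d hd
  exact ⟨_, ⟨⟨i, List.mem_range.1 hi⟩, rfl⟩, rfl⟩

theorem k_cd : chk [(P.e1, P.e1), (P.e2, P.e2), (P.t, P.t), (P.i, P.i)] (tab id [1, P.σ, P.σ * P.r, P.r]) 0 1 = true := by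
  decide +kernel

theorem k_cyt : chk [(P.y, P.y), (P.t, P.t)] (pr (pr (pr LN (pws P.y 3)) (pws P.y' 3)) (pws P.w 2)) 0 1 = true := by
  decide +kernel

theorem k_cut : chk [(P.r, P.r), (P.s, P.s), (P.t, P.t)]
    (pr (pr (pr (pr LN (pws P.r 2)) (pws P.s 2)) (pws P.y' 3)) (pws P.w 2)) 0 1 = true := by
  decide +kernel

theorem k_cv : chk [(P.t, P.t), (P.f1, P.f1), (P.f2, P.f2)]
    (pr (pr (pr (tab P.vv (List.finRange 8)) (pws P.r 2)) (pws P.s 2)) (pws P.y 3)) 9 10 = true := by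
  decide +kernel

theorem k_ce : chk [(P.u1, P.u1), (P.u2, P.u2), (P.y, P.y)]
    (pr (pr (pr (pr (pws P.u1 2) (pws P.u2 2)) (pws P.e0 3)) (pws P.y 3)) (pws P.t 2)) 0 1 = true := by
  decide +kernel

theorem k_ct : chk [(P.t, P.t)] (pr (pr (pr (pr (pr (pr LN (pws P.r 2)) (pws P.s 2)) (pws P.y 3)) (pws P.y' 3))
    (pws P.w 2)) (pws P.σ 2)) 0 1 = true := by
  decide +kernel

/-! ### The group `S₅` -/

def em5 : Fin 5 ≃ {x : Fin 12 // x.1 < 2 ∨ (5 < x.1 ∧ x.1 < 9)} where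
  toFun j := ⟨if j.1 < 2 then ⟨j.1, by omega⟩ else ⟨j.1 + 4, by omega⟩, by split_ifs <;> simp <;> omega⟩
  invFun x := Fin.ofNat 5 (if x.1.1 < 2 then x.1.1 else x.1.1 - 4)
  left_inv := by decide
  right_inv := by decide

def sg (b : Perm (Fin 5)) : Perm (Fin 12) := if Perm.sign b = 1 then 1 else swap 3 4

theorem sg_mul (a b : Perm (Fin 5)) : sg (a * b) = sg a * sg b := by
  rcases Int.units_eq_one_or (Perm.sign a) with h | h <;> rcases Int.units_eq_one_or (Perm.sign b) with h' | h' <;>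
    simp [sg, h, h']

theorem sg_comm (a b : Perm (Fin 5)) : Commute (b.extendDomain em5) (sg a) := by
  refine Perm.Disjoint.commute fun x => ?_
  by_cases h : x.1 < 2 ∨ (5 < x.1 ∧ x.1 < 9)
  · right
    unfold sg
    split_ifs
    · rfl
    · revert x; decide
  · exact Or.inl (Perm.extendDomain_apply_not_subtype _ _ h)

def φ : Perm (Fin 5) →* A12 := MonoidHom.mk' (fun b => ⟨b.extendDomain em5 * sg b, by
  rcases Int.units_eq_one_or (Perm.sign b) with h | h <;> simp [sg, h]⟩) fun a b => Subtype.ext (by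
    show _ = a.extendDomain em5 * sg a * (b.extendDomain em5 * sg b)
    rw [(sg_comm a b).symm.mul_mul_mul_comm, Perm.extendDomain_mul, ← sg_mul])

def L5' : List ℕ := pr (pr (tab φ (permsOfList (List.finRange 5))) (pws P.e1 3)) (pr (pws P.r 2) (pws P.s 2))

theorem k_s5 : chk [(P.r, P.r), (P.s, P.s), (P.e1, P.e1)] L5' 0 1 = true := by decide +kernel
theorem k_s5' : chk [(P.r, P.r), (P.s, P.s), (P.e1, P.e1⁻¹)] L5' 0 1 = true := by decide +kernel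

theorem φ_rs : ∀ b, φ b * P.r = P.r * φ b ∧ φ b * P.s = P.s * φ b := by decide +kernel
theorem φ_e1 : ∀ b, (Perm.sign b = 1 → φ b * P.e1 * (φ b)⁻¹ = P.e1) ∧
    (Perm.sign b = -1 → φ b * P.e1 * (φ b)⁻¹ = P.e1⁻¹) := by decide +kernel
theorem φ_fix : ∀ b, (∀ x ∈ [0, 1, 6, 7, 8], (φ b).1 x = x) → b = 1 := by decide +kernel
theorem φ_e2 : φ (cy3 2 3 4) = P.e2 := by decide +kernel

theorem s5_inj (b : Perm (Fin 5)) (c d e : ℕ) (h : φ b = P.r ^ c * P.s ^ d * P.e1 ^ e) : b = 1 := by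
  refine φ_fix b fun x hx => ?_
  have h3 : ∀ x ∈ ([0, 1, 6, 7, 8] : List (Fin 12)), P.r.1 x = x ∧ P.s.1 x = x ∧ P.e1.1 x = x := by decide +kernel
  have : φ b ∈ MulAction.stabilizer A12 x := by
    rw [h]
    exact mul_mem (mul_mem (pow_mem (h3 x hx).1 _) (pow_mem (h3 x hx).2.1 _)) (pow_mem (h3 x hx).2.2 _)
  exact this

theorem s5_all (p : A12) (hr : p * P.r = P.r * p) (hs : p * P.s = P.s * p)
    (h : p * P.e1 * p⁻¹ = P.e1 ∨ p * P.e1 * p⁻¹ = P.e1⁻¹) :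
    ∃ (b : Perm (Fin 5)) (c d e : ℕ), p = φ b * P.e1 ^ e * (P.r ^ c * P.s ^ d) := by
  have hL := ((ok_tab φ (permsOfList (List.finRange 5))).pr (ok_pws P.e1 3)).pr ((ok_pws P.r 2).pr (ok_pws P.s 2))
  rw [mul_inv_eq_iff_eq_mul, mul_inv_eq_iff_eq_mul] at h
  obtain ⟨_, _, ⟨_, _, ⟨b, -, rfl⟩, ⟨e, rfl⟩, rfl⟩, ⟨_, _, ⟨c, rfl⟩, ⟨d, rfl⟩, rfl⟩, h⟩ :=
    h.elim (fun h => srch k_s5 hL p (by simp [hr, hs, h])) fun h => srch k_s5' hL p (by simp [hr, hs, h])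
  exact ⟨b, c, d, e, h⟩

/-! ### The centralizer of the four group -/

def em8 : Fin 8 ≃ {x : Fin 12 // x.1 < 2 ∨ (2 < x.1 ∧ x.1 < 9)} where
  toFun j := ⟨if j.1 < 2 then ⟨j.1, by omega⟩ else ⟨j.1 + 1, by omega⟩, by split_ifs <;> simp <;> omega⟩
  invFun x := Fin.ofNat 8 (if x.1.1 < 2 then x.1.1 else x.1.1 - 1)
  left_inv := by decide
  right_inv := by decide

theorem cu : 80640 ≤ Nat.card (centralizer ({P.r, P.s} : Set A12)) := by
  let ψ : alternatingGroup (Fin 8) → A12 := fun b => ⟨b.1.extendDomain em8, by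
    rw [Perm.mem_alternatingGroup, Perm.sign_extendDomain]; exact b.2⟩
  have hfix : ∀ b (x : Fin 12), ¬ (x.1 < 2 ∨ (2 < x.1 ∧ x.1 < 9)) → (ψ b).1 x = x := fun b x h =>
    Perm.extendDomain_apply_not_subtype _ _ h
  have h1 : ∀ x : Fin 12, x.1 < 2 ∨ (2 < x.1 ∧ x.1 < 9) → P.r.1 x = x ∧ P.s.1 x = x := by decide +kernel
  have h2 : ∀ c d : Fin 2, P.r * (P.r ^ c.1 * P.s ^ d.1) = P.r ^ c.1 * P.s ^ d.1 * P.r ∧
      P.s * (P.r ^ c.1 * P.s ^ d.1) = P.r ^ c.1 * P.s ^ d.1 * P.s ∧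
      ¬ (((P.r ^ c.1 * P.s ^ d.1).1 2).1 < 2 ∨ (2 < ((P.r ^ c.1 * P.s ^ d.1).1 2).1 ∧
        ((P.r ^ c.1 * P.s ^ d.1).1 2).1 < 9)) := by decide +kernel
  have h3 : ∀ c d c' d' : Fin 2, (P.r ^ c.1 * P.s ^ d.1).1 2 = (P.r ^ c'.1 * P.s ^ d'.1).1 2 → c = c' ∧ d = d' := by
    decide +kernel
  have hc : ∀ b (q : A12), (∀ x : Fin 12, x.1 < 2 ∨ (2 < x.1 ∧ x.1 < 9) → q.1 x = x) → q * ψ b = ψ b * q :=
    fun b q hq => Subtype.ext (Perm.Disjoint.commute fun x => (em _).imp (hq x) (hfix b x)).eq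
  let F : alternatingGroup (Fin 8) × Fin 2 × Fin 2 → centralizer ({P.r, P.s} : Set A12) := fun x =>
    ⟨ψ x.1 * (P.r ^ x.2.1.1 * P.s ^ x.2.2.1), mul_mem (fun q hq => by
      rcases hq with rfl | rfl
      · exact hc _ _ fun x hx => (h1 x hx).1
      · exact hc _ _ fun x hx => (h1 x hx).2) fun q hq => by
      rcases hq with rfl | rfl
      · exact (h2 _ _).1
      · exact (h2 _ _).2.1⟩
  have hF : Function.Injective F := by
    rintro ⟨b, c, d⟩ ⟨b', c', d'⟩ h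
    have h : ψ b * (P.r ^ c.1 * P.s ^ d.1) = ψ b' * (P.r ^ c'.1 * P.s ^ d'.1) := congrArg Subtype.val h
    have h4 : (ψ b).1 ((P.r ^ c.1 * P.s ^ d.1).1 2) = (ψ b').1 ((P.r ^ c'.1 * P.s ^ d'.1).1 2) :=
      congrArg (fun q : A12 => q.1 2) h
    rw [hfix _ _ (h2 _ _).2.2, hfix _ _ (h2 _ _).2.2] at h4
    obtain ⟨rfl, rfl⟩ := h3 _ _ _ _ h4
    have h5 : b.1.extendDomain em8 = b'.1.extendDomain em8 := congrArg Subtype.val (mul_right_cancel h)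
    rw [Subtype.ext (Perm.extendDomainHom_injective em8 h5)]
  have h6 := Nat.card_le_card_of_injective F hF
  have h7 := two_mul_nat_card_alternatingGroup (α := Fin 8)
  rw [Nat.card_perm, Nat.card_fin] at h7
  rw [Nat.card_prod, Nat.card_prod, Nat.card_fin] at h6
  have : Nat.factorial 8 = 40320 := by decide
  omega

/-! ### The group `L₃(2)` -/

def c7 : A12 := P.g * P.g * P.y' * P.g * P.y' * P.y'
def a4 : A12 := P.y' * P.y' * P.g * P.y' * P.g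
def a2 : A12 := P.g * P.y' * P.g * P.y'
def LG : List ℕ := pr (pr (pr (pws c7 7) (pws P.y' 3)) (pws a4 4)) (pws a2 2)

theorem k_gl : ∀ a b c : Fin 8, a ≠ 0 → b ≠ 0 → b ≠ a → c ≠ 0 → c ≠ a → c ≠ b → c.1 ≠ a.1 ^^^ b.1 →
    (LG.any fun d => Nat.beq (rmul d (cod P.t.1)) (rmul (cod (P.vv a).1) d) &&
      Nat.beq (rmul d (cod P.f1.1)) (rmul (cod (P.vv b).1) d) &&
      Nat.beq (rmul d (cod P.f2.1)) (rmul (cod (P.vv c).1) d)) = true := by decide +kernel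

theorem vv_mul : P.vv 0 = 1 ∧ ∀ a b c : Fin 8, c.1 = a.1 ^^^ b.1 → P.vv c = P.vv a * P.vv b := by decide +kernel

theorem gl (a b c : Fin 8) (ha : a ≠ 0) (h1 : P.vv b ≠ 1) (h2 : P.vv b ≠ P.vv a) (h3 : P.vv c ≠ 1)
    (h4 : P.vv c ≠ P.vv a) (h5 : P.vv c ≠ P.vv b) (h6 : P.vv c ≠ P.vv a * P.vv b) :
    ∃ p ∈ closure {P.g, P.y'}, p * P.t * p⁻¹ = P.vv a ∧ p * P.f1 * p⁻¹ = P.vv b ∧ p * P.f2 * p⁻¹ = P.vv c := by
  obtain ⟨d, hd, h⟩ := List.any_eq_true.1 (k_gl a b c ha (fun e => h1 (e ▸ vv_mul.1)) (fun e => h2 (by rw [e]))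
    (fun e => h3 (e ▸ vv_mul.1)) (fun e => h4 (by rw [e])) (fun e => h5 (by rw [e])) fun e => h6 (vv_mul.2 _ _ _ e))
  obtain ⟨p, hp, rfl⟩ := (((ok_pws c7 7).pr (ok_pws P.y' 3)).pr (ok_pws a4 4)).pr (ok_pws a2 2) d hd
  have hg : P.g ∈ closure {P.g, P.y'} := subset_closure (Set.mem_insert _ _)
  have hy : P.y' ∈ closure {P.g, P.y'} := subset_closure (Set.mem_insert_of_mem _ rfl)
  simp only [Bool.and_eq_true, Nat.beq_eq, ← cod_mul] at h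
  refine ⟨p, ?_, mul_inv_eq_iff_eq_mul.2 (Subtype.ext (cod_inj h.1.1)),
    mul_inv_eq_iff_eq_mul.2 (Subtype.ext (cod_inj h.1.2)), mul_inv_eq_iff_eq_mul.2 (Subtype.ext (cod_inj h.2))⟩
  obtain ⟨_, _, ⟨_, _, ⟨_, _, ⟨i, rfl⟩, ⟨j, rfl⟩, rfl⟩, ⟨k, rfl⟩, rfl⟩, ⟨l, rfl⟩, rfl⟩ := hp
  exact mul_mem (mul_mem (mul_mem (pow_mem (mul_mem (mul_mem (mul_mem (mul_mem (mul_mem hg hg) hy) hg) hy) hy) _)
    (pow_mem hy _)) (pow_mem (mul_mem (mul_mem (mul_mem (mul_mem hy hy) hg) hy) hg) _))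
    (pow_mem (mul_mem (mul_mem (mul_mem hg hy) hg) hy) _)

theorem ce_aux : ∀ (a b : Fin 2) (c d : Fin 3) (e : Fin 2) (p : A12),
    p = P.u1 ^ a.1 * P.u2 ^ b.1 * P.e0 ^ c.1 * P.y ^ d.1 * P.t ^ e.1 →
    (p * P.e0 * p⁻¹ = P.e0 ∨ p * P.e0 * p⁻¹ = P.e0⁻¹) ∧ p ^ 6 = 1 := by
  simp only [forall_eq]
  decide +kernel

theorem t_eq : P.t = P.f1 * P.u1 * P.f1 * P.u1 := by decide +kernel

theorem ct (p : A12) (h : p * P.t = P.t * p) :
    p ∈ closure {P.u1, P.u2, P.f1, P.f2, P.r, P.s, P.y, P.y', P.w, P.σ} := by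
  obtain ⟨_, _, ⟨_, _, ⟨_, _, ⟨_, _, ⟨_, _, ⟨_, _, ⟨a, rfl⟩, ⟨b, rfl⟩, rfl⟩, ⟨c, rfl⟩, rfl⟩, ⟨d, rfl⟩, rfl⟩, ⟨e, rfl⟩,
    rfl⟩, ⟨f, rfl⟩, rfl⟩, ⟨g, rfl⟩, rfl⟩ := srch k_ct ((((((ok_LN.pr (ok_pws P.r 2)).pr (ok_pws P.s 2)).pr
      (ok_pws P.y 3)).pr (ok_pws P.y' 3)).pr (ok_pws P.w 2)).pr (ok_pws P.σ 2)) p (by simp [h])
  have hm : ∀ x ∈ [P.u1, P.u2, P.f1, P.f2, P.r, P.s, P.y, P.y', P.w, P.σ],
      x ∈ closure {P.u1, P.u2, P.f1, P.f2, P.r, P.s, P.y, P.y', P.w, P.σ} := fun x hx => subset_closure (by simpa using hx)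
  simp only [List.forall_mem_cons] at hm
  obtain ⟨h1, h2, h3, h4, h5, h6, h7, h8, h9, h10, -⟩ := hm
  have ht : P.t ∈ closure {P.u1, P.u2, P.f1, P.f2, P.r, P.s, P.y, P.y', P.w, P.σ} := by
    rw [t_eq]; exact mul_mem (mul_mem (mul_mem h3 h1) h3) h1
  exact mul_mem (mul_mem (mul_mem (mul_mem (mul_mem (mul_mem (mul_mem (mul_mem (mul_mem (mul_mem (pow_mem ht _)
    (pow_mem h1 _)) (pow_mem h2 _)) (pow_mem h3 _)) (pow_mem h4 _)) (pow_mem h5 _)) (pow_mem h6 _)) (pow_mem h7 _))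
    (pow_mem h8 _)) (pow_mem h9 _)) (pow_mem h10 _)

end YFx

open YFx in
theorem yf : YF where
  ct := ct
  cyt p h1 h2 := by
    obtain ⟨_, _, ⟨_, _, ⟨_, _, ⟨a, rfl⟩, ⟨b, rfl⟩, rfl⟩, ⟨c, rfl⟩, rfl⟩, ⟨d, rfl⟩, h⟩ := srch k_cyt
      (((ok_LN.pr (ok_pws P.y 3)).pr (ok_pws P.y' 3)).pr (ok_pws P.w 2)) p (by simp [h1, h2])
    exact ⟨a, b, c, d, h⟩
  cut p h1 h2 h3 := by
    obtain ⟨_, _, ⟨_, _, ⟨_, _, ⟨_, _, ⟨a, rfl⟩, ⟨b, rfl⟩, rfl⟩, ⟨c, rfl⟩, rfl⟩, ⟨d, rfl⟩, rfl⟩, ⟨e, rfl⟩, h⟩ :=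
      srch k_cut ((((ok_LN.pr (ok_pws P.r 2)).pr (ok_pws P.s 2)).pr (ok_pws P.y' 3)).pr (ok_pws P.w 2)) p
        (by simp [h1, h2, h3])
    exact ⟨a, b, c, d, e, h⟩
  cv p h1 h2 h3 := by
    obtain ⟨_, _, ⟨_, _, ⟨_, _, ⟨a, -, rfl⟩, ⟨b, rfl⟩, rfl⟩, ⟨c, rfl⟩, rfl⟩, ⟨d, rfl⟩, h⟩ := srch k_cv
      ((((ok_tab P.vv (List.finRange 8)).pr (ok_pws P.r 2)).pr (ok_pws P.s 2)).pr (ok_pws P.y 3)) p
        (by simp [h1, h2, h3])
    exact ⟨a, b, c, d, h⟩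
  cd p h1 h2 h3 h4 := by
    obtain ⟨q, hq, rfl⟩ := srch k_cd (ok_tab _ _) p (by simp [h1, h2, h3, h4])
    simpa using hq
  ce p h1 h2 h3 := by
    obtain ⟨_, _, ⟨_, _, ⟨_, _, ⟨_, _, ⟨a, rfl⟩, ⟨b, rfl⟩, rfl⟩, ⟨c, rfl⟩, rfl⟩, ⟨d, rfl⟩, rfl⟩, ⟨e, rfl⟩, h⟩ :=
      srch k_ce (((((ok_pws P.u1 2).pr (ok_pws P.u2 2)).pr (ok_pws P.e0 3)).pr (ok_pws P.y 3)).pr (ok_pws P.t 2)) p
        (by simp [h1, h2, h3])
    exact ce_aux a b c d e p h
  s5 := ⟨φ, φ_rs, fun b => (φ_e1 b).1, fun b => (φ_e1 b).2, s5_inj, φ_e2, s5_all⟩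
  cu := cu
  gl := gl

end CL.HN3
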