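/-
The 3-local characterisation of the Harada–Norton group: general consequences of the structure of `N(⟨e0⟩)`.
-/
import Cfsg.Agent.Hn3.Defs2
import Cfsg.Agent.Hn3.YF
import Cfsg.Agent.Grp.Coprime2
import Cfsg.Agent.Rec.Gen2

set_option autoImplicit false
set_option synthInstance.maxSize 4096

namespace CL.HN3

open Subgroup Cfsg CL.Grp CL.McL3 CL.McL3.C27 CL.S9R CL.Ast Equiv

universe u

namespace C0x

open YFx

def el (a : Fin 32) (b c : Fin 3) (d : Fin 2) : A12 := P.ν a * P.y ^ b.1 * P.y' ^ c.1 * P.w ^ d.1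

theorem d1 : ∀ a b c d, el a b c d * P.y' = P.y' * el a b c d →
    ∃ (i j : Fin 3) (l : Fin 2), el a b c d = P.y ^ i.1 * P.y' ^ j.1 * P.t ^ l.1 := by decide +kernel

def one : ℕ := 0xba9876543210
def t3 (c : ℕ) : Bool := !Nat.beq c one && Nat.beq (rmul c (rmul c c)) one
def sq (c : ℕ) : ℕ := rmul c c
def chk (c y y' : ℕ) : Bool := t3 (sq (sq c)) || t3 (sq (sq (rmul c (rmul y (rmul c y')))))

theorem d2 : ∀ a b c d, (b = 0 ∧ c = 0 ∧ d = 0) ∨ chk (cod (el a b c d)) (cod P.y') (cod P.y'⁻¹) := by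
  decide +kernel

theorem cod_one : cod 1 = one := by decide +kernel

attribute [local irreducible] cod rmul

theorem t3_spec {p : A12} (h : t3 (sq (sq (cod p))) = true) : p ^ 4 ≠ 1 ∧ p ^ (4 * 3) = 1 := by
  have e : sq (sq (cod p)) = cod (p ^ 4 : A12) := by
    rw [sq, sq, ← cod_mul, ← cod_mul]; congr 1
  rw [e, t3, ← cod_mul, ← cod_mul, ← cod_one, Bool.and_eq_true, Bool.not_eq_true', Nat.beq_eq] at h
  refine ⟨fun k => ?_, Subtype.ext ?_⟩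
  · rw [k] at h
    exact absurd h.1 (by simp)
  · rw [pow_mul, pow_three]
    exact cod_inj h.2

theorem d3 (a : Fin 32) (b c : Fin 3) (d : Fin 2) : el a b c d = P.ν a ∨ ∃ q : A12,
    (q = el a b c d ∨ q = el a b c d * (P.y' * el a b c d * P.y'⁻¹)) ∧ q ^ 4 ≠ 1 ∧ q ^ (4 * 3) = 1 := by
  rcases d2 a b c d with ⟨rfl, rfl, rfl⟩ | h
  · left; simp [el]
  · rw [chk, Bool.or_eq_true, ← cod_mul, ← cod_mul, ← cod_mul] at h
    rcases h with h | h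
    · exact .inr ⟨_, .inl rfl, t3_spec h⟩
    · exact .inr ⟨_, .inr rfl, t3_spec (by rw [mul_assoc P.y']; exact h)⟩

theorem d4 : ∀ i j : Fin 3, P.y ^ i.1 * P.y' ^ j.1 = 1 ∨
    ∃ u ∈ [P.y, P.y', P.z, P.z'], P.y ^ i.1 * P.y' ^ j.1 = u ∨ P.y ^ i.1 * P.y' ^ j.1 = u⁻¹ := by decide +kernel

theorem d5 : ∀ i j a b : Fin 3, ¬ (P.y = (P.y ^ i.1 * P.y' ^ j.1) ^ a.1 ∧ P.y' = (P.y ^ i.1 * P.y' ^ j.1) ^ b.1) := by
  decide +kernel

def T : List A12 := [P.y, P.y⁻¹, P.y', P.y'⁻¹]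

attribute [local instance 10000] List.decidableBAll List.decidableBEx in
theorem d6 : ∀ p ∈ T, ∀ q ∈ T, ¬ ((∃ r ∈ T, p * q = r) ∧ ∃ r ∈ T, p * q⁻¹ = r) := by decide +kernel

theorem d7 : P.y ^ 3 = 1 ∧ P.y' ^ 3 = 1 ∧ P.y * P.y' = P.y' * P.y ∧ P.y * P.t = P.t * P.y ∧ P.y' * P.t = P.t * P.y' ∧
    P.t ^ 2 = 1 ∧ P.e0 ≠ 1 ∧ P.y ≠ P.y' ∧ P.y ≠ P.y'⁻¹ ∧ P.z ^ 3 = 1 ∧ P.e1 ^ 3 = 1 ∧ P.e2 ^ 3 = 1 ∧
    P.e1 * P.e2 = P.e2 * P.e1 ∧ P.e1 * P.r = P.r * P.e1 ∧ P.e2 * P.r = P.r * P.e2 ∧ P.w * P.t * P.w⁻¹ = P.t ∧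
    P.w * P.z * P.w⁻¹ = P.z'⁻¹ ∧ P.w * P.z' * P.w⁻¹ = P.z⁻¹ := by decide +kernel

variable {G : Type*} [Group G]

theorem zp3 [Finite G] {a u : G} (h : a ^ 3 = 1) (hu : u ∈ zpowers a) : ∃ i : Fin 3, u = a ^ i.1 := by
  obtain ⟨n, rfl⟩ := mem_powers_iff_mem_zpowers.2 hu
  exact ⟨⟨n % 3, Nat.mod_lt _ (by norm_num)⟩, pow_eq_pow_mod n h⟩

theorem mem_two [Finite G] {a b x : G} (c : a * b = b * a) (ha : a ^ 3 = 1) (hb : b ^ 3 = 1)
    (hx : x ∈ zpowers a ⊔ zpowers b) : ∃ i j : Fin 3, x = a ^ i.1 * b ^ j.1 := by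
  obtain ⟨u, hu, v, hv, rfl⟩ := (CL.Odd.mem_sup_norm (zpowers_le.2 (centralizer_le_normalizer _ fun h hh => by
    obtain ⟨n, rfl⟩ := hh; exact ((show Commute a b from c).zpow_left n).eq))).1 hx
  obtain ⟨i, rfl⟩ := zp3 ha hu
  obtain ⟨j, rfl⟩ := zp3 hb hv
  exact ⟨i, j, rfl⟩

theorem cube_two [Finite G] {a b x : G} (c : a * b = b * a) (ha : a ^ 3 = 1) (hb : b ^ 3 = 1)
    (hx : x ∈ zpowers a ⊔ zpowers b) : x ^ 3 = 1 := by
  obtain ⟨i, j, rfl⟩ := mem_two c ha hb hx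
  rw [((show Commute a b from c).pow_pow _ _).mul_pow, pow_right_comm, ha, pow_right_comm, hb]
  simp

theorem pg_two [Finite G] {a b : G} (c : a * b = b * a) (ha : a ^ 3 = 1) (hb : b ^ 3 = 1) :
    IsPGroup 3 ↥(zpowers a ⊔ zpowers b) := fun x => ⟨1, Subtype.ext (cube_two c ha hb x.2)⟩

theorem four (c : G ≃* G) {a b : G} (n1 : a ≠ b) (n2 : a ≠ b⁻¹) (ha : c a = a ∨ c a = a⁻¹ ∨ c a = b ∨ c a = b⁻¹)
    (hb : c b = a ∨ c b = a⁻¹ ∨ c b = b ∨ c b = b⁻¹) : c (c (c (c a))) = a := by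
  rcases ha with ha | ha | ha | ha <;> rcases hb with hb | hb | hb | hb <;>
    first
    | (simp only [ha, hb, map_inv, inv_inv]; done)
    | exact absurd (c.injective (ha.trans hb.symm)) n1
    | exact absurd (c.injective (by simp only [ha, hb, map_inv, inv_inv])) n2

theorem comm_conj {k x a b : G} (e : k * a * k⁻¹ = b) (h : x * b = b * x) : k⁻¹ * x * k * a = a * (k⁻¹ * x * k) := by
  subst e
  calc _ = k⁻¹ * (x * (k * a * k⁻¹)) * k := by group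
    _ = _ := by rw [h]; group

theorem transfer (B : Subgroup G) (k : G) : ∃ B' : Subgroup G, Nat.card B' = Nat.card B ∧
    (∀ x, x ∈ B' ↔ k * x * k⁻¹ ∈ B) ∧ ∀ h, k * h * k⁻¹ ∈ normalizer (B : Set G) → h ∈ normalizer (B' : Set G) := by
  have m : ∀ x, x ∈ B.map (MulAut.conj k⁻¹).toMonoidHom ↔ k * x * k⁻¹ ∈ B := fun x => by
    rw [mem_map_equiv]; simp
  refine ⟨_, card_map_of_injective (MulAut.conj k⁻¹).injective, m, fun h hh => mem_normalizer_iff.2 fun x => ?_⟩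
  rw [m, m, mem_normalizer_iff.1 hh, show k * h * k⁻¹ * (k * x * k⁻¹) * (k * h * k⁻¹)⁻¹ = k * (h * x * h⁻¹) * k⁻¹ by group]

variable [Finite G] {ψ : A12 →* G} {θ : L5 →* G} {k : G}

omit [Finite G] in
theorem cmm (ψ : A12 →* G) {a b : A12} (h : a * b = b * a) : ψ a * ψ b = ψ b * ψ a := by
  rw [← map_mul, ← map_mul, h]

omit [Finite G] in
theorem pw (ψ : A12 →* G) {a : A12} {n : ℕ} (h : a ^ n = 1) : ψ a ^ n = 1 := by rw [← map_pow, h, map_one]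

omit [Finite G] in
theorem cjm (ψ : A12 →* G) {a b c : A12} (h : a * b * a⁻¹ = c) : ψ a * ψ b * (ψ a)⁻¹ = ψ c := by
  rw [← h, map_mul, map_mul, map_inv]

theorem memX (ψ : A12 →* G) {x : G} (hx : x ∈ zpowers (ψ P.y) ⊔ zpowers (ψ P.y')) :
    ∃ i j : Fin 3, x = ψ (P.y ^ i.1 * P.y' ^ j.1) := by
  simpa only [map_mul, map_pow] using mem_two (cmm ψ d7.2.2.1) (pw ψ d7.1) (pw ψ d7.2.1) hx

variable (F : GY ψ θ k)
include F

omit [Finite G] in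
theorem nrm {u : A12} (h : IsConj P.e0 u) (g : G) (hg : g * ψ u * g⁻¹ ∈ zpowers (ψ u)) : g ∈ ψ.range := by
  obtain ⟨c, rfl⟩ := isConj_iff.1 h
  obtain ⟨n, hn⟩ := hg
  have := F.nY ((ψ c)⁻¹ * g * ψ c) ⟨n, by
    simp only [map_mul, map_inv, conj_zpow] at hn
    calc _ = (ψ c)⁻¹ * (ψ c * ψ P.e0 ^ n * (ψ c)⁻¹) * ψ c := by group
      _ = _ := by rw [hn]; group⟩
  have m : ψ c ∈ ψ.range := ⟨c, rfl⟩
  rwa [mul_mem_cancel_right m, mul_mem_cancel_left (inv_mem m)] at this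

omit [Finite G] in
theorem cyt (Y : YF) {g : G} (h1 : g * ψ P.t = ψ P.t * g) (h2 : g * ψ P.y = ψ P.y * g) :
    ∃ a b c d, g = ψ (el a b c d) := by
  obtain ⟨p, rfl⟩ := nrm F cj_e0_y g (by rw [h2, mul_inv_cancel_right]; exact mem_zpowers _)
  obtain ⟨a, b, c, d, e⟩ := Y.cyt p (F.inj (by rw [map_mul, map_mul, h2])) (F.inj (by rw [map_mul, map_mul, h1]))
  exact ⟨a, b, c, d, congrArg ψ e⟩

omit [Finite G] in
theorem cX (Y : YF) (g : G) (h1 : g * ψ P.t = ψ P.t * g) (h2 : g * ψ P.y = ψ P.y * g)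
    (h3 : g * ψ P.y' = ψ P.y' * g) : ∃ a b c : ℕ, g = ψ P.y ^ a * ψ P.y' ^ b * ψ P.t ^ c := by
  obtain ⟨a, b, c, d, rfl⟩ := cyt F Y h1 h2
  obtain ⟨i, j, l, e⟩ := d1 a b c d (F.inj (by rw [map_mul, map_mul, h3]))
  exact ⟨i, j, l, by rw [e]; simp only [map_mul, map_pow]⟩

omit [Finite G] in
theorem cjy : IsConj (ψ P.e0) (ψ P.y) ∧ IsConj (ψ P.e0) (ψ P.y') ∧ IsConj (ψ P.e0) (ψ P.m) :=
  ⟨ψ.map_isConj cj_e0_y, (ψ.map_isConj cj_e0_y).trans (isConj_iff.2 ⟨k, F.ky⟩), isConj_iff.2 ⟨k, F.ke⟩⟩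

theorem cls {x : G} (hx : x ∈ zpowers (ψ P.y) ⊔ zpowers (ψ P.y')) (h : IsConj (ψ P.e0) x) : ∃ p ∈ T, x = ψ p := by
  obtain ⟨i, j, rfl⟩ := memX ψ hx
  have nz : ∀ u, IsConj P.z u → ¬ IsConj (ψ P.e0) (ψ u) := fun u hu k => F.nc ((ψ.map_isConj hu).trans k.symm)
  rcases d4 i j with e | ⟨u, hu, e⟩
  · rw [e, map_one, isConj_one_left, ← map_one ψ] at h
    exact absurd (F.inj h) d7.2.2.2.2.2.2.1
  · simp only [List.mem_cons, List.not_mem_nil, or_false] at hu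
    rcases hu with rfl | rfl | rfl | rfl <;> rcases e with e | e <;> rw [e] at h ⊢
    · exact ⟨_, by simp [T], rfl⟩
    · exact ⟨_, by simp [T], rfl⟩
    · exact ⟨_, by simp [T], rfl⟩
    · exact ⟨_, by simp [T], rfl⟩
    · exact absurd h (nz _ (IsConj.refl _))
    · exact absurd h (nz _ cj_z_inv)
    · exact absurd h (nz _ cj_z_z')
    · exact absurd h (nz _ (isConj_iff.2 ⟨_, d7.2.2.2.2.2.2.2.2.2.2.2.2.2.2.2.2.1⟩))

omit F [Finite G] in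
theorem X_le : zpowers (ψ P.y) ⊔ zpowers (ψ P.y') ≤ centralizer {ψ P.t} :=
  sup_le (zpowers_le.2 (mem_centralizer_singleton_iff.2 (cmm ψ d7.2.2.2.1)))
    (zpowers_le.2 (mem_centralizer_singleton_iff.2 (cmm ψ d7.2.2.2.2.1)))

theorem syl (Y : YF) : IsSylowIn 3 (zpowers (ψ P.y) ⊔ zpowers (ψ P.y')) (centralizer {ψ P.t}) := by
  have pg := pg_two (cmm ψ d7.2.2.1) (pw ψ d7.1) (pw ψ d7.2.1)
  refine CL.Rec.isSylowIn_of_loc X_le pg fun n hn hN l hl => ?_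
  have k1 : ∀ u, u ∈ zpowers (ψ P.y) ⊔ zpowers (ψ P.y') → IsConj (ψ P.e0) u → MulAut.conj n u = ψ P.y ∨
      MulAut.conj n u = (ψ P.y)⁻¹ ∨ MulAut.conj n u = ψ P.y' ∨ MulAut.conj n u = (ψ P.y')⁻¹ := fun u hu h => by
    obtain ⟨p, hp, e⟩ := cls F ((mem_normalizer_iff.1 hN u).1 hu) (h.trans (isConj_iff.2 ⟨n, rfl⟩))
    simp only [T, List.mem_cons, List.not_mem_nil, or_false] at hp
    rw [MulAut.conj_apply, e]
    rcases hp with rfl | rfl | rfl | rfl <;> simp only [map_inv, true_or, or_true]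
  have a1 := k1 _ (mem_sup_left (mem_zpowers _)) (cjy F).1
  have a2 := k1 _ (mem_sup_right (mem_zpowers _)) (cjy F).2.1
  have n1 : ψ P.y ≠ ψ P.y' := fun e => d7.2.2.2.2.2.2.2.1 (F.inj e)
  have n2 : ψ P.y ≠ (ψ P.y')⁻¹ := fun e => d7.2.2.2.2.2.2.2.2.1 (F.inj (by rw [e, map_inv]))
  have k2 : ∀ u, MulAut.conj n (MulAut.conj n (MulAut.conj n (MulAut.conj n u))) = u → n * u = u * n := fun u h => by
    obtain ⟨m, hm⟩ := (mem_zpowers_pow_iff (g := n) (k := 4)).2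
      (Nat.Coprime.coprime_dvd_right (orderOf_dvd_of_pow_eq_one hl) (Nat.Coprime.pow_right _ (by norm_num)))
    have : Commute (n ^ 4) u := by
      simp only [MulAut.conj_apply] at h
      calc _ = n * (n * (n * (n * u * n⁻¹) * n⁻¹) * n⁻¹) * n⁻¹ * n ^ 4 := by
            simp only [pow_succ, pow_zero, one_mul, mul_assoc, inv_mul_cancel_left, inv_mul_cancel, mul_one]
        _ = _ := by rw [h]
    exact hm ▸ (this.zpow_left m).eq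
  obtain ⟨a, b, c, e⟩ := cX F Y n (mem_centralizer_singleton_iff.1 hn) (k2 _ (four _ n1 n2 a1 a2))
    (k2 _ (four _ n1.symm (fun e => n2 (by rw [e, inv_inv])) (by tauto) (by tauto)))
  have hx : ψ P.y ^ a * ψ P.y' ^ b ∈ zpowers (ψ P.y) ⊔ zpowers (ψ P.y') :=
    mul_mem (mem_sup_left (pow_mem (mem_zpowers _) _)) (mem_sup_right (pow_mem (mem_zpowers _) _))
  have t2 : (ψ P.t ^ c) ^ 2 = 1 := by rw [pow_right_comm, pw ψ d7.2.2.2.2.2.1, one_pow]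
  have t3 : n ^ 3 = ψ P.t ^ c := by
    rw [e, ((show Commute _ _ from mem_centralizer_singleton_iff.1 (X_le hx)).pow_right c).mul_pow,
      cube_two (cmm ψ d7.2.2.1) (pw ψ d7.1) (pw ψ d7.2.1) hx, one_mul, pow_succ, t2, one_mul]
  have t1 : ψ P.t ^ c = 1 := orderOf_eq_one_iff.1 (Nat.eq_one_of_dvd_coprimes
    (Nat.Coprime.pow_right l (by norm_num : Nat.Coprime 2 3)) (orderOf_dvd_of_pow_eq_one t2)
    (orderOf_dvd_of_pow_eq_one (by rw [← t3, pow_right_comm, hl, one_pow])))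
  rwa [e, t1, mul_one]

theorem nc2 (Y : YF) : ¬ IsConj (ψ P.t) (ψ P.r) := fun h => by
  obtain ⟨g, hg⟩ := isConj_iff.1 h
  obtain ⟨-, -, -, -, -, -, -, -, -, -, c1, c2, c3, c4, c5, -⟩ := d7
  have p3 : ∀ u : A12, u ^ 3 = 1 → (g⁻¹ * ψ u * g) ^ 3 = 1 := fun u hu => by
    have := conj_pow (i := 3) (a := g⁻¹) (b := ψ u)
    rw [inv_inv] at this
    rw [this, pw ψ hu]; simp
  obtain ⟨h, -, hh⟩ := (syl F Y).exists_conj_le (pg_two (a := g⁻¹ * ψ P.e1 * g) (b := g⁻¹ * ψ P.e2 * g)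
    (by calc _ = g⁻¹ * (ψ P.e1 * ψ P.e2) * g := by group
          _ = _ := by rw [cmm ψ c3]; group) (p3 _ c1) (p3 _ c2))
    (sup_le (zpowers_le.2 (mem_centralizer_singleton_iff.2 (comm_conj hg (cmm ψ c4))))
      (zpowers_le.2 (mem_centralizer_singleton_iff.2 (comm_conj hg (cmm ψ c5)))))
  have k : ∀ u, g⁻¹ * ψ u * g ∈ zpowers (g⁻¹ * ψ P.e1 * g) ⊔ zpowers (g⁻¹ * ψ P.e2 * g) → IsConj (ψ P.e0) (ψ u) →
      ∃ p ∈ T, MulAut.conj (h * g⁻¹) (ψ u) = ψ p := fun u hu c =>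
    cls F (by convert hh (conj_mem_conj_smul h hu) using 1; rw [MulAut.conj_apply]; group)
      (c.trans (isConj_iff.2 ⟨_, rfl⟩))
  have m1 : g⁻¹ * ψ P.e1 * g ∈ zpowers (g⁻¹ * ψ P.e1 * g) ⊔ zpowers (g⁻¹ * ψ P.e2 * g) := mem_sup_left (mem_zpowers _)
  have m2 : g⁻¹ * ψ P.e2 * g ∈ zpowers (g⁻¹ * ψ P.e1 * g) ⊔ zpowers (g⁻¹ * ψ P.e2 * g) := mem_sup_right (mem_zpowers _)
  obtain ⟨p, hp, ep⟩ := k _ m1 (ψ.map_isConj cj_e0_e1)
  obtain ⟨q, hq, eq⟩ := k _ m2 (ψ.map_isConj cj_e0_e2)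
  obtain ⟨p', hp', ep'⟩ := k P.y' (by convert mul_mem m1 m2 using 1; rw [P.y', map_mul]; group) (cjy F).2.1
  obtain ⟨q', hq', eq'⟩ := k P.m (by convert mul_mem m1 (inv_mem m2) using 1; rw [P.m, map_mul, map_inv]; group)
    (cjy F).2.2
  rw [P.y', map_mul ψ, map_mul (MulAut.conj _), ep, eq, ← map_mul] at ep'
  rw [P.m, map_mul ψ, map_inv ψ, map_mul (MulAut.conj _), map_inv (MulAut.conj _), ep, eq, ← map_inv, ← map_mul] at eq'
  exact d6 p hp q hq ⟨⟨_, hp', F.inj ep'⟩, _, hq', F.inj eq'⟩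

theorem lemY (Y : YF) {B : Subgroup G} (hB : (Nat.card B).Coprime 3) (hy : ψ P.y' ∈ normalizer (B : Set G)) {g : G}
    (hg : g ∈ B) (h1 : g * ψ P.t = ψ P.t * g) (h2 : g * ψ P.y = ψ P.y * g) : ∃ a, g = ψ (P.ν a) := by
  obtain ⟨a, b, c, d, rfl⟩ := cyt F Y h1 h2
  rcases d3 a b c d with e | ⟨q, e, q1, q2⟩
  · exact ⟨_, congrArg ψ e⟩
  · refine absurd ?_ (not_mem_cop hB (g := ψ q) (fun k => q1 (F.inj (by rw [map_pow, k, map_one]))) (pw ψ q2))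
    rcases e with rfl | rfl
    · exact hg
    · rw [map_mul, map_mul, map_mul, map_inv]
      exact mul_mem hg ((mem_normalizer_iff.1 hy _).1 hg)

theorem lemZ {B : Subgroup G} (hB : (Nat.card B).Coprime 3) (hz : ψ P.z' ∈ normalizer (B : Set G)) {g : G}
    (hg : g ∈ B) (h1 : g * ψ P.t = ψ P.t * g) (h2 : g * ψ P.z = ψ P.z * g) : ∃ b, b ^ 4 = 1 ∧ g = θ b := by
  obtain ⟨i, b, rfl⟩ := F.czt g h2 h1
  have z3 : ψ P.z ^ 3 = 1 := pw ψ d7.2.2.2.2.2.2.2.2.2.1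
  have c : ∀ (j : ℕ) β, Commute (ψ P.z ^ j) (θ β) := fun j β => (show Commute _ _ from F.θz β).symm.pow_left j
  have mul : ∀ {β γ}, (∃ j : ℕ, ψ P.z ^ j * θ β ∈ B) → (∃ j : ℕ, ψ P.z ^ j * θ γ ∈ B) →
      ∃ j : ℕ, ψ P.z ^ j * θ (β * γ) ∈ B := fun {β γ} ⟨j, h⟩ ⟨l, h'⟩ => ⟨j + l, by
    convert mul_mem h h' using 1
    rw [map_mul, pow_add, mul_assoc, mul_assoc, ← mul_assoc _ (θ β), (c l β).eq, mul_assoc]⟩
  have h0 : ∃ j : ℕ, ψ P.z ^ j * θ b ∈ B := ⟨i, hg⟩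
  have hs : ∃ j : ℕ, ψ P.z ^ j * θ (s0 * b * s0⁻¹) ∈ B := ⟨i, by
    convert (mem_normalizer_iff.1 hz _).1 hg using 1
    rw [← F.θs, map_mul, map_mul, map_inv, ← mul_assoc, ← mul_assoc, (c i s0).eq, mul_assoc (θ s0)]⟩
  have no : ∀ {β}, (∃ j : ℕ, ψ P.z ^ j * θ β ∈ B) → ¬ S25.T3 β := fun {β} ⟨j, h⟩ ⟨t1, t2⟩ => by
    refine not_mem_cop hB (a := 2) (fun k => ?_) ?_ h
    · rw [(c j β).mul_pow, ← map_pow θ, ← pow_mul, mul_eq_one_iff_inv_eq] at k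
      have k' : ∀ a, β ^ 2 * a = a * β ^ 2 := fun a => F.θinj (by
        rw [map_mul, map_mul, ← k]; exact (c _ a).inv_left.eq)
      rcases S25.cq _ (k' _) (k' _) with e | e
      · exact t1 e
      · rw [show 6 = 2 * 3 from rfl, pow_mul, e] at t2
        exact absurd t2 (by decide +kernel)
    · rw [(c j β).mul_pow, ← map_pow θ, show 2 * 3 = 6 from rfl, t2, map_one, mul_one, pow_right_comm,
        show 6 = 3 * 2 from rfl, pow_mul, z3, one_pow, one_pow]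
  have b4 : b ^ 4 = 1 := by
    rcases S25.cop4 b with e | e | e | e
    exacts [e, absurd e (no h0), absurd e (no (mul h0 hs)), absurd e (no (mul (mul h0 h0) hs))]
  have e4 : (ψ P.z ^ i * θ b) ^ 4 = ψ P.z ^ i := by
    rw [(c i b).mul_pow, ← map_pow θ, b4, map_one, mul_one, pow_succ, pow_right_comm, z3, one_pow, one_mul]
  refine ⟨b, b4, ?_⟩
  by_contra k
  refine not_mem_cop hB (a := 4) (fun e => k ?_) ?_ hg
  · rw [e4.symm.trans e, one_mul]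
  · rw [pow_mul, e4, pow_right_comm, z3, one_pow]

theorem genK (Y : YF) (B M : Subgroup G) (hB : (Nat.card B).Coprime 3) (hy : ψ P.y ∈ normalizer (B : Set G))
    (hy' : ψ P.y' ∈ normalizer (B : Set G)) (ht : B ≤ centralizer {ψ P.t}) (m1 : ∀ a, ψ (P.ν a) ∈ B → ψ (P.ν a) ∈ M)
    (m2 : ∀ a, k * ψ (P.ν a) * k⁻¹ ∈ B → k * ψ (P.ν a) * k⁻¹ ∈ M) (m3 : ∀ b, b ^ 4 = 1 → θ b ∈ B → θ b ∈ M)
    (m4 : ∀ b, b ^ 4 = 1 → ψ P.w * θ b * (ψ P.w)⁻¹ ∈ B → ψ P.w * θ b * (ψ P.w)⁻¹ ∈ M) : B ≤ M := by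
  have cy := cmm ψ d7.2.2.1
  have : IsMulCommutative ↥(zpowers (ψ P.y) ⊔ zpowers (ψ P.y')) := ⟨⟨fun a b => Subtype.ext <| by
    obtain ⟨i, j, e⟩ := mem_two cy (pw ψ d7.1) (pw ψ d7.2.1) a.2
    obtain ⟨i', j', e'⟩ := mem_two cy (pw ψ d7.1) (pw ψ d7.2.1) b.2
    have c : Commute (ψ P.y) (ψ P.y') := cy
    rw [coe_mul, coe_mul, e, e']
    exact (((Commute.refl _).pow_pow _ _).mul_right (c.pow_pow _ _)).mul_left
      ((c.symm.pow_pow _ _).mul_right ((Commute.refl _).pow_pow _ _))⟩⟩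
  refine le_of_forall_centralizer_le (A := zpowers (ψ P.y) ⊔ zpowers (ψ P.y')) (fun hc => ?_)
    (sup_le (zpowers_le.2 hy) (zpowers_le.2 hy')) ?_ fun a ha a1 g hg => ?_
  · obtain ⟨x, hx⟩ := hc.exists_generator
    have k : ∀ u ∈ zpowers (ψ P.y) ⊔ zpowers (ψ P.y'), ∃ a : Fin 3, u = x.1 ^ a.1 := fun u hu =>
      zp3 (cube_two cy (pw ψ d7.1) (pw ψ d7.2.1) x.2) ((hx ⟨u, hu⟩).imp fun n e => congrArg Subtype.val e)
    obtain ⟨a, ea⟩ := k _ (mem_sup_left (mem_zpowers _))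
    obtain ⟨b, eb⟩ := k _ (mem_sup_right (mem_zpowers _))
    obtain ⟨i, j, e⟩ := memX ψ x.2
    rw [e, ← map_pow] at ea eb
    exact d5 i j a b ⟨F.inj ea, F.inj eb⟩
  · obtain ⟨n, hn⟩ := (pg_two cy (pw ψ d7.1) (pw ψ d7.2.1)).exists_card_eq
    rw [hn]
    exact hB.symm.pow_left n
  · obtain ⟨i, j, rfl⟩ := memX ψ ha
    have g1 := mem_centralizer_singleton_iff.1 (ht hg.1)
    obtain ⟨u, hu, e⟩ := (d4 i j).resolve_left fun e => a1 (by rw [e, map_one])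
    have g2 : g * ψ u = ψ u * g := by
      have c : Commute g _ := mem_centralizer_singleton_iff.1 hg.2
      rcases e with e | e <;> rw [e] at c
      · exact c
      · rw [map_inv] at c; exact Commute.inv_right_iff.1 c
    have hz : ψ P.z ∈ normalizer (B : Set G) := by rw [P.z, map_mul]; exact mul_mem hy' hy
    have hz' : ψ P.z' ∈ normalizer (B : Set G) := by rw [P.z', map_mul, map_inv]; exact mul_mem hy' (inv_mem hy)
    simp only [List.mem_cons, List.not_mem_nil, or_false] at hu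
    rcases hu with rfl | rfl | rfl | rfl
    · obtain ⟨a, rfl⟩ := lemY F Y hB hy' hg.1 g1 g2
      exact m1 _ hg.1
    · obtain ⟨B', c, m, n⟩ := transfer B k
      obtain ⟨a, e⟩ := lemY F Y (c ▸ hB) (n _ (F.ky' ▸ hy)) (g := k⁻¹ * g * k) ((m _).2 (by simpa [mul_assoc] using hg.1))
        (comm_conj (by rw [F.kt, mul_inv_cancel_right]) g1) (comm_conj F.ky g2)
      obtain rfl : g = k * ψ (P.ν a) * k⁻¹ := by rw [← e]; group
      exact m2 _ hg.1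
    · obtain ⟨b, b4, rfl⟩ := lemZ F hB hz' hg.1 g1 g2
      exact m3 _ b4 hg.1
    · obtain ⟨B', c, m, n⟩ := transfer B (ψ P.w)
      obtain ⟨-, -, -, -, -, -, -, -, -, -, -, -, -, -, -, w1, w2, w3⟩ := d7
      obtain ⟨b, b4, e⟩ := lemZ F (c ▸ hB) (n _ (by rw [cjm ψ w3, map_inv]; exact inv_mem hz))
        (g := (ψ P.w)⁻¹ * g * ψ P.w) ((m _).2 (by simpa [mul_assoc] using hg.1)) (comm_conj (cjm ψ w1) g1)
        (comm_conj (cjm ψ w2) (by rw [map_inv]; exact (show Commute _ _ from g2).inv_right.eq))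
      obtain rfl : g = ψ P.w * θ b * (ψ P.w)⁻¹ := by rw [← e]; group
      exact m4 _ b4 hg.1

end C0x

theorem c0Thm : C0Thm.{u} := fun Y _ _ _ _ _ _ F =>
  { F with
    n1 := C0x.nrm F cj_e0_e1
    n3 := C0x.nrm F cj_e0_y
    syl := C0x.syl F Y
    cX := C0x.cX F Y
    nc2 := C0x.nc2 F Y
    genK := C0x.genK F Y }

end CL.HN3
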