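/-
The 3-local characterisation of the Harada–Norton group (helper35): `k` maps `u1, u2` to `r, s`.
-/
import Cfsg.Agent.Hn3.Defs2

set_option autoImplicit false
set_option synthInstance.maxSize 4096

namespace CL.HN3

open Subgroup Cfsg CL.Grp Equiv

variable {G : Type*} [Group G] {ψ : A12 →* G} {θ : L5 →* G} {k : G}

theorem ku_dec : P.u1 * P.e0 = P.e0 * P.u1 ∧ P.u1 * P.y = P.y * P.u1 ∧ P.u1 * P.t = P.t * P.u1 ∧ P.u1 * P.i = P.i * P.u1 ∧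
    P.e1 = (P.m * P.y')⁻¹ ∧ P.e2 = (P.m⁻¹ * P.y')⁻¹ ∧ P.u1 ≠ 1 ∧ P.y' * P.u1 * P.y'⁻¹ = P.u2 ∧ P.y * P.r * P.y⁻¹ = P.s ∧
    (P.u1 * P.y') ^ 3 = 1 ∧ (P.σ * P.y) ^ 3 ≠ 1 ∧ (P.σ * P.r * P.y) ^ 3 ≠ 1 := by decide +kernel

theorem G1.ku (F : G1 ψ θ k) (Y : YF) : k * ψ P.u1 * k⁻¹ = ψ P.r ∧ k * ψ P.u2 * k⁻¹ = ψ P.s := by
  obtain ⟨c1, c2, c3, c4, c5, c6, c7, c8, c9, d1, d2, d3⟩ := ku_dec
  have cm {a b : A12} (h : P.u1 * a = a * P.u1) (e : k * ψ a * k⁻¹ = ψ b) : Commute (k * ψ P.u1 * k⁻¹) (ψ b) := by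
    rw [← e, Commute, SemiconjBy, conj_mul, conj_mul, ← map_mul, h, map_mul]
  have m := cm c1 F.ke
  have y := cm c2 F.ky
  have e1 : Commute (k * ψ P.u1 * k⁻¹) (ψ P.e1) := by rw [c5, map_inv, map_mul]; exact (m.mul_right y).inv_right
  have e2 : Commute (k * ψ P.u1 * k⁻¹) (ψ P.e2) := by
    rw [c6, map_inv, map_mul, map_inv]; exact (m.inv_right.mul_right y).inv_right
  obtain ⟨p, hp⟩ := F.n1 _ (by rw [e1.eq, mul_inv_cancel_right]; exact mem_zpowers _)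
  have l {b : A12} (h : Commute (k * ψ P.u1 * k⁻¹) (ψ b)) : p * b = b * p := F.inj (by rw [map_mul, map_mul, hp, h.eq])
  have q : (p * P.y) ^ 3 = 1 := F.inj (by
    rw [map_pow, map_mul, hp, ← F.ky', conj_mul, conj_pow, ← map_mul, ← map_pow, d1]; simp)
  have r : p = P.r := by
    obtain rfl | rfl | rfl | rfl := Y.cd p (l e1) (l e2)
      (l (cm c3 (by rw [F.toGY.kt, mul_inv_cancel_right]))) (l (cm c4 F.ki))
    · exact absurd (F.inj (by rwa [map_one, eq_comm, conj_eq_one_iff, ← map_one ψ] at hp)) c7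
    exacts [absurd q d2, absurd q d3, rfl]
  refine ⟨r ▸ hp.symm, ?_⟩
  rw [← c8, ← c9, map_mul, map_mul, map_mul, map_mul, map_inv, map_inv, ← F.ky', ← r, hp]
  group

end CL.HN3
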