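/-
The 3-local characterisation of the Harada–Norton group: `R_y` and `R_y'` commute.
-/
import Cfsg.Agent.Hn3.Ku
import Cfsg.Agent.Hn3.YF

set_option autoImplicit false
set_option synthInstance.maxSize 4096

namespace CL.HN3

open Subgroup Cfsg CL.Grp Equiv

universe u

namespace C2x

/-- the commutator with `y'` -/
def cm (p : A12) : A12 := p * P.y' * p⁻¹ * P.y'⁻¹

/-- the code of an element -/
def cd (p : A12) : ℕ := YFx.cod p.1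

theorem cd_iff {p q : A12} : p = q ↔ cd p = cd q := ⟨congrArg cd, fun h => Subtype.ext (YFx.cod_inj h)⟩

theorem cd_mul (p q : A12) : cd (p * q) = YFx.rmul (cd p) (cd q) := YFx.cod_mul _ _

theorem four (p : A12) : p ^ 4 = p * p * (p * p) := by rw [← sq, ← sq, ← pow_mul]

theorem d0 (a : ℕ) : ∃ b : Fin 32, P.ν a = P.ν b :=
  ⟨⟨a % 32, Nat.mod_lt _ (by decide)⟩, by
    simp only [P.ν]
    rw [show a % 32 % 2 = a % 2 by omega, show a % 32 / 2 % 2 = a / 2 % 2 by omega,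
      show a % 32 / 4 % 2 = a / 4 % 2 by omega, show a % 32 / 8 % 2 = a / 8 % 2 by omega,
      show a % 32 / 16 % 2 = a / 16 % 2 by omega]⟩

theorem d1 : ∀ b : Fin 32, P.ν b * P.t = P.t * P.ν b ∧ P.ν b * P.y = P.y * P.ν b ∧ P.ν b * P.r = P.r * P.ν b ∧
    P.ν b * P.s = P.s * P.ν b ∧ cm (P.ν b) ^ 4 = 1 ∧ cm (P.ν b * P.t) = cm (P.ν b) ∧ (∃ c : Fin 32, P.ν b * P.t = P.ν c) ∧
    (∃ c : Fin 32, P.ν b = cm (P.ν c) ∨ P.ν b = cm (P.ν c) * P.t) ∧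
    ((P.ν b)⁻¹ * P.u1 * P.ν b = P.u1 ∨ (P.ν b)⁻¹ * P.u1 * P.ν b = P.u1 * P.t) ∧
    ((P.ν b)⁻¹ * P.u2 * P.ν b = P.u2 ∨ (P.ν b)⁻¹ * P.u2 * P.ν b = P.u2 * P.t) := by
  simp only [four, cm, mul_inv_rev, cd_iff, cd_mul]
  decide +kernel

theorem d2 : ∀ a c : Fin 32, P.ν a * (P.ν c)⁻¹ * P.y' = P.y' * (P.ν a * (P.ν c)⁻¹) →
    P.ν c = P.ν a ∨ P.ν c = P.ν a * P.t := by
  simp only [cd_iff, cd_mul]
  decide +kernel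

theorem d3 : ∀ (a : Fin 32) (b c : Fin 2) (d : Fin 3) (e : Fin 2),
    cm (P.ν a * P.r ^ b.1 * P.s ^ c.1 * P.y' ^ d.1 * P.w ^ e.1) ^ 4 = 1 →
      ∃ a' : Fin 32, cm (P.ν a * P.r ^ b.1 * P.s ^ c.1 * P.y' ^ d.1 * P.w ^ e.1) = P.ν a' := by
  simp only [four, cm, mul_inv_rev, cd_iff, cd_mul]
  decide +kernel

theorem d4 : P.y' * P.t = P.t * P.y' := by decide +kernel

variable {G : Type*} [Group G] {ψ : A12 →* G} {θ : L5 →* G} {k : G} (F : G2 ψ θ k) (Y : YF)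
include F

theorem ft (b : Fin 32) : Commute (k * ψ (P.ν b) * k⁻¹) (ψ P.t) :=
  .mul_left (.mul_left F.toGY.kt (Commute.map (d1 b).1 ψ)) (Commute.inv_left F.toGY.kt)

theorem fy (b : Fin 32) : Commute (k * ψ (P.ν b) * k⁻¹) (ψ P.y') := by
  rw [← F.ky, Commute, SemiconjBy, conj_mul, conj_mul, ← map_mul, (d1 b).2.1, map_mul]

theorem fcm {b : Fin 32} {p e : A12} (h : k * ψ (P.ν b) * k⁻¹ * ψ p * (k * ψ (P.ν b) * k⁻¹)⁻¹ = ψ e) :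
    k * ψ (P.ν b) * k⁻¹ * ψ (cm p) * (k * ψ (P.ν b) * k⁻¹)⁻¹ = ψ (cm e) := by
  have := (fy F b).mul_inv_cancel
  simp only [cm, map_mul, map_inv, ← h]
  generalize k * ψ (P.ν b) * k⁻¹ = f at this ⊢
  rw [← conj_mul, ← conj_mul, ← conj_mul, ← conj_inv, ← conj_inv, this]

theorem fmt {b : Fin 32} {p e : A12} (h : k * ψ (P.ν b) * k⁻¹ * ψ p * (k * ψ (P.ν b) * k⁻¹)⁻¹ = ψ e) :
    k * ψ (P.ν b) * k⁻¹ * ψ (p * P.t) * (k * ψ (P.ν b) * k⁻¹)⁻¹ = ψ (e * P.t) := by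
  rw [map_mul, map_mul, ← conj_mul, h, (ft F b).mul_inv_cancel]

include Y

theorem stepA (b a : Fin 32) :
    ∃ c : Fin 32, k * ψ (P.ν b) * k⁻¹ * ψ (P.ν a) * (k * ψ (P.ν b) * k⁻¹)⁻¹ = ψ (P.ν c) := by
  obtain ⟨a', h1⟩ := (d1 a).2.2.2.2.2.2.2.1
  obtain ⟨c1, -, c2, c3, c4, -⟩ := d1 a'
  have k1 : ∀ {u ρ : A12}, k * ψ u * k⁻¹ = ψ ρ → P.ν a' * ρ = ρ * P.ν a' →
      (P.ν b)⁻¹ * u * P.ν b = u ∨ (P.ν b)⁻¹ * u * P.ν b = u * P.t →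
      k * ψ (P.ν b) * k⁻¹ * ψ (P.ν a') * (k * ψ (P.ν b) * k⁻¹)⁻¹ * ψ ρ =
        ψ ρ * (k * ψ (P.ν b) * k⁻¹ * ψ (P.ν a') * (k * ψ (P.ν b) * k⁻¹)⁻¹) := fun {u ρ} e1 e2 e3 => by
    have e4 : Commute (ψ (P.ν a')) (k * ψ ((P.ν b)⁻¹ * u * P.ν b) * k⁻¹) := by
      rcases e3 with e3 | e3 <;> rw [e3]
      · exact e1 ▸ Commute.map e2 ψ
      · rw [map_mul, ← conj_mul, e1, F.toGY.kt, mul_inv_cancel_right]
        exact (Commute.map e2 ψ).mul_right (Commute.map c1 ψ)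
    rw [← e1]
    calc _ = k * ψ (P.ν b) * k⁻¹ * (ψ (P.ν a') * (k * ψ ((P.ν b)⁻¹ * u * P.ν b) * k⁻¹)) * (k * ψ (P.ν b) * k⁻¹)⁻¹ := by
          simp only [map_mul, map_inv]; group
      _ = _ := by rw [e4.eq]; simp only [map_mul, map_inv]; group
  have h2 := k1 (F.ku Y).1 c2 (d1 b).2.2.2.2.2.2.2.2.1
  have h3 := k1 (F.ku Y).2 c3 (d1 b).2.2.2.2.2.2.2.2.2
  have h4 := (((ft F b).mul_left (Commute.map c1 ψ)).mul_left (ft F b).inv_left).eq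
  obtain ⟨e, he⟩ := F.cU _ h2 h3
  rw [← he, ← map_mul, ← map_mul] at h2 h3 h4
  obtain ⟨a1, a2, a3, a4, a5, rfl⟩ := Y.cut e (F.inj h2) (F.inj h3) (F.inj h4)
  have h5 := fcm F he.symm
  obtain ⟨c, h6⟩ := d3 a1 a2 a3 a4 a5 (F.inj (by rw [map_pow, ← h5, conj_pow, ← map_pow, c4]; simp))
  rw [h6] at h5
  rcases h1 with h1 | h1 <;> rw [h1]
  · exact ⟨c, h5⟩
  · obtain ⟨c', e⟩ := (d1 c).2.2.2.2.2.2.1
    exact ⟨c', (fmt F h5).trans (congrArg ψ e)⟩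

theorem stepC (b a : Fin 32) : k * ψ (P.ν b) * k⁻¹ * ψ (P.ν a) * (k * ψ (P.ν b) * k⁻¹)⁻¹ = ψ (P.ν a) ∨
    k * ψ (P.ν b) * k⁻¹ * ψ (P.ν a) * (k * ψ (P.ν b) * k⁻¹)⁻¹ = ψ (P.ν a * P.t) := by
  obtain ⟨c, h1⟩ := stepA F Y b a
  obtain ⟨c', h2⟩ := stepA F Y a b
  have h3 : k * (k * ψ (P.ν a) * k⁻¹) * k⁻¹ = ψ (P.ν a) := by
    rw [show k * (k * ψ (P.ν a) * k⁻¹) * k⁻¹ = k * k * ψ (P.ν a) * (k * k)⁻¹ by group, F.toGY.kk,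
      (Commute.map (d1 a).1 ψ).symm.mul_inv_cancel]
  have h4 : ψ (P.ν a * (P.ν c)⁻¹) = k * ψ (P.ν c') * k⁻¹ * (k * ψ (P.ν b) * k⁻¹)⁻¹ := by
    rw [map_mul, map_inv, ← h1, ← h2]
    generalize k * ψ (P.ν a) * k⁻¹ = f at h3 ⊢
    rw [← h3]
    group
  rw [h1]
  exact (d2 a c (F.inj (by
    rw [map_mul, map_mul _ P.y', h4]; exact ((fy F c').mul_left (fy F b).inv_left).eq))).imp (congrArg ψ) (congrArg ψ)

end C2x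

open C2x in
theorem c2Thm : C2Thm.{u} := fun Y G _ _ ψ θ k F => by
  refine ⟨F, (F.ku Y).1, (F.ku Y).2, fun a b => ?_⟩
  obtain ⟨a, e1⟩ := d0 a
  obtain ⟨b, e2⟩ := d0 b
  obtain ⟨c, h1⟩ := (d1 a).2.2.2.2.2.2.2.1
  have h2 : k * ψ (P.ν b) * k⁻¹ * ψ (cm (P.ν c)) * (k * ψ (P.ν b) * k⁻¹)⁻¹ = ψ (cm (P.ν c)) := by
    rcases stepC F Y b c with h | h
    exacts [fcm F h, (fcm F h).trans (congrArg ψ (d1 c).2.2.2.2.2.1)]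
  rw [e1, e2, eq_comm, ← mul_inv_eq_iff_eq_mul]
  rcases h1 with h1 | h1 <;> rw [h1]
  exacts [h2, fmt F h2]

end CL.HN3
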