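/-
The 3-local characterisation of the Harada–Norton group, part C3: the extraspecial group of order 512 in codes.
-/
import Cfsg.Agent.Hn3.Defs2

set_option autoImplicit false
set_option synthInstance.maxSize 4096

namespace CL.HN3

open Subgroup Cfsg CL.Grp CL.McL3 CL.McL3.C27 CL.S9R CL.Ast Equiv

universe u

namespace C3x

/-- the table of values of the permutations `ν a` -/
def tb (a x : ℕ) : ℕ := 0xba9064137285ba9137064258ba9037164285ba9164037258ba9067134258ba9134067285ba9034167258ba9167034285ba9608315247ba9315608274ba9308615274ba9615308247ba9605318274ba9318605247ba9305618247ba9618305274ba9480751263ba9751480236ba9780451236ba9451780263ba9750481263ba9481750236ba9450781236ba9781450263ba9846573201ba9573846210ba9873546201ba9546873210ba9576843201ba9843576210ba9543876201ba9876543210 >>> (4 * (12 * a + x)) % 16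

theorem tb1 : ∀ (a : Fin 32) (x : Fin 12), ((P.ν a).1 x).1 = tb a x := by decide +kernel
theorem tb2 : ∀ (a b : Fin 32), mcN a b < 32 ∧ ∀ x : Fin 12, tb a (tb b x) = tb (mcN a b) x := by decide +kernel

theorem ν_mul {a b : ℕ} (ha : a < 32) (hb : b < 32) : P.ν (mcN a b) = P.ν a * P.ν b := by
  obtain ⟨h, e⟩ := tb2 ⟨a, ha⟩ ⟨b, hb⟩
  refine Subtype.ext (Equiv.ext fun x => Fin.ext ((tb1 ⟨_, h⟩ x).trans ((e x).symm.trans ?_)))
  rw [← tb1 ⟨b, hb⟩, ← tb1 ⟨a, ha⟩]; rfl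

theorem n1 : ∀ (a b : Fin 32) (e : Fin 2), a.1 ^^^ b.1 ^^^ (be a b + e) % 2 = mcN (mcN a b) e := by decide +kernel
theorem n2 : ∀ a b : Fin 16, mcN (a * 2) (b * 2) = mcN (be (a * 2) (b * 2)) ((a.1 ^^^ b.1) * 2) ∧ (a.1 ^^^ b.1) * 2 < 32 := by
  decide +kernel
theorem n3 : ∀ a : Fin 32, mcN (a % 2) (a / 2 * 2) = a ∧ mcN 1 a = mcN a 1 := by decide +kernel
theorem ν01 : P.ν 0 = 1 ∧ P.ν 1 = P.t := by decide +kernel
theorem νy : ∀ a : Fin 32, P.ν a * P.y = P.y * P.ν a ∧ (P.ν a * P.y' = P.y' * P.ν a → a.1 < 2) ∧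
    (P.ν a = 1 → a = 0) ∧ (P.ν a = P.t⁻¹ → a = 1) := by decide +kernel

theorem mc_val (a b : Cd) : (mc a b).1 = mcN a b :=
  Nat.mod_eq_of_lt (Nat.xor_lt_two_pow (n := 9) (Nat.xor_lt_two_pow a.2 b.2) (by omega))

theorem mc_mod (a b : ℕ) : mcN a b % 32 = a % 32 ^^^ b % 32 ^^^ (be (a % 32) (b % 32) + be (a / 32 * 2) (b / 32 * 2)) % 2 := by
  rw [mcN, Nat.xor_mod_two_pow (n := 5), Nat.xor_mod_two_pow (n := 5)]
  congr 1; omega

theorem mc_div (a b : ℕ) : mcN a b / 32 = a / 32 ^^^ b / 32 := by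
  rw [mcN, Nat.xor_div_two_pow (n := 5), Nat.xor_div_two_pow (n := 5), Nat.div_eq_of_lt (a := _ % 2) (by omega), Nat.xor_zero]

/-- the cocycle -/
def ε (a b : ℕ) : ℕ := (be (a % 32) (b % 32) + be (a / 32 * 2) (b / 32 * 2)) % 2

theorem ε_congr {a b a' b' : ℕ} (h1 : a / 2 = a' / 2) (h2 : b / 2 = b' / 2) : ε a b = ε a' b' := by
  unfold ε be
  rw [show a % 32 / 8 = a' % 32 / 8 by omega, show a % 32 / 16 = a' % 32 / 16 by omega, show a / 32 = a' / 32 by omega,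
    show b % 32 / 2 = b' % 32 / 2 by omega, show b % 32 / 4 = b' % 32 / 4 by omega, show b / 32 = b' / 32 by omega]

theorem mc_inn (a b : Cd) : mc (inn a b) a = mc a b := by
  have e1 : ε a b < 2 := Nat.mod_lt _ two_pos
  have e2 : ε b a < 2 := Nat.mod_lt _ two_pos
  have c : cmt a b = true ↔ ε a b ≠ ε b a := by
    rw [cmt, bne_iff_ne, ε_congr (a' := a / 2 * 2) (b' := b / 2 * 2) (by omega) (by omega),
      ε_congr (a := b) (a' := b / 2 * 2) (b' := a / 2 * 2) (by omega) (by omega), mcN, mcN, Nat.xor_comm (b / 2 * 2)]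
    exact Nat.xor_right_inj.ne
  refine Fin.ext ?_
  rw [mc_val, mc_val]
  change mcN (if cmt a b then fl b else b : Cd) a = _
  split_ifs with h
  · have f : (fl b).1 = b.1 ^^^ 1 := Nat.mod_eq_of_lt (Nat.xor_lt_two_pow (n := 9) b.2 (by omega))
    change (fl b).1 ^^^ a.1 ^^^ ε (fl b) a = a.1 ^^^ b.1 ^^^ ε a b
    rw [ε_congr (fl_fl.2 b) rfl, f, Nat.xor_comm (b.1 ^^^ 1), Nat.xor_assoc, Nat.xor_assoc, Nat.xor_assoc]
    exact congrArg _ (congrArg _ ((by decide : ∀ x < 2, ∀ y < 2, x ≠ y → 1 ^^^ y = x) _ e1 _ e2 (c.1 h)))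
  · change b.1 ^^^ a.1 ^^^ ε b a = a.1 ^^^ b.1 ^^^ ε a b
    rw [Nat.xor_comm b.1, not_not.1 (c.not.1 h)]

/-- the inverse code -/
def iv (a : Cd) : Cd := mc a (mc a a)

theorem iv0 : ∀ a : Cd, mc a (iv a) = 0 ∧ mc (fl a) (iv a) ≠ 0 ∧ (iv a = a ∨ iv a = fl a) := by decide +kernel

theorem iv1 {a b : Cd} (h : mc a (iv b) = 0) : a = b := by
  have e : a.1 ^^^ (iv b).1 ^^^ ε a (iv b) = 0 := (mc_val _ _).symm.trans (congrArg Fin.val h)
  have e1 : ε a (iv b) < 2 := Nat.mod_lt _ two_pos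
  have f (b : Cd) : (fl b).1 = b.1 ^^^ 1 := Nat.mod_eq_of_lt (Nat.xor_lt_two_pow (n := 9) b.2 (by omega))
  rw [Nat.xor_assoc, Nat.xor_eq_zero_iff] at e
  have k : a = iv b ∨ a = fl (iv b) := by
    obtain h | h : ε a (iv b) = 0 ∨ ε a (iv b) = 1 := by omega
    exacts [.inl (Fin.ext (by rw [e, h, Nat.xor_zero])), .inr (Fin.ext (by rw [f, e, h]))]
  obtain ⟨-, h2, h3 | h3⟩ := iv0 b <;> rcases k with k | k <;> rw [h3] at k
  exacts [k, (h2 (k ▸ h)).elim, (h2 (k ▸ h)).elim, k.trans (fl_fl.1 b)]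

def lo (a : Cd) : Cd := Fin.ofNat 512 (a.1 % 32)
def hi (a : Cd) : Cd := Fin.ofNat 512 (a.1 / 32 * 2)
def sec (a : Cd) : Cd := Fin.ofNat 512 (a.1 % 2 + a.1 / 2 * 32)

theorem lh : ∀ a : Cd, (lo a).1 = a.1 % 32 ∧ (hi a).1 = a.1 / 32 * 2 ∧
    (a.1 < 32 → (sec a).1 % 32 = a.1 % 2 ∧ (sec a).1 / 32 * 2 = a.1 / 2 * 2) := by decide +kernel

/-- `x` acts on the codes below 32 by `γ` -/
def Ac (x : A12) (γ : Cd → Cd) : Prop := ∀ a : Cd, a.1 < 32 → (γ a).1 < 32 ∧ x * P.ν a = P.ν (γ a) * x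

instance (x : A12) (γ : Cd → Cd) : Decidable (Ac x γ) := inferInstanceAs (Decidable (∀ _, _))

theorem acy : Ac P.y M.y ∧ Ac P.y' M.y' := by decide +kernel
theorem acw : Ac P.w M.w ∧ Ac (P.w * P.t) M.w := by decide +kernel
theorem acσ : Ac P.σ M.σ ∧ Ac (P.σ * P.t) M.σ := by decide +kernel
theorem aci : Ac P.i M.i := by decide +kernel
theorem dy : ∀ a, M.y a = mc (M.y (lo a)) (sec (M.y' (hi a))) := by decide +kernel
theorem dy' : ∀ a, M.y' a = mc (M.y' (lo a)) (sec (M.y (hi a))) := by decide +kernel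
theorem dw : ∀ a, M.w a = mc (M.w (lo a)) (sec (M.σ (hi a))) := by decide +kernel
theorem dσ : ∀ a, M.σ a = mc (M.σ (lo a)) (sec (M.w (hi a))) := by decide +kernel
theorem di : ∀ a, M.i a = mc (M.i (lo a)) (sec (M.i (hi a))) := by decide +kernel
theorem dk : ∀ a, M.k a = mc (sec (lo a)) (hi a) := by decide +kernel
theorem dc1 : ∀ (d : Fin 3) (e : Fin 2), (∀ j ∈ ([2, 8] : List Cd), ((M.y' ^ d.1 * M.w ^ e.1) j).1 / 2 = j.1 / 2) →
    d = 0 ∧ e = 0 := by decide +kernel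
theorem dc2 : ∀ a : Cd, (∀ j ∈ ([2, 4, 8, 16, 32, 64, 128, 256] : List Cd), inn a j = j) → a = 0 ∨ a = 1 := by
  decide +kernel

theorem inn2 (a b : Cd) : (inn a b).1 / 2 = b.1 / 2 := by
  change (if cmt a b then fl b else b : Cd).1 / 2 = _
  split_ifs
  exacts [fl_fl.2 b, rfl]

variable {G : Type*} [Group G] {ψ : A12 →* G} {θ : L5 →* G} {k : G} (F : G3 ψ θ k)
include F

theorem kν {e : ℕ} (he : e < 2) : k * ψ (P.ν e) * k⁻¹ = ψ (P.ν e) := by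
  obtain rfl | rfl : e = 0 ∨ e = 1 := by omega
  · simp [ν01.1]
  · rw [ν01.2, F.toGY.kt, mul_inv_cancel_right]

theorem μmul (a b : Cd) : μ ψ k (mc a b) = μ ψ k a * μ ψ k b := by
  have ha : a.1 / 32 < 16 := by omega
  have hb : b.1 / 32 < 16 := by omega
  have he : be (a / 32 * 2) (b / 32 * 2) < 2 := Nat.mod_lt _ two_pos
  have h1 := n1 ⟨a % 32, by omega⟩ ⟨b % 32, by omega⟩ ⟨_, he⟩
  have h2 := n2 ⟨_, ha⟩ ⟨_, hb⟩
  have h3 := congrArg (fun x => k * ψ (P.ν x) * k⁻¹) h2.1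
  dsimp only at h1 h2 h3
  rw [ν_mul (by omega) (by omega), ν_mul (by omega) h2.2, map_mul, map_mul, ← conj_mul, ← conj_mul, kν F he] at h3
  rw [μ, mc_val, mc_mod, mc_div, h1, ν_mul (tb2 ⟨a % 32, by omega⟩ ⟨b % 32, by omega⟩).1 (by omega),
    ν_mul (by omega) (by omega), map_mul, map_mul, mul_assoc, ← h3, μ, μ, mul_assoc, mul_assoc (ψ _), ← mul_assoc (ψ (P.ν (b % 32))),
    F.cm, mul_assoc, mul_assoc, F.cm]

theorem μ0 {c : Cd} (h : μ ψ k c = 1) : c = 0 := by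
  have h1 : c.1 % 32 < 32 := by omega
  have h2 : c.1 / 32 * 2 < 32 := by omega
  have e : ψ (P.ν (c % 32)) = (k * ψ (P.ν (c / 32 * 2)) * k⁻¹)⁻¹ := eq_inv_of_mul_eq_one_left h
  have l : c.1 % 32 < 2 := (νy ⟨_, h1⟩).2.1 (F.inj (by
    have := ((show Commute _ _ from (νy ⟨_, h2⟩).1).map ψ).conj k
    rw [map_mul, map_mul, e, ← F.ky]
    exact this.inv_left))
  rw [← kν F l, conj_inv, mul_left_inj, mul_right_inj, ← map_inv, F.inj.eq_iff, ← inv_eq_iff_eq_inv] at e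
  obtain l | l : c.1 % 32 = 0 ∨ c.1 % 32 = 1 := by omega
  · have := congrArg Fin.val ((νy ⟨_, h2⟩).2.2.1 (by rw [← e, l, ν01.1, inv_one]))
    exact Fin.ext (by change _ = 0 at this ⊢; dsimp only at this; omega)
  · have := congrArg Fin.val ((νy ⟨_, h2⟩).2.2.2 (by rw [← e, l, ν01.2]))
    change _ = 1 at this; dsimp only at this; omega

theorem μiv (a : Cd) : μ ψ k (iv a) = (μ ψ k a)⁻¹ :=
  eq_inv_of_mul_eq_one_right (by rw [← μmul F, (iv0 a).1, (μ_vals ψ k).1])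

theorem μinj : Function.Injective (μ ψ k) := fun a b e => iv1 (μ0 F (by rw [μmul F, μiv F, e, mul_inv_cancel]))

theorem μsec {c : Cd} (h : c.1 < 32) : k * ψ (P.ν c) * k⁻¹ = μ ψ k (sec c) := by
  rw [μ, ((lh c).2.2 h).1, ((lh c).2.2 h).2, ← kν F (Nat.mod_lt _ two_pos), conj_mul, ← map_mul,
    ← ν_mul (by omega) (by omega), (n3 ⟨_, h⟩).1]

theorem act {x x' : A12} {γ γ' : Cd → Cd} (e : k * ψ x' * k⁻¹ = ψ x) (h1 : Ac x γ) (h2 : Ac x' γ')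
    (h3 : ∀ a, γ a = mc (γ (lo a)) (sec (γ' (hi a)))) : Co ψ k (ψ x) γ := fun a => by
  obtain ⟨l1, e1⟩ := h1 (lo a) (by rw [(lh a).1]; omega)
  obtain ⟨l2, e2⟩ := h2 (hi a) (by rw [(lh a).2.1]; omega)
  rw [h3, μmul F, ← μsec F l2, μ_lt _ _ _ l1, ← mul_inv_eq_iff_eq_mul.2 e1, ← mul_inv_eq_iff_eq_mul.2 e2, μ, ← conj_mul,
    (lh a).1, (lh a).2.1]
  simp only [map_mul, map_inv, ← e, mul_inv_rev, inv_inv, mul_assoc, inv_mul_cancel_left]

theorem cok : Co ψ k k M.k := fun a => by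
  have h : a.1 / 32 * 2 < 32 := by omega
  have e : P.t * P.ν (a / 32 * 2) = P.ν (a / 32 * 2) * P.t := by
    rw [← ν01.2, ← ν_mul (by omega) h, ← ν_mul h (by omega)]; exact congrArg _ (n3 ⟨_, h⟩).2
  rw [dk, μmul F, ← μsec F (by rw [(lh a).1]; omega), μ_lt _ _ (hi a) (by rw [(lh a).2.1]; exact h), μ, ← conj_mul,
    (lh a).1, (lh a).2.1, mul_right_inj]
  calc _ = k * k * ψ (P.ν (a / 32 * 2)) * (k * k)⁻¹ := by group
    _ = _ := by rw [F.toGY.kk, ← map_mul, e, map_mul, mul_inv_cancel_right]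

theorem coμ (a : Cd) : Co ψ k (μ ψ k a) (inn a) := fun b => by
  rw [← μmul F, ← mc_inn, μmul F, mul_inv_cancel_right]

omit F in
theorem co_pow {g : G} {c : Perm Cd} (h : Co ψ k g c) : ∀ n : ℕ, Co ψ k (g ^ n) (c ^ n : Perm Cd)
  | 0 => by simpa using Co.one ψ k
  | n + 1 => by rw [pow_succ, pow_succ]; exact (co_pow h n).pmul h

end C3x

open C3x in
theorem c3Thm : C3Thm.{u} := fun Y {G} _ _ {ψ θ k} F => by
  let R : Subgroup G :=
    { carrier := Set.range (μ ψ k)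
      one_mem' := ⟨0, (μ_vals ψ k).1⟩
      mul_mem' := by rintro _ _ ⟨a, rfl⟩ ⟨b, rfl⟩; exact ⟨_, μmul F a b⟩
      inv_mem' := by rintro _ ⟨a, rfl⟩; exact ⟨_, μiv F a⟩ }
  have cy' := act F F.ky acy.2 acy.1 dy'
  have kσ : k * ψ (P.σ * P.t) * k⁻¹ = ψ P.w := by
    rw [← F.kw, show k * (k * ψ P.w * k⁻¹) * k⁻¹ = k * k * ψ P.w * (k * k)⁻¹ by group, F.toGY.kk, ← map_inv, ← map_mul,
      ← map_mul, (by decide +kernel : P.t * P.w * P.t⁻¹ = P.w)]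
  have kw : k * ψ (P.w * P.t) * k⁻¹ = ψ P.σ := by
    rw [← F.kσ, show k * (k * ψ P.σ * k⁻¹) * k⁻¹ = k * k * ψ P.σ * (k * k)⁻¹ by group, F.toGY.kk, ← map_inv, ← map_mul,
      ← map_mul, (by decide +kernel : P.t * P.σ * P.t⁻¹ = P.σ)]
  have cw := act F kσ acw.1 acσ.2 dw
  refine ⟨R, F, μmul F, μinj F, fun _ => Iff.rfl, fun g hg => ?_, act F F.ky' acy.1 acy.2 dy, cy', cw,
    act F kw acσ.1 acw.2 dσ, act F F.ki aci aci di, cok F, coμ F⟩
  have c (a : Cd) : g * μ ψ k a = μ ψ k a * g := hg.comm rfl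
  obtain ⟨p, rfl⟩ := F.cU g (F.μ_rs.1 ▸ c 32) (F.μ_rs.2 ▸ c 64)
  have c' {a : Cd} {x : A12} (e : μ ψ k a = ψ x) : p * x = x * p := F.inj (by rw [map_mul, map_mul, ← e, c])
  obtain ⟨a, b, b', d, e, rfl⟩ := Y.cut p (c' F.μ_rs.1) (c' F.μ_rs.2) (c' (μ_vals ψ k).2.1)
  obtain ⟨x, hx⟩ : ψ (P.ν a * P.r ^ b.1 * P.s ^ b'.1) ∈ R := by
    rw [map_mul, map_mul, map_pow, map_pow]
    exact mul_mem (mul_mem ⟨⟨a, by omega⟩, μ_lt _ _ _ a.2⟩ (R.pow_mem ⟨_, F.μ_rs.1⟩ _)) (R.pow_mem ⟨_, F.μ_rs.2⟩ _)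
  rw [map_mul, map_mul, ← hx, map_pow, map_pow, mul_assoc] at hg ⊢
  have h := ((coμ F x).mul ((co_pow cy' d).pmul (co_pow cw e))).uniq (μinj F) hg
  obtain ⟨rfl, rfl⟩ := dc1 d e fun j _ => by rw [← inn2 x, h]; rfl
  obtain rfl | rfl := dc2 x fun j _ => by simpa using h j
  · exact .inl (by simp [(μ_vals ψ k).1])
  · exact .inr (by simp [(μ_vals ψ k).2.1])

end CL.HN3

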