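/-
The 3-local characterisation of the Harada–Norton group, job C4: `θ(L5)` and `N_H(V)` normalize `R`.
-/
import Cfsg.Agent.Hn3.Defs2

set_option autoImplicit false
set_option synthInstance.maxSize 4096

namespace CL.HN3

open Subgroup Cfsg CL.Grp CL.McL3 CL.McL3.C27 CL.S9R CL.Ast Equiv CL.Even

universe u

namespace C4x

theorem d1 : ∀ (a : Fin 8) (b c : Fin 2) (d : Fin 3) (p : A12), p = P.vv a * P.r ^ b.1 * P.s ^ c.1 * P.y ^ d.1 →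
    (∃ i : Fin 3, p * P.y * p⁻¹ = P.y ^ i.1) → p * P.y = P.y * p ∧ p ^ 6 = 1 ∧ (p ^ 3 = 1 → ∃ i : Fin 3, p = P.y ^ i.1) := by
  rintro a b c d _ rfl
  revert a b c d
  decide +kernel

theorem d2' : (∀ a, P.y * P.vv a = P.vv a * P.y) ∧ (∀ a, ∃ b, P.y' * P.vv a * P.y'⁻¹ = P.vv b) ∧
    (∀ a, ∃ b, P.g * P.vv a * P.g⁻¹ = P.vv b) ∧ (∀ a, ∃ b : Fin 32, P.vv a = P.ν b) ∧ P.vv 1 = P.t ∧ P.vv 2 = P.f1 ∧
    P.vv 4 = P.f2 ∧ P.y ^ 3 ^ 1 = 1 ∧ P.t * P.t = 1 ∧ P.g * P.t * P.g⁻¹ = P.f1 ∧ P.w * P.z' * P.w⁻¹ = P.y'⁻¹ * P.y⁻¹ ∧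
    P.f1 ≠ 1 ∧ P.f1 ≠ P.t ∧ P.f2 ≠ 1 ∧ P.f2 ≠ P.t ∧ P.f2 ≠ P.f1 ∧ P.f2 ≠ P.t * P.f1 ∧ P.ν 0 = 1 := by decide +kernel

theorem d3 : ∀ (c : Fin 32) a, ∃ b, P.ν c * P.vv a * (P.ν c)⁻¹ = P.vv b := by decide +kernel

theorem d4 : (∀ a : Cd, mc a a = 0 ∨ mc a a = 1) ∧ (∀ a : Cd, mc a 1 = mc 1 a) ∧ mc 448 448 = 1 := by decide +kernel

theorem d5 : ∀ (i : Fin 3) (j : Fin 4), (s0 ^ i.1 * k0 ^ j.1) ^ 4 = 1 → s0 ^ i.1 * k0 ^ j.1 = 1 ∨
    s0 ^ i.1 * k0 ^ j.1 = -1 ∨ S25.T3 (s0 ^ i.1 * k0 ^ j.1 * (s0 * (s0 ^ i.1 * k0 ^ j.1) * s0⁻¹)) := by decide +kernel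

theorem ν_mod (a : ℕ) : P.ν (a % 32) = P.ν a := by
  rw [P.ν, P.ν, show a % 32 % 2 = a % 2 by omega, show a % 32 / 2 % 2 = a / 2 % 2 by omega,
    show a % 32 / 4 % 2 = a / 4 % 2 by omega, show a % 32 / 8 % 2 = a / 8 % 2 by omega,
    show a % 32 / 16 % 2 = a / 16 % 2 by omega]

variable {G : Type u} [Group G] [Finite G] {ψ : A12 →* G} {θ : L5 →* G} {k g : G} {R : Subgroup G}

theorem nT3 {φ : L5 →* G} (hi : Function.Injective φ) {B : Subgroup G} (hB : (Nat.card B).Coprime 3)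
    (hs : φ s0 ∈ normalizer (B : Set G)) {b : L5} (hb : φ b ∈ B) : ¬ S25.T3 (b * (s0 * b * s0⁻¹)) := fun h =>
  not_mem_cop hB (a := 2) (g := φ (b * (s0 * b * s0⁻¹))) (fun e => h.1 (hi (by rw [map_pow, e, map_one])))
    (by rw [← map_pow, h.2, map_one]) (by rw [map_mul, map_mul, map_mul, map_inv]; exact mul_mem hb (conj_mem hs hb))

/-- the centralizer of `V` -/
def M (ψ : A12 →* G) : Subgroup G := centralizer (Set.range fun a => ψ (P.vv a))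

omit [Finite G] in
theorem memM : g ∈ M ψ ↔ ∀ a, ψ (P.vv a) * g = g * ψ (P.vv a) := by simp [M, mem_centralizer_iff]

omit [Finite G] in
theorem memM' : g ∈ M ψ ↔ g * ψ P.t = ψ P.t * g ∧ g * ψ P.f1 = ψ P.f1 * g ∧ g * ψ P.f2 = ψ P.f2 * g := by
  obtain ⟨-, -, -, -, e1, e2, e3, -⟩ := d2'
  refine memM.trans ⟨fun h => ⟨e1 ▸ (h 1).symm, e2 ▸ (h 2).symm, e3 ▸ (h 4).symm⟩, fun ⟨h1, h2, h3⟩ a => ?_⟩
  rw [P.vv, map_mul, map_mul, map_pow, map_pow, map_pow]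
  exact ((((show Commute g _ from h1).pow_right _).mul_right ((show Commute g _ from h2).pow_right _)).mul_right
    ((show Commute g _ from h3).pow_right _)).symm

theorem nM (h : ∀ a, ∃ b, g * ψ (P.vv a) * g⁻¹ = ψ (P.vv b)) : g ∈ normalizer (M ψ : Set G) :=
  (inv_mem_iff).1 (mem_normalizer_fintype fun m hm => memM.2 fun a => by
    obtain ⟨b, e⟩ := h a
    calc _ = g⁻¹ * (g * ψ (P.vv a) * g⁻¹ * m) * g := by group
      _ = g⁻¹ * (m * (g * ψ (P.vv a) * g⁻¹)) * g := by rw [e, memM.1 hm b]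
      _ = _ := by group)

theorem nM' {p : A12} (h : ∀ a, ∃ b, p * P.vv a * p⁻¹ = P.vv b) : ψ p ∈ normalizer (M ψ : Set G) :=
  nM fun a => (h a).imp fun b e => by rw [← e, map_mul, map_mul, map_inv]

variable (F : G4 ψ θ k R)
include F

theorem coN {γ : Cd → Cd} (h : Co ψ k g γ) : g ∈ normalizer (R : Set G) :=
  mem_normalizer_fintype fun x hx => by
    obtain ⟨a, rfl⟩ := (F.memR x).1 hx
    exact (F.memR _).2 ⟨_, (h a).symm⟩

omit [Finite G] in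
theorem sq (hg : g ∈ R) : g * g = 1 ∨ g * g = ψ P.t := by
  obtain ⟨a, rfl⟩ := (F.memR g).1 hg
  rw [← F.μmul]
  rcases d4.1 a with e | e <;> rw [e]
  exacts [.inl (μ_vals ψ k).1, .inr (μ_vals ψ k).2.1]

omit [Finite G] in
theorem p4 (hg : g ∈ R) : g ^ 4 = 1 := by
  rw [show 4 = 2 * 2 from rfl, pow_mul, pow_two g]
  rcases sq F hg with e | e <;> rw [e]
  exacts [one_pow _, by rw [pow_two, ← map_mul, d2'.2.2.2.2.2.2.2.2.1, map_one]]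

omit [Finite G] in
theorem νR (a : ℕ) : ψ (P.ν a) ∈ R :=
  (F.memR _).2 ⟨⟨a % 32, by omega⟩, (μ_lt ψ k _ (Nat.mod_lt _ (by decide))).trans (congrArg ψ (ν_mod a))⟩

theorem νR' (a : ℕ) : k * ψ (P.ν a) * k⁻¹ ∈ R := conj_mem (coN F F.cok) (νR F a)

omit [Finite G] in
theorem νM (a : ℕ) : k * ψ (P.ν a) * k⁻¹ ∈ M ψ := memM.2 fun b => by
  obtain ⟨c, e⟩ := d2'.2.2.2.1 b
  rw [e, F.cm]

theorem compl (Y : YF) : ∃ N : Subgroup G, N ≤ M ψ ∧ (Nat.card N).Coprime 3 ∧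
    normalizer (M ψ : Set G) ≤ normalizer (N : Set G) ∧ (∀ x ∈ M ψ, x ^ 4 = 1 → x ∈ N) ∧
    ∀ d ∈ M ψ, ∃ r ∈ N, ∃ v ∈ zpowers (ψ P.y), d = r * v := by
  have := Fact.mk Nat.prime_three
  have y3 : ψ P.y ^ 3 = 1 := by rw [← map_pow, ← map_one ψ]; exact congrArg ψ d2'.2.2.2.2.2.2.2.1
  have key : ∀ n ∈ M ψ, n ∈ normalizer (zpowers (ψ P.y) : Set G) → ∃ p, n = ψ p ∧ p * P.y = P.y * p ∧ p ^ 6 = 1 ∧
      (p ^ 3 = 1 → ∃ i : Fin 3, p = P.y ^ i.1) := fun n hn h => by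
    have h' := conj_mem h (mem_zpowers _)
    obtain ⟨p, rfl⟩ := F.n3 n h'
    obtain ⟨h1, h2, h3⟩ := memM'.1 hn
    simp only [← map_mul, F.inj.eq_iff] at h1 h2 h3
    obtain ⟨a, b, c, d, e⟩ := Y.cv p h1 h2 h3
    obtain ⟨i, hi⟩ := (mem_powers_iff_mem_zpowers.2 h' : _ ∈ Submonoid.powers _)
    refine ⟨p, rfl, d1 a b c d p e ⟨⟨i % 3, Nat.mod_lt _ (by decide)⟩, F.inj ?_⟩⟩
    rw [map_pow, ← pow_eq_pow_mod _ y3, map_mul, map_mul, map_inv]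
    exact hi.symm
  obtain ⟨N, h1, h2, -, h4, h5⟩ := CL.Rec.exists_compl (p := 3) (D := M ψ) (V := zpowers (ψ P.y))
    (zpowers_le.2 (memM.2 fun a => by rw [← map_mul, ← map_mul, d2'.1])) (pg_zp (k := 1) y3)
    (fun n hn h => by
      obtain ⟨p, rfl, e, -⟩ := key n hn h
      rintro _ ⟨i, rfl⟩
      exact ((show Commute (ψ p) (ψ P.y) by rw [Commute, SemiconjBy, ← map_mul, ← map_mul, e]).zpow_right i).symm)
    fun n hn h j e => by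
      obtain ⟨p, rfl, -, e6, e3⟩ := key n hn (cent_le_norm _ h)
      have o1 : orderOf p ∣ 3 ^ j := orderOf_dvd_of_pow_eq_one (F.inj (by rw [map_pow, e, map_one]))
      obtain ⟨i, rfl⟩ := e3 (orderOf_dvd_iff_pow_eq_one.1 (((Nat.Coprime.pow_left j (by decide : Nat.Coprime 3 2)).coprime_dvd_left
        o1).dvd_of_dvd_mul_left (orderOf_dvd_of_pow_eq_one e6 : _ ∣ 2 * 3)))
      exact map_pow ψ _ _ ▸ pow_mem (mem_zpowers _) _
  refine ⟨N, h1, h2, fun g hg => mem_normalizer_fintype fun r hr => h4 _ (conj_mem hg (h1 hr)) ?_, fun x hx e => h4 x hx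
    ((by decide : Nat.Coprime 4 3).coprime_dvd_left (orderOf_dvd_of_pow_eq_one e)), h5⟩
  rw [← MulAut.conj_apply, MulEquiv.orderOf_eq]
  exact h2.coprime_dvd_left (orderOf_dvd_natCard N hr)

theorem two {N : Subgroup G} (h1 : N ≤ centralizer {ψ P.t}) (h2 : (Nat.card N).Coprime 3)
    (hX : zpowers (ψ P.y) ⊔ zpowers (ψ P.y') ≤ normalizer (N : Set G)) : IsPGroup 2 N := by
  have := Fact.mk Nat.prime_three
  refine IsPGroup.of_card (Nat.eq_prime_pow_of_unique_prime_dvd Nat.card_pos.ne' fun {p} hp hd => by_contra fun p2 => ?_)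
  have := Fact.mk hp
  obtain ⟨n, hn⟩ := F.syl.isPGroup.exists_card_eq
  have := F.syl.isPGroup.isNilpotent
  obtain ⟨S, hS, hXS⟩ := exists_isSylowIn_le_normalizer p hX (hn ▸ h2.symm.pow_left n) (.inl inferInstance)
  have k : ∀ x, x ^ 4 = 1 → x ∈ S → x ∈ (⊥ : Subgroup G) := fun x e hx => eq_one_of_coprime_of_mem hS.isPGroup
    ((((Nat.coprime_primes Nat.prime_two hp).2 (Ne.symm p2)).pow_left 2).coprime_dvd_left (orderOf_dvd_of_pow_eq_one e)) hx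
  have := F.genK S ⊥ (h2.coprime_dvd_left (card_dvd_of_le hS.le)) (hXS (mem_sup_left (mem_zpowers _)))
    (hXS (mem_sup_right (mem_zpowers _))) (hS.le.trans h1) (fun a => k _ (p4 F (νR F a))) (fun a => k _ (p4 F (νR' F a)))
    (fun b hb => k _ (by rw [← map_pow, hb, map_one])) fun b hb => k _ (by rw [conj_pow, ← map_pow, hb]; simp)
  exact hS.not_dvd (by rwa [le_bot_iff.1 this, relIndex_bot_left])

theorem key {b : L5} (h1 : θ b ∈ normalizer (R : Set G)) (h2 : θ b ∉ R) (h3 : b ^ 4 = 1)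
    (h4 : ¬ S25.T3 (b * (s0 * b * s0⁻¹))) (c : L5) : θ c ∈ normalizer (R : Set G) := by
  have hs : s0 ∈ (normalizer (R : Set G)).comap θ := by
    rw [mem_comap, F.θs, P.z', map_mul, map_inv]
    exact mul_mem (coN F F.coy') (inv_mem (coN F F.coy))
  have hk : k0 ∈ (normalizer (R : Set G)).comap θ := by rw [mem_comap, F.θk]; exact coN F F.cok
  obtain ⟨i, j, rfl⟩ | ⟨w, -, e⟩ := S25.max0 b
  · rcases d5 i j h3 with e | e | e
    · exact absurd (by rw [e, map_one]; exact one_mem _) h2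
    · exact absurd (by rw [e, F.θt]; exact (F.memR _).2 ⟨1, (μ_vals ψ k).2.1⟩) h2
    · exact absurd e h4
  · exact S25.gen (e ▸ S25.ev_mem h1 hs hk w) hs hk c

theorem main (Y : YF) : (∀ b, θ b ∈ normalizer (R : Set G)) ∧ M ψ ≤ normalizer (R : Set G) := by
  have := Fact.mk Nat.prime_two
  obtain ⟨N, h1, h2, h3, h4, h5⟩ := compl F Y
  obtain ⟨-, c2, c3, -, -, -, -, -, -, c4, c5, c6, c7, -⟩ := d2'
  have yN : ψ P.y ∈ normalizer (N : Set G) :=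
    h3 (le_normalizer (memM.2 fun a => by rw [← map_mul, ← map_mul, d2'.1]))
  have yN' : ψ P.y' ∈ normalizer (N : Set G) := h3 (nM' c2)
  have XN : ∀ {B : Subgroup G}, ψ P.y ∈ B → ψ P.y' ∈ B → zpowers (ψ P.y) ⊔ zpowers (ψ P.y') ≤ B := fun a b =>
    sup_le (zpowers_le.2 a) (zpowers_le.2 b)
  have Nt : N ≤ centralizer {ψ P.t} := fun x hx => mem_centralizer_singleton_iff.2 (memM'.1 (h1 hx)).1
  have Rt : R ≤ centralizer {ψ P.t} := fun x hx => by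
    obtain ⟨a, rfl⟩ := (F.memR x).1 hx
    rw [mem_centralizer_singleton_iff, ← (μ_vals ψ k).2.1, ← F.μmul, ← F.μmul, d4.2.1]
  have RN : R ≤ normalizer (N : Set G) := fun x hx => by
    obtain ⟨a, rfl⟩ := (F.memR x).1 hx
    exact h3 (mul_mem (nM' (d3 ⟨_, Nat.mod_lt _ (by decide)⟩)) (le_normalizer (νM F _)))
  have T2 : IsPGroup 2 (R ⊔ N : Subgroup G) :=
    (isPGroup_iff_forall.2 fun x hx => ⟨2, p4 F hx⟩).to_sup_of_normal_right' (two F Nt h2 (XN yN yN')) RN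
  have XR := XN (coN F F.coy) (coN F F.coy')
  obtain ⟨x, x1, x2, x3⟩ := CL.Inv.exists_mem_normalizer_of_lt_pgroup T2 (lt_of_le_of_ne le_sup_left fun e => by
    have e1 : k * ψ (P.ν 28) * k⁻¹ = μ ψ k 448 := by
      show _ = ψ (P.ν 0) * _
      rw [d2'.2.2.2.2.2.2.2.2.2.2.2.2.2.2.2.2.2, map_one, one_mul]; rfl
    have e2 := sq F (e.ge (mem_sup_right (conj_mem (h3 (nM' c3)) (h4 _ (νM F 28) (p4 F (νR' F 28))))))
    rw [conj_mul, e1, ← F.μmul, d4.2.2, (μ_vals ψ k).2.1, ← map_inv, ← map_mul, ← map_mul, c4, ← map_one ψ,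
      F.inj.eq_iff, F.inj.eq_iff] at e2
    exact e2.elim c6 c7)
  have XT := le_norm_inf (le_norm_sup XR (XN yN yN')) (le_norm_of_le XR)
  have T3 : (Nat.card ((R ⊔ N) ⊓ normalizer (R : Set G) : Subgroup G)).Coprime 3 := by
    obtain ⟨n, hn⟩ := (T2.to_inf_left (K := normalizer (R : Set G))).exists_card_eq
    exact hn ▸ Nat.Coprime.pow_left n (by decide)
  have y1 := XT (mem_sup_left (mem_zpowers _))
  have y2 := XT (mem_sup_right (mem_zpowers _))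
  have wN := coN F F.cow
  have hθ : ∀ b, θ b ∈ normalizer (R : Set G) := by
    by_contra hn
    refine x2 (F.genK _ R T3 y1 y2 (inf_le_left.trans (sup_le Rt Nt)) (fun a _ => νR F a) (fun a _ => νR' F a)
      (fun b hb h => by_contra fun h' => hn (key F h.2 h' hb (nT3 F.θinj T3 ?_ h)))
      (fun b hb h => by_contra fun h' => hn (key F ?_ (fun e => h' (conj_mem wN e)) hb
        (nT3 (φ := (MulAut.conj (ψ P.w)).toMonoidHom.comp θ) ((MulAut.conj _).injective.comp F.θinj) T3 ?_ h))) ⟨x1, x3⟩)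
    · rw [F.θs, P.z', map_mul, map_inv]
      exact mul_mem y2 (inv_mem y1)
    · exact (mul_mem_cancel_left wN).1 ((mul_mem_cancel_right (inv_mem wN)).1 h.2)
    · show ψ P.w * θ s0 * (ψ P.w)⁻¹ ∈ _
      rw [F.θs, ← map_inv, ← map_mul, ← map_mul, c5, map_mul, map_inv, map_inv]
      exact mul_mem (inv_mem y2) (inv_mem y1)
  refine ⟨hθ, fun d hd => ?_⟩
  obtain ⟨r, hr, v, hv, rfl⟩ := h5 d hd
  exact mul_mem (F.genK N _ h2 yN yN' Nt (fun a _ => le_normalizer (νR F a)) (fun a _ => le_normalizer (νR' F a))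
    (fun b _ _ => hθ b) (fun b _ _ => mul_mem (mul_mem wN (hθ b)) (inv_mem wN)) hr) (zpowers_le.2 (coN F F.coy) hv)

end C4x

open C4x in
theorem c4Thm : C4Thm.{u} := by
  intro Y G _ _ ψ θ k R F
  obtain ⟨h1, h2⟩ := main F Y
  refine ⟨F, h1, fun g ht h => ?_⟩
  obtain ⟨-, -, -, -, e1, e2, e3, -, -, -, -, c1, c2, c3, c4, c5, c6, -⟩ := d2'
  obtain ⟨b, hb⟩ := h 2
  obtain ⟨c, hc⟩ := h 4
  rw [e2] at hb
  rw [e3] at hc
  have ha : g * ψ P.t * g⁻¹ = ψ (P.vv 1) := by rw [ht, mul_inv_cancel_right, e1]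
  have k1 : ∀ {x x' y y' : A12}, g * ψ x * g⁻¹ = ψ y → g * ψ x' * g⁻¹ = ψ y' → x ≠ x' → y ≠ y' := fun a b n e =>
    n (F.inj ((MulAut.conj g).injective (a.trans (e ▸ b.symm))))
  have h0 : g * ψ 1 * g⁻¹ = ψ 1 := by simp
  obtain ⟨p, -, p1, p2, p3⟩ := Y.gl 1 b c (by decide) (k1 hb h0 c1) (k1 hb ha c2) (k1 hc h0 c3) (k1 hc ha c4)
    (k1 hc hb c5) (k1 hc (by rw [map_mul, ← conj_mul, ha, hb, map_mul]) c6)
  have k2 : ∀ {x y : A12}, g * ψ x * g⁻¹ = ψ y → p * x * p⁻¹ = y → (ψ p)⁻¹ * g * ψ x = ψ x * ((ψ p)⁻¹ * g) := fun a b => by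
    rw [← b, map_mul, map_mul, map_inv, mul_inv_eq_iff_eq_mul] at a
    rw [mul_assoc, a]; group
  refine (mul_mem_cancel_left (inv_mem ?_)).1 (h2 (memM'.2 ⟨k2 ha p1, k2 hb p2, k2 hc p3⟩))
  obtain ⟨-, -, m1, m2, m3, m4⟩ := μ_vals ψ k
  have m : ∀ {x}, (∃ a, μ ψ k a = x) → x ∈ normalizer (R : Set G) := fun h => le_normalizer ((F.memR _).2 h)
  refine (closure_le (K := (normalizer (R : Set G)).comap ψ)).2 ?_ (Y.ct p (mul_inv_eq_iff_eq_mul.1 (p1.trans e1)))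
  simp only [Set.insert_subset_iff, Set.singleton_subset_iff, SetLike.mem_coe, mem_comap]
  exact ⟨m ⟨_, m1⟩, m ⟨_, m2⟩, m ⟨_, m3⟩, m ⟨_, m4⟩, m ⟨_, F.toG3.μ_rs.1⟩, m ⟨_, F.toG3.μ_rs.2⟩, coN F F.coy, coN F F.coy',
    coN F F.cow, coN F F.coσ⟩

end CL.HN3
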