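/-
The 3-local characterisation of the Harada–Norton group: the action of `θ a0` on the codes.
-/
import Cfsg.Agent.Hn3.Defs2
import Cfsg.Agent.Spor.GolayMask

set_option autoImplicit false
set_option synthInstance.maxSize 4096
set_option maxRecDepth 100000

namespace CL.HN3

open Subgroup Cfsg CL.Grp CL.McL3 CL.McL3.C27 CL.S9R CL.Ast Equiv

universe u

namespace C5x

def Z : Cd → Cd := app [4, 6, 16, 24, 64, 96, 256, 384]
def Z' : Cd → Cd := app [4, 6, 16, 24, 96, 32, 384, 128]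
def K' : Cd → Cd := app [32, 96, 353, 193, 2, 6, 23, 13]
def A2 : Cd → Cd := app [258, 388, 392, 144, 45, 87, 128, 256]

/-- the sixteen codes of `W₀` -/
def wv (x : Fin 16) : Cd :=
  Fin.ofNat 512 ([0, 34, 70, 100, 151, 180, 209, 242, 269, 302, 330, 361, 411, 441, 476, 510].getD x.1 0)

def xr (x y : Fin 16) : Fin 16 := Fin.ofNat 16 (Nat.xor x.1 y.1)

/-- the linear map with the given images of the basis -/
def lin (a b c d x : Fin 16) : Fin 16 :=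
  xr (xr (cond (Nat.beq (Nat.land x.1 1) 1) a 0) (cond (Nat.beq (Nat.land x.1 2) 2) b 0))
    (xr (cond (Nat.beq (Nat.land x.1 4) 4) c 0) (cond (Nat.beq (Nat.land x.1 8) 8) d 0))

/-- a map given by a table -/
def tb (T : ℕ) (x : Fin 16) : Fin 16 := Fin.ofNat 16 (Nat.shiftRight T (Nat.mul 4 x.1))

instance (priority := high) fastAll {n : ℕ} [NeZero n] (p : Fin n → Prop) [DecidablePred p] : Decidable (∀ i, p i) :=
  decidable_of_iff (CL.Spor.allBelow (fun k => decide (p (Fin.ofNat n k))) n = true) (by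
    rw [CL.Spor.allBelow_iff]
    refine ⟨fun h i => ?_, fun h k _ => decide_eq_true (h _)⟩
    simpa using h i.1 i.2)

def gens (a b c d : Fin 16) : List Cd := [wv a, wv b, wv c, wv d, Z (wv a), Z (wv b), Z (wv c), Z (wv d)]

def cand (a b c d : Fin 16) : List Cd := [36, 98, 378, 214, 38, 66, 152, 264].map (app ((gens a b c d).map Fin.val))

theorem eZ : (∀ a, M.y' (M.y a) = Z a) ∧ (∀ a, M.y' (M.y⁻¹ a) = Z' a) ∧ (∀ a, M.w (M.k (M.w⁻¹ a)) = K' a) ∧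
    ∀ a, A2 (Z' (M.k (A2 a))) = M.a a := by decide +kernel

theorem w0 : ∀ a, mc (mc a (Z a)) (Z (Z a)) = 0 ∧ K' a = a ↔ ∃ x, a = wv x := by decide +kernel

theorem w1 : ∀ x y, (mc (wv x) (wv y) = wv (xr x y) ∨ mc (wv x) (wv y) = mc (wv (xr x y)) 1) ∧
    (mc (wv x) (wv y)).1 / 2 = (wv (xr x y)).1 / 2 ∧ (mc (wv x) 1).1 / 2 = (wv x).1 / 2 ∧
    ((wv x).1 / 2 = (wv y).1 / 2 → x = y) := by decide +kernel

theorem w2 : ∀ x, Z' (wv x) = wv (tb 0xa9b86574edfc2130 x) ∧ Z' (M.k (wv x)) = wv (tb 0xa98bcfed74561230 x) ∧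
    lin 1 2 4 8 x = x := by decide +kernel

theorem sol : ∀ a b c d : Fin 16, lin a b c d a = 1 → lin a b c d b = 2 → lin a b c d c = 4 → lin a b c d d = 8 →
    (∀ x, lin a b c d (tb 0xa9b86574edfc2130 (lin a b c d (tb 0xa9b86574edfc2130
      (lin a b c d (tb 0xa9b86574edfc2130 x))))) = x) →
    (∀ x, lin a b c d (tb 0xa98bcfed74561230 (lin a b c d (tb 0xa98bcfed74561230
      (lin a b c d (tb 0xa98bcfed74561230 x))))) = x) →
    a = 10 ∧ b = 4 ∧ c = 2 ∧ d = 5 ∨ a = 9 ∧ b = 6 ∧ c = 4 ∧ d = 8 := by decide +kernel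

theorem cands : (cand 1 2 4 8).map Fin.val = [2, 4, 8, 16, 32, 64, 128, 256] ∧
    (cand 10 4 2 5).map Fin.val = [355, 421, 8, 16, 40, 80, 144, 280] ∧
    (cand 9 6 4 8).map Fin.val = [258, 388, 392, 144, 45, 87, 128, 256] ∧
    ∀ a, app [2, 4, 8, 16, 32, 64, 128, 256] a = a := by decide +kernel

theorem mc_val (a b : Cd) : (mc a b).1 = mcN a b := Nat.mod_eq_of_lt
  (Nat.xor_lt_two_pow (n := 9) (Nat.xor_lt_two_pow a.2 b.2) (lt_trans (Nat.mod_lt _ two_pos) (by norm_num)))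

variable {γ : Cd → Cd} (hm : ∀ a b, γ (mc a b) = mc (γ a) (γ b))
include hm

theorem map_appN : ∀ (l : List Cd) (a : ℕ) (x : Cd), γ (Fin.ofNat 512 (appN (l.map Fin.val) a x.1)) =
    Fin.ofNat 512 (appN ((l.map γ).map Fin.val) a (γ x).1)
  | [], _, x => by simp [appN]
  | c :: l, a, x => by
    simp only [List.map_cons, appN]
    split_ifs
    · rw [← mc_val, ← mc_val, ← hm, map_appN l]
    · exact map_appN l _ x

theorem map_app (h0 : γ 0 = 0) (h1 : γ 1 = 1) (l : List Cd) (a : Cd) :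
    γ (app (l.map Fin.val) a) = app ((l.map γ).map Fin.val) a := by
  rcases Nat.mod_two_eq_zero_or_one a.1 with e | e <;> rw [app, app, e]
  · exact (map_appN hm l (a.1 / 2) 0).trans (by rw [h0]; rfl)
  · exact (map_appN hm l (a.1 / 2) 1).trans (by rw [h1]; rfl)

theorem main (h0 : γ 0 = 0) (h1 : γ 1 = 1) (hZ : ∀ a, γ (Z a) = Z (γ a)) (hK : ∀ a, γ (K' a) = K' (γ a))
    (h2 : ∀ a, γ (γ a) = a) (h3 : ∀ a, γ (Z' (γ (Z' (γ (Z' a))))) = a)
    (h4 : ∀ a, γ (Z' (M.k (γ (Z' (M.k (γ (Z' (M.k a)))))))) = a) : (∀ a, γ a = M.a a) ∨ ∀ a, γ a = A2 a := by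
  have k0 : ∀ x, ∃ y, γ (wv x) = wv y := fun x => by
    obtain ⟨e1, e2⟩ := (w0 _).2 ⟨x, rfl⟩
    exact (w0 _).1 ⟨by rw [← hZ, ← hZ, ← hm, ← hm, e1, h0], by rw [← hK, e2]⟩
  choose N hN using k0
  have inj : ∀ {x y}, wv x = wv y → x = y := fun e => (w1 _ _).2.2.2 (by rw [e])
  have n0 : N 0 = 0 := inj ((hN 0).symm.trans h0)
  have n1 : ∀ x y, N (xr x y) = xr (N x) (N y) := fun x y => (w1 _ _).2.2.2 (by
    rw [← (w1 (N x) (N y)).2.1, ← hN x, ← hN y, ← hm]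
    rcases (w1 x y).1 with e | e <;> rw [e]
    · rw [hN]
    · rw [hm, hN, h1, (w1 _ 0).2.2.1])
  have n2 : ∀ (b : Bool) (a), N (cond b a 0) = cond b (N a) 0 := fun b a => by cases b <;> simp [n0]
  have n3 : ∀ x, γ (wv x) = wv (lin (N 1) (N 2) (N 4) (N 8) x) := fun x => by
    rw [hN]
    conv_lhs => rw [← (w2 x).2.2]
    simp only [lin, n1, n2]
  have e : ∀ a, γ a = app ((cand (N 1) (N 2) (N 4) (N 8)).map Fin.val) a := fun a => by
    conv_lhs => rw [← cands.2.2.2 a, ← cands.1, map_app hm h0 h1, cand, List.map_map (g := γ)]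
    have : γ ∘ app ((gens 1 2 4 8).map Fin.val) = app ((gens (N 1) (N 2) (N 4) (N 8)).map Fin.val) := funext fun c => by
      rw [Function.comp, map_app hm h0 h1]
      simp only [gens, List.map_cons, List.map_nil, hZ, hN]
    rw [this, cand]
  have n4 : ∀ x, lin (N 1) (N 2) (N 4) (N 8) (N x) = x := fun x => inj (by rw [← n3, ← hN, h2])
  rcases sol (N 1) (N 2) (N 4) (N 8) (n4 1) (n4 2) (n4 4) (n4 8)
    (fun x => inj (by simp only [← n3, ← (w2 _).1, h3])) (fun x => inj (by simp only [← n3, ← (w2 _).2.1, h4])) with ⟨e1, e2, e3, e4⟩ | ⟨e1, e2, e3, e4⟩ <;>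
    rw [e1, e2, e3, e4] at e
  · exact .inl fun a => by rw [e, cands.2.1]; rfl
  · exact .inr fun a => by rw [e, cands.2.2.1]; rfl

end C5x

open C5x in
theorem c5Thm : C5Thm.{u} := by
  intro G _ _ ψ θ k R F
  refine ⟨F, ?_⟩
  choose γ hγ using fun a => (F.memR _).1 ((mem_normalizer_iff.1 (F.θN a0) _).1 ((F.memR _).2 ⟨a, rfl⟩))
  have cA : Co ψ k (θ a0) γ := fun a => (hγ a).symm
  obtain ⟨m0, m1, -⟩ := μ_vals ψ k
  have cZ : Co ψ k (ψ P.z) Z := by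
    rw [P.z, map_mul]
    exact (F.coy'.mul F.coy).congr eZ.1
  have cZ' : Co ψ k (θ s0) Z' := by
    rw [F.θs, P.z', map_mul, map_inv]
    exact (F.coy'.mul F.coy.pinv).congr eZ.2.1
  have cK : Co ψ k (θ k0) M.k := F.θk.symm ▸ F.cok
  have cK' : Co ψ k (ψ P.w * k * (ψ P.w)⁻¹) K' := ((F.cow.mul F.cok).mul F.cow.pinv).congr eZ.2.2.1
  have ct : Co ψ k (ψ P.t) id := (m1 ▸ F.coμ 1 :).congr (by decide +kernel)
  obtain ⟨-, -, -, -, r1, r2, r3, -⟩ := S25.rel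
  have p3 : ∀ b : L5, b ^ 3 = 1 → θ b * (θ b * θ b) = 1 := fun b e => by
    rw [← map_mul, ← map_mul, ← pow_three, e, map_one]
  rcases main (γ := γ) (fun a b => F.μinj (by rw [← cA, F.μmul, F.μmul, ← cA, ← cA, conj_mul]))
    (F.μinj (by rw [← cA, m0, mul_one, mul_inv_cancel])) (F.μinj (by rw [← cA, m1, F.θ_t, mul_inv_cancel_right]))
    ((cA.mul cZ).uniq F.μinj (F.θz a0 ▸ cZ.mul cA)) ((cA.mul cK').uniq F.μinj (F.kp a0 ▸ cK'.mul cA))
    ((cA.mul cA).uniq F.μinj (by rwa [← map_mul, r1, F.θt]))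
    (((cA.mul cZ').mul ((cA.mul cZ').mul (cA.mul cZ'))).uniq F.μinj (by
      rw [← map_mul, p3 _ r2]; exact Co.one ψ k))
    ((((cA.mul cZ').mul cK).mul (((cA.mul cZ').mul cK).mul ((cA.mul cZ').mul cK))).uniq F.μinj (by
      rw [← map_mul, ← map_mul, p3 _ r3]; exact Co.one ψ k)) with e | e
  · exact ⟨_, cA.congr e⟩
  · exact ⟨_, ((cA.congr e).mul (cZ'.mul (cK.mul (cA.congr e)))).congr eZ.2.2.2⟩

end CL.HN3
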