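/-
The 3-local characterisation of the Harada–Norton group: the normalizer of the extraspecial group of order 512.
-/
import Cfsg.Agent.Hn3.Defs2

set_option autoImplicit false
set_option synthInstance.maxSize 4096
set_option linter.unusedSectionVars false

namespace CL.HN3

open Subgroup Cfsg CL.Grp CL.McL3 CL.McL3.C27 CL.S9R CL.Ast Equiv

universe u

namespace C6x

theorem inn1 : ∀ a, inn 1 a = a := by decide +kernel
theorem fl_eq : ∀ a, fl a = mc a 1 := by decide +kernel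
theorem sq0 : ∀ a, mc a a = 0 → a = 0 ∨ a = 1 ∨ isA a ∨ isB a := by decide +kernel
theorem pow4 : ∀ a, mc (mc a a) (mc a a) = 0 := by decide +kernel
/-- the highest generator occurring in a code -/
def hb (a : Cd) : Cd := if a.1 < 4 then 2 else if a.1 < 8 then 4 else if a.1 < 16 then 8 else if a.1 < 32 then 16 else
  if a.1 < 64 then 32 else if a.1 < 128 then 64 else if a.1 < 256 then 128 else 256
theorem step : ∀ a : Cd, a = 0 ∨ a = 1 ∨ (mc a (hb a)).1 < a.1 ∧ mc (mc a (hb a)) (hb a) = a := by decide +kernel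

theorem gen {p : Cd → Prop} (h0 : p 0) (h1 : p 1) (hm : ∀ a b, p a → p b → p (mc a b))
    (hA : ∀ a, isA a → isA (fl a) → p a) (a : Cd) : p a := by
  have k : ∀ a b c, isA a ∧ isA (fl a) ∧ isA b ∧ isA (fl b) ∧ mc a b = c → p c := fun a b c ⟨k1, k2, k3, k4, e⟩ =>
    e ▸ hm a b (hA a k1 k2) (hA b k3 k4)
  have k' : ∀ a, p (hb a) := fun a => by
    unfold hb
    split_ifs
    exacts [hA _ (by decide +kernel) (by decide +kernel), hA _ (by decide +kernel) (by decide +kernel),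
      k 32 40 _ (by decide +kernel), k 32 48 _ (by decide +kernel), hA _ (by decide +kernel) (by decide +kernel),
      hA _ (by decide +kernel) (by decide +kernel), k 2 130 _ (by decide +kernel), k 2 258 _ (by decide +kernel)]
  induction a using WellFoundedLT.induction with
  | ind a ih =>
    rcases step a with rfl | rfl | ⟨e1, e2⟩
    exacts [h0, h1, e2 ▸ hm _ _ (ih _ e1) (k' a)]

variable {G : Type u} [Group G] [Finite G] {ψ : A12 →* G} {θ : L5 →* G} {k : G} {R : Subgroup G}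

section
variable (F : G4 ψ θ k R)
include F

theorem μR (a : Cd) : μ ψ k a ∈ R := (F.memR _).2 ⟨a, rfl⟩

theorem exC : ∃ c : normalizer (R : Set G) →* Perm Cd, ∀ g : normalizer (R : Set G), Co ψ k g.1 (c g) := by
  let e : Cd ≃ R := Equiv.ofBijective (fun a => ⟨μ ψ k a, μR F a⟩)
    ⟨fun a b h => F.μinj (congrArg Subtype.val h), fun x => ((F.memR _).1 x.2).imp fun _ => Subtype.ext⟩
  refine ⟨e.symm.permCongrHom.toMonoidHom.comp ((MulAut.toPerm R).comp R.normalizerMonoidHom), fun g a => ?_⟩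
  exact (congrArg Subtype.val (e.apply_symm_apply (R.normalizerMonoidHom g (e a)))).symm

theorem memN {g : G} {γ : Cd → Cd} (h : Co ψ k g γ) : g ∈ normalizer (R : Set G) := mem_normalizer_fintype fun n hn => by
  obtain ⟨a, rfl⟩ := (F.memR n).1 hn
  exact h a ▸ μR F _

theorem exCo {g : G} (h : g ∈ normalizer (R : Set G)) : ∃ γ : Perm Cd, Co ψ k g γ := (exC F).elim fun _ e => ⟨_, e ⟨g, h⟩⟩

theorem ker {g h : G} {γ : Perm Cd} (h1 : Co ψ k g γ) (h2 : Co ψ k h γ) : g = h ∨ g = h * ψ P.t := by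
  rcases F.cR _ ((h2.pinv.pmul h1).congr fun a => by simp) with e | e
  · exact .inl (inv_mul_eq_one.1 e).symm
  · exact .inr (by rw [← e]; group)

theorem cot : Co ψ k (ψ P.t) id := (μ_vals ψ k).2.1 ▸ (F.coμ 1).congr inn1

theorem tt : ψ P.t * ψ P.t = 1 := by rw [← map_mul, show P.t * P.t = 1 by decide +kernel, map_one]

theorem t1 : ψ P.t ≠ 1 := fun e => absurd (F.inj (e.trans (map_one ψ).symm)) (by decide +kernel)

theorem ct {g : G} (h : g ∈ normalizer (R : Set G)) : g * ψ P.t = ψ P.t * g := by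
  obtain ⟨γ, h1⟩ := exCo F h
  rcases F.cR _ (((h1.mul (cot F)).mul h1.pinv).congr fun a => by simp) with e | e
  · exact (t1 F (conj_eq_one_iff.1 e)).elim
  · exact mul_inv_eq_iff_eq_mul.1 e

theorem cjr {p : A12} (h : IsConj P.r p) : IsConj (ψ P.r) (ψ p) := ψ.map_isConj h

theorem ncj {p : A12} (h : IsConj P.t p) : ¬ IsConj (ψ P.r) (ψ p) := fun e => F.nc2 ((ψ.map_isConj h).trans e.symm)

theorem sqr {g : G} (h : IsConj (ψ P.r) g) : g * g = 1 := by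
  obtain ⟨n, rfl⟩ := isConj_iff.1 h
  rw [conj_mul, ← map_mul, show P.r * P.r = 1 by decide +kernel, map_one]; group

theorem ten (Y : YF) (M : MF) {p : A12} (h : p * P.t = P.t * p) : ∃ γ ∈ Γ, Co ψ k (ψ p) γ := by
  obtain ⟨-, -, v2, v4, v8, v16⟩ := μ_vals ψ k
  obtain ⟨v32, v64⟩ := F.toG3.μ_rs
  have hp := Y.ct p h
  clear h
  induction hp using closure_induction with
  | mem x hx =>
    rcases hx with rfl | rfl | rfl | rfl | rfl | rfl | rfl | rfl | rfl | rfl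
    exacts [⟨_, M.inn_mem 2, v2 ▸ F.coμ 2⟩, ⟨_, M.inn_mem 4, v4 ▸ F.coμ 4⟩, ⟨_, M.inn_mem 8, v8 ▸ F.coμ 8⟩,
      ⟨_, M.inn_mem 16, v16 ▸ F.coμ 16⟩, ⟨_, M.inn_mem 32, v32 ▸ F.coμ 32⟩, ⟨_, M.inn_mem 64, v64 ▸ F.coμ 64⟩,
      ⟨_, subset_closure (by simp), F.coy⟩, ⟨_, subset_closure (by simp), F.coy'⟩, ⟨_, subset_closure (by simp), F.cow⟩,
      ⟨_, M.σ_mem, F.coσ⟩]
  | one => exact ⟨1, one_mem _, map_one ψ ▸ Co.one ψ k⟩
  | mul x y _ _ h1 h2 =>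
    obtain ⟨a, a1, a2⟩ := h1
    obtain ⟨b, b1, b2⟩ := h2
    exact ⟨a * b, mul_mem a1 b1, map_mul ψ x y ▸ a2.pmul b2⟩
  | inv x _ h1 =>
    obtain ⟨a, a1, a2⟩ := h1
    exact ⟨a⁻¹, inv_mem a1, map_inv ψ x ▸ a2.pinv⟩

theorem fix2 (Y : YF) (M : MF) {g : G} {γ : Perm Cd} (h : Co ψ k g γ) (h1 : γ 32 = 32) (h2 : γ 64 = 64) : γ ∈ Γ := by
  obtain ⟨p, rfl⟩ := F.cU g (F.toG3.μ_rs.1 ▸ h.comm h1) (F.toG3.μ_rs.2 ▸ h.comm h2)
  obtain ⟨δ, a1, a2⟩ := ten F Y M (p := p) (F.inj (by rw [map_mul, map_mul, ct F (memN F h)]))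
  rwa [show γ = δ from Equiv.ext (h.uniq F.μinj a2)]

end

variable (F : G6 ψ θ k R)
include F

omit [Finite G] in
theorem lift {γ : Perm Cd} (h : γ ∈ Γ) : ∃ g, Co ψ k g γ := by
  induction h using closure_induction with
  | mem x hx =>
    rcases hx with rfl | rfl | rfl | rfl | rfl
    exacts [⟨_, F.coy⟩, ⟨_, F.coy'⟩, ⟨_, F.cow⟩, ⟨_, F.cok⟩, F.coa]
  | one => exact ⟨1, Co.one ψ k⟩
  | mul x y _ _ h1 h2 => exact h1.elim fun _ a => h2.elim fun _ b => ⟨_, a.pmul b⟩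
  | inv x _ h1 => exact h1.elim fun _ a => ⟨_, a.pinv⟩

variable (M : MF)
include M

theorem clB (a : Cd) (h : isB a) : IsConj (ψ P.t) (μ ψ k a) := by
  obtain ⟨γ, h1, rfl⟩ := M.orbB a h
  obtain ⟨g, h2⟩ := lift F h1
  exact (ψ.map_isConj cj_t_f1).trans (isConj_iff.2 ⟨g, (μ_vals ψ k).2.2.2.2.1 ▸ h2 8⟩)

theorem clA (a : Cd) : IsConj (ψ P.r) (μ ψ k a) ↔ isA a := by
  refine ⟨fun h => ?_, fun h => ?_⟩
  · rcases sq0 a (F.μinj (by rw [F.μmul, sqr F.toG4 h, (μ_vals ψ k).1])) with rfl | rfl | e | e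
    · rw [(μ_vals ψ k).1, isConj_one_left] at h
      exact absurd (F.inj (h.trans (map_one ψ).symm)) (by decide +kernel)
    · exact (ncj F.toG4 (IsConj.refl _) ((μ_vals ψ k).2.1 ▸ h)).elim
    · exact e
    · exact (F.nc2 ((clB F M a e).trans h.symm)).elim
  · obtain ⟨γ, h1, rfl⟩ := M.orbA a h
    obtain ⟨g, h2⟩ := lift F h1
    exact isConj_iff.2 ⟨g, F.toG3.μ_rs.1 ▸ h2 32⟩

theorem fix1 (Y : YF) {g : G} {γ : Perm Cd} (h : Co ψ k g γ) (h1 : γ 32 = 32) : γ ∈ Γ := by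
  obtain ⟨v32, v64⟩ := F.toG3.μ_rs
  obtain ⟨δ, a1, a2, a3⟩ := M.pair (γ 64)
    ((clA F M _).1 ((cjr F.toG4 cj_r_s).trans (isConj_iff.2 ⟨g, v64 ▸ h 64⟩)))
    ((clA F M _).1 ((cjr F.toG4 cj_r_rs).trans (isConj_iff.2 ⟨g, by
      rw [F.μmul, ← h 64, ← h1, ← h 32, map_mul, v32, v64, conj_mul]⟩)))
  obtain ⟨n, a4⟩ := lift F a1
  simpa using mul_mem a1 (fix2 F.toG4 Y M (a4.pinv.pmul h) (by rw [Perm.mul_apply, h1, Perm.inv_eq_iff_eq, a2])
    (by rw [Perm.mul_apply, Perm.inv_eq_iff_eq, a3]))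

theorem memΓ (Y : YF) {g : G} {γ : Perm Cd} (h : Co ψ k g γ) : γ ∈ Γ := by
  obtain ⟨δ, a1, a2⟩ := M.orbA (γ 32) ((clA F M _).1 (isConj_iff.2 ⟨g, F.toG3.μ_rs.1 ▸ h 32⟩))
  obtain ⟨n, a4⟩ := lift F a1
  simpa using mul_mem a1 (fix1 F M Y (a4.pinv.pmul h) (by rw [Perm.mul_apply, Perm.inv_eq_iff_eq, a2]))

theorem cls (Y : YF) (g : G) (hg : g ∈ normalizer (R : Set G)) (h2 : g * g = 1 ∨ g * g = ψ P.t) :
    g ∈ R ∨ ∃ n ∈ normalizer (R : Set G),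
      ∃ x ∈ [k, k * ψ P.t, ψ P.i, ψ (P.i * P.t), ψ P.σ, ψ (P.σ * P.t)], n * g * n⁻¹ = x := by
  obtain ⟨γ, h1⟩ := exCo F.toG4 hg
  have h3 : γ * γ = 1 := Equiv.ext ((h1.pmul h1).uniq F.μinj (γ' := id) (by
    rcases h2 with e | e <;> rw [e]
    exacts [Co.one ψ k, cot F.toG4]))
  rcases M.cls γ (memΓ F M Y h1) h3 with ⟨a, rfl⟩ | ⟨δ, a1, a2⟩
  · rcases ker F.toG4 h1 (F.coμ a) with rfl | rfl
    exacts [.inl (μR F.toG4 a), .inl (mul_mem (μR F.toG4 a) ((μ_vals ψ k).2.1 ▸ μR F.toG4 1))]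
  obtain ⟨n, a4⟩ := lift F a1
  have a5 := (a4.pmul h1).pmul a4.pinv
  refine .inr ⟨n, memN F.toG4 a4, _, ?_, rfl⟩
  rcases a2 with e | e | e <;> rw [e] at a5
  · rcases ker F.toG4 a5 F.cok with e | e <;> simp [e]
  · rcases ker F.toG4 a5 F.coi with e | e <;> simp [e]
  · rcases ker F.toG4 a5 F.coσ with e | e <;> simp [e]

theorem inR (Y : YF) (g : G) (hg : g ∈ normalizer (R : Set G)) (h1 : IsConj (ψ P.r) g)
    (h2 : IsConj (ψ P.r) (g * ψ P.t)) : g ∈ R := by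
  refine (cls F M Y g hg (.inl (sqr F.toG4 h1))).resolve_right ?_
  rintro ⟨n, hn, x, hx, e⟩
  have a1 : IsConj (ψ P.r) x := h1.trans (isConj_iff.2 ⟨n, e⟩)
  have a2 : IsConj (ψ P.r) (x * ψ P.t) := h2.trans (isConj_iff.2 ⟨n, by
    rw [← e, ← conj_mul, ct F.toG4 hn, mul_inv_cancel_right]⟩)
  simp only [List.mem_cons, List.not_mem_nil, or_false] at hx
  rcases hx with rfl | rfl | rfl | rfl | rfl | rfl
  · exact t1 F.toG4 (F.toGY.kk.symm.trans (sqr F.toG4 a1))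
  · rw [mul_assoc, tt F.toG4, mul_one] at a2
    exact t1 F.toG4 (F.toGY.kk.symm.trans (sqr F.toG4 a2))
  · exact ncj F.toG4 cj_t_i a1
  · exact ncj F.toG4 cj_t_it a1
  · exact ncj F.toG4 cj_t_σt (map_mul ψ _ _ ▸ a2)
  · exact ncj F.toG4 cj_t_σt a1

theorem odd (Y : YF) : ¬ 2 ∣ (normalizer (R : Set G)).relIndex (centralizer {ψ P.t}) := by
  have hR : IsPGroup 2 R := fun x => ⟨2, Subtype.ext (by
    obtain ⟨a, e⟩ := (F.memR _).1 x.2
    change x.1 ^ (2 * 2) = 1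
    rw [pow_mul, pow_two, pow_two, ← e, ← F.μmul, ← F.μmul, pow4, (μ_vals ψ k).1])⟩
  obtain ⟨T, h1, h2⟩ := exists_isSylowIn_ge hR (le_normalizer (H := R))
  have h3 : normalizer (R : Set G) ≤ centralizer {ψ P.t} := fun g hg => mem_centralizer_singleton_iff.2 (ct F.toG4 hg)
  refine (CL.Rec.isSylowIn_of_loc (h1.le.trans h3) h1.isPGroup fun n hn hN j hj =>
    mem_syl h1 ?_ hN hj).not_dvd_relIndex_of_le h1.le h3
  have h4 : n * ψ P.t * n⁻¹ = ψ P.t := mul_inv_eq_iff_eq_mul.2 (mem_centralizer_singleton_iff.1 hn)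
  refine mem_normalizer_fintype fun x hx => ?_
  obtain ⟨a, rfl⟩ := (F.memR x).1 hx
  refine gen (p := fun a => n * μ ψ k a * n⁻¹ ∈ R) (by simp [(μ_vals ψ k).1])
    (by rw [(μ_vals ψ k).2.1, h4, ← (μ_vals ψ k).2.1]; exact μR F.toG4 1)
    (fun a b k1 k2 => by rw [F.μmul, ← conj_mul]; exact mul_mem k1 k2) (fun a k1 k2 => ?_) a
  exact inR F M Y _ (h1.le ((mem_normalizer_iff.1 hN _).1 (h2 (μR F.toG4 a))))
    (((clA F M a).2 k1).trans (isConj_iff.2 ⟨n, rfl⟩)) (((clA F M _).2 k2).trans (isConj_iff.2 ⟨n, by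
      rw [fl_eq, F.μmul, (μ_vals ψ k).2.1, ← conj_mul, h4]⟩))

end C6x

open C6x in
theorem c6Thm : C6Thm.{u} := fun Y M G _ _ ψ θ k R F => by
  obtain ⟨c, hc⟩ := exC F.toG4
  refine ⟨c, F, hc, le_antisymm ?_ fun γ h => ?_, clA F M, clB F M, cls F M Y, inR F M Y, odd F M Y⟩
  · rintro _ ⟨g, rfl⟩
    exact memΓ F M Y (hc g)
  · obtain ⟨g, h1⟩ := lift F h
    exact ⟨⟨g, memN F.toG4 h1⟩, Equiv.ext ((hc _).uniq F.μinj h1)⟩

end CL.HN3
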