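/-
The 3-local characterisation of the Harada–Norton group: `R` is strongly closed in `N(R)` with respect to `C(t)`.
-/
import Cfsg.Agent.Hn3.Defs2

set_option autoImplicit false
set_option synthInstance.maxSize 4096
set_option linter.unusedSectionVars false

namespace CL.HN3

open Subgroup Cfsg CL.Grp CL.McL3 CL.McL3.C27 CL.S9R CL.Ast Equiv
open scoped Pointwise

universe u

namespace C7x

theorem cases_cd : ∀ a : Cd, mc a 1 = fl a ∧ (isA a → isA (fl a)) ∧ (isB a → isB (fl a) ∧ mc a a = 0) ∧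
    (a = 0 ∨ a = 1 ∨ isA a ∨ mc a a = 1 ∨ isB a) ∧ mc 32 (mc 32 a) = a ∧ (mc a a = 0 ∨ mc a a = 1) := by
  decide +kernel

theorem fix_one {γ : Perm Cd} (h : γ ∈ Γ) : γ 1 = 1 :=
  ((closure_le (K := MulAction.stabilizer (Perm Cd) (1 : Cd))).2 (by
    rintro _ (rfl | rfl | rfl | rfl | rfl) <;> rw [SetLike.mem_coe, MulAction.mem_stabilizer_iff] <;> decide +kernel) h :)

/-- the codes of the elements of `V` -/
def vc (a : Fin 8) : Cd := Fin.ofNat 512 (a.1 % 2 + 8 * (a.1 / 2))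

theorem vc_spec : (∀ a, (vc a).1 < 32 ∧ P.ν (vc a).1 = P.vv a) ∧ (∀ a, isV a → ∃ b, vc b = a) ∧
    (∀ a b, ∃ c, mc (vc a) (vc b) = vc c) ∧ ∀ a b, isB (vc a) → isB (vc b) → isB (mc (vc a) (vc b)) →
      ∀ c, vc c ∈ [mc 1 1, 1, vc a, mc (vc a) 1, vc b, mc (vc b) 1, mc (vc a) (vc b), mc (mc (vc a) (vc b)) 1] := by
  decide +kernel

theorem a12 : P.t * P.t = 1 ∧ P.t ≠ 1 ∧ P.i * P.i = 1 ∧ P.i * P.t * (P.i * P.t) = 1 ∧ P.σ * P.σ = 1 ∧
    P.σ * P.t * (P.σ * P.t) = 1 ∧ P.z * P.t = P.t * P.z ∧ P.z ^ 3 ^ 1 = 1 ∧ P.z ≠ 1 ∧ P.y ^ 3 ^ 1 = 1 ∧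
    P.y * P.ν 28 = P.ν 28 * P.y ∧ P.ν 28 * P.ν 28 = P.t ∧ P.ν 0 = 1 ∧ P.y * P.y = P.y⁻¹ ∧ P.y ≠ 1 := by decide +kernel

theorem cyt4 : ∀ (a : Fin 32) (b c : Fin 3) (d : Fin 2), let p := P.ν a * P.y ^ b.1 * P.y' ^ c.1 * P.w ^ d.1
    p * P.ν 28 = P.ν 28 * p → p * p * (p * p) = 1 ∨ p * p * (p * p) = P.y ∨ p * p * (p * p) = P.y⁻¹ := by
  decide +kernel

theorem coi_spec : ∀ a ∈ [(32 : Cd), 2, 508], isA a ∧ (M.i a = a ∨ M.i a = fl a) := by decide +kernel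

theorem nums : mc 32 2 = 34 ∧ mc 32 508 = 476 ∧ isB 34 ∧ isB 476 ∧ isB (mc 34 476) ∧ isA (mc 32 34) ∧ isA (mc 32 476) := by
  decide +kernel

variable {G : Type*} [Group G]

theorem mem_zp3 {y v : G} (h3 : y ^ 3 ^ 1 = 1) (h2 : y * y = y⁻¹) (hv : v ∈ zpowers y) : v = 1 ∨ v = y ∨ v = y⁻¹ := by
  obtain ⟨i, rfl⟩ := hv
  have e : y ^ (3 : ℤ) = 1 := by simpa using h3
  have : i % 3 = 0 ∨ i % 3 = 1 ∨ i % 3 = 2 := by omega
  change y ^ i = 1 ∨ y ^ i = y ∨ y ^ i = y⁻¹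
  rw [zpow_eq_zpow_emod i e]
  rcases this with h | h | h <;> simp [h, zpow_ofNat, sq, h2]

/-- the elements of `C(t)` that fix the coset `x ⟨t⟩` -/
def DD (t x : G) (ht : t * t = 1) : Subgroup G where
  carrier := {d | d * t = t * d ∧ (d * x * d⁻¹ = x ∨ d * x * d⁻¹ = x * t)}
  one_mem' := by simp
  mul_mem' := by
    rintro d e ⟨h1, h2⟩ ⟨h3, h4⟩
    refine ⟨(show Commute d t from h1).mul_left h3, ?_⟩
    have k : d * (x * t) * d⁻¹ = d * x * d⁻¹ * t := by rw [← conj_mul, h1, mul_inv_cancel_right]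
    rw [show d * e * x * (d * e)⁻¹ = d * (e * x * e⁻¹) * d⁻¹ by group]
    rcases h4 with h4 | h4 <;> rw [h4]
    · exact h2
    · rw [k]
      rcases h2 with h2 | h2 <;> rw [h2]
      · exact .inr rfl
      · exact .inl (by rw [mul_assoc, ht, mul_one])
  inv_mem' := by
    rintro d ⟨h1, h2⟩
    refine ⟨(show Commute d t from h1).inv_left, h2.imp (fun h2 => ?_) fun h2 => ?_⟩
    · conv_lhs => rw [← h2]
      group
    · have k : d * (x * t) * d⁻¹ = x := by rw [← conj_mul, h1, mul_inv_cancel_right, h2, mul_assoc, ht, mul_one]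
      conv_lhs => rw [← k]
      group

theorem conj_t {h t : G} (e : h * t = t * h) (x : G) : h * (x * t) * h⁻¹ = h * x * h⁻¹ * t := by
  rw [← conj_mul, e, mul_inv_cancel_right]

theorem cj (h x : G) : IsConj x (h * x * h⁻¹) := isConj_iff.2 ⟨h, rfl⟩

variable [Finite G] {ψ : A12 →* G} {θ : L5 →* G} {k : G} {R : Subgroup G} {c : normalizer (R : Set G) →* Perm Cd}
  (F : G7 ψ θ k R c)
include F

theorem tt : ψ P.t * ψ P.t = 1 := by rw [← map_mul, a12.1, map_one]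

theorem t1 : ψ P.t ≠ 1 := fun e => a12.2.1 (F.inj (e.trans (map_one ψ).symm))

theorem μR (a : Cd) : μ ψ k a ∈ R := (F.memR _).2 ⟨a, rfl⟩

theorem μfl (a : Cd) : μ ψ k (fl a) = μ ψ k a * ψ P.t := by rw [← (cases_cd a).1, F.μmul, (μ_vals ψ k).2.1]

theorem Nt {n : G} (hn : n ∈ normalizer (R : Set G)) : n * ψ P.t = ψ P.t * n :=
  (μ_vals ψ k).2.1 ▸ (F.co ⟨n, hn⟩).comm (fix_one (F.rng ▸ ⟨_, rfl⟩))

theorem lift {γ : Perm Cd} (h : γ ∈ Γ) : ∃ n ∈ normalizer (R : Set G), n * ψ P.t = ψ P.t * n ∧ Co ψ k n γ := by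
  obtain ⟨n, rfl⟩ := F.rng.ge h
  exact ⟨n, n.2, Nt F n.2, F.co n⟩

theorem scA {a : Cd} (ha : isA a) {h : G} (e : h * ψ P.t = ψ P.t * h) (hN : h * μ ψ k a * h⁻¹ ∈ normalizer (R : Set G)) :
    h * μ ψ k a * h⁻¹ ∈ R :=
  F.inR _ hN (((F.clA a).2 ha).trans (cj _ _))
    (by rw [← conj_t e, ← μfl F]; exact ((F.clA _).2 ((cases_cd a).2.1 ha)).trans (cj _ _))

theorem trA {a b : Cd} (ha : isA a) {h : G} (e : h * μ ψ k a * h⁻¹ = μ ψ k b) : isA b :=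
  (F.clA b).1 (e ▸ ((F.clA a).2 ha).trans (cj _ _))

theorem trB {a b : Cd} (ha : isB a) {h : G} (ht : h * ψ P.t = ψ P.t * h) (e : h * μ ψ k a * h⁻¹ = μ ψ k b) : isB b := by
  obtain ⟨v0, v1, -⟩ := μ_vals ψ k
  rcases (cases_cd b).2.2.2.1 with rfl | rfl | hb | hb | hb
  · rw [v0, conj_eq_one_iff, ← v0] at e
    rw [F.μinj e] at ha
    exact absurd ha (by decide +kernel)
  · rw [v1, mul_inv_eq_iff_eq_mul, ← ht, mul_right_inj, ← v1] at e
    rw [F.μinj e] at ha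
    exact absurd ha (by decide +kernel)
  · exact absurd (((F.clB a ha).trans (cj h _)).trans (e ▸ ((F.clA b).2 hb).symm)) F.nc2
  · have := F.μmul b b
    rw [hb, v1, ← e, conj_mul, ← F.μmul, ((cases_cd a).2.2.1 ha).2, v0, mul_one, mul_inv_cancel] at this
    exact absurd this (t1 F)
  · exact hb

theorem syl3 (Y : YF) : IsSylowIn 3 (zpowers (ψ P.y)) (centralizer {ψ (P.ν 28)}) := by
  have := Fact.mk Nat.prime_three
  obtain ⟨-, -, -, -, -, -, -, -, -, y3, yν, νν, -, yy, y1⟩ := a12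
  refine CL.Rec.isSylowIn_of_loc (zpowers_le.2 (mem_centralizer_singleton_iff.2 (by rw [← map_mul, yν, map_mul])))
    (pg_zp (k := 1) (by rw [← map_pow, y3, map_one])) fun n hn hN j hj => ?_
  have h1 := (mem_normalizer_iff.1 hN _).1 (mem_zpowers (ψ P.y))
  obtain ⟨p, rfl⟩ := F.n3 n h1
  rw [← map_inv, ← map_mul, ← map_mul, ← MonoidHom.map_zpowers, mem_map_iff_mem F.inj] at h1
  rw [mem_centralizer_singleton_iff, ← map_mul, ← map_mul, F.inj.eq_iff] at hn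
  rw [← map_pow, ← map_one ψ, F.inj.eq_iff] at hj
  have h2 : p * p * P.y = P.y * (p * p) := by
    rw [← mul_inv_eq_iff_eq_mul, show p * p * P.y * (p * p)⁻¹ = p * (p * P.y * p⁻¹) * p⁻¹ by group]
    rcases mem_zp3 y3 yy h1 with e | e | e
    · exact absurd (conj_eq_one_iff.1 e) y1
    · rw [e, e]
    · rw [e, ← conj_inv, e, inv_inv]
  have h3 : Commute (p * p) (P.ν 28) := (show Commute p _ from hn).mul_left hn
  obtain ⟨a, b, d, e, h4⟩ := Y.cyt (p * p) h2 (νν ▸ h3.mul_right h3)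
  have h5 := cyt4 a b d e
  simp only [← h4] at h5
  have h6 : p ^ 8 ∈ zpowers P.y := by
    rw [show p ^ 8 = p * p * (p * p) * (p * p * (p * p)) by simp only [pow_succ, pow_zero, one_mul, mul_assoc]]
    rcases h5 h3 with e | e | e <;> rw [e]
    exacts [one_mem _, mem_zpowers _, inv_mem (mem_zpowers _)]
  rw [← MonoidHom.map_zpowers]
  refine mem_map_of_mem ψ (zpowers_le.2 h6 (mem_zpowers_pow_iff.2 ?_))
  exact Nat.Coprime.coprime_dvd_right (orderOf_dvd_of_pow_eq_one hj) (Nat.Coprime.pow_right j (by decide))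

theorem four (Y : YF) (M : MF) {a : Cd} (ha : mc a a = 1) {h : G} (e : h * μ ψ k a * h⁻¹ * ψ P.z = ψ P.z * (h * μ ψ k a * h⁻¹)) :
    False := by
  have := Fact.mk Nat.prime_three
  obtain ⟨-, -, -, -, -, -, -, z3, z1, y3, -, -, ν0, yy, -⟩ := a12
  obtain ⟨γ, hγ, rfl⟩ := M.orb4 a ha
  obtain ⟨n, -, -, hn⟩ := lift F hγ
  have h1 : μ ψ k 448 = k * ψ (P.ν 28) * k⁻¹ := by
    change ψ (P.ν 0) * (k * ψ (P.ν 28) * k⁻¹) = _
    rw [ν0, map_one, one_mul]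
  rw [← hn, h1] at e
  obtain ⟨d, -, hd⟩ := (syl3 F Y).exists_conj_le (U := zpowers ((h * n * k)⁻¹ * ψ P.z * (h * n * k)⁻¹⁻¹))
    (pg_zp (k := 1) (by rw [conj_pow, ← map_pow, z3, map_one, mul_one, mul_inv_cancel]))
    (zpowers_le.2 (mem_centralizer_singleton_iff.2 (by
      calc _ = (h * n * k)⁻¹ * (ψ P.z * (h * (n * (k * ψ (P.ν 28) * k⁻¹) * n⁻¹) * h⁻¹)) * (h * n * k) := by group
        _ = _ := by rw [← e]; group)))
  have h2 := (cj (h * n * k)⁻¹ (ψ P.z)).trans (cj d _)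
  have h3 := ψ.map_isConj cj_e0_y
  rcases mem_zp3 (by rw [← map_pow, y3, map_one]) (by rw [← map_mul, yy, map_inv])
    (hd (conj_mem_conj_smul d (mem_zpowers _))) with e | e | e <;> rw [e] at h2
  · exact z1 (F.inj ((isConj_one_left.1 h2).trans (map_one ψ).symm))
  · exact F.nc (h2.trans h3.symm)
  · refine F.nc (h2.trans (IsConj.trans ?_ (ψ.map_isConj cj_e0_inv).symm))
    obtain ⟨g, hg⟩ := isConj_iff.1 h3.symm
    exact isConj_iff.2 ⟨g, by rw [map_inv, ← hg, conj_inv]⟩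

theorem syl2 (M : MF) : ∃ T ≤ normalizer (R : Set G), IsSylowIn 2 T (DD (ψ P.t) (μ ψ k 8) (tt F)) := by
  obtain ⟨T, hT, h1, h2⟩ := M.syl
  have hle : (T.comap c).map (normalizer (R : Set G)).subtype ≤ normalizer (R : Set G) := map_subtype_le _
  have hN : normalizer (R : Set G) ≤ centralizer {ψ P.t} := fun n hn => mem_centralizer_singleton_iff.2 (Nt F hn)
  refine ⟨_, hle, IsSylowIn.of_le (H := centralizer {ψ P.t}) ⟨hle.trans hN, ?_, ?_⟩ ?_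
    fun d hd => mem_centralizer_singleton_iff.2 hd.1⟩
  · rintro ⟨_, n, hn, rfl⟩
    have h3 : c (n ^ 8192) = 1 := by
      rw [map_pow, ← h1]; exact congrArg Subtype.val (pow_card_eq_one' (x := (⟨c n, hn⟩ : T)))
    have h4 := F.co (n ^ 8192)
    rw [h3] at h4
    refine ⟨13 + 1, Subtype.ext ?_⟩
    change (n : G) ^ 2 ^ (13 + 1) = 1
    rw [pow_succ 2, pow_mul, sq]
    rcases F.cR _ h4 with e | e
    · exact (congrArg₂ (· * ·) e e).trans (one_mul 1)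
    · exact (congrArg₂ (· * ·) e e).trans (tt F)
  · rw [← relIndex_mul_relIndex _ _ _ hle hN, Nat.prime_two.dvd_mul, not_or]
    refine ⟨?_, F.odd⟩
    have h3 := card_mul_relIndex hT
    rw [h1, M.card] at h3
    rw [relIndex, subgroupOf, comap_map_eq_self_of_injective (subtype_injective _), index_comap, F.rng]
    omega
  · rintro _ ⟨n, hn, rfl⟩
    refine ⟨Nt F n.2, (h2 _ hn).imp (fun e => ?_) fun e => ?_⟩
    · exact (F.co n 8).trans (congrArg _ e)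
    · exact (F.co n 8).trans ((congrArg _ e).trans (μfl F 8))

theorem normV (M : MF) {h : G} (ht : h * ψ P.t = ψ P.t * h) {a b : Cd} (h1 : h * μ ψ k 32 * h⁻¹ = μ ψ k 32)
    (h2 : h * μ ψ k 2 * h⁻¹ = μ ψ k a) (h3 : h * μ ψ k 508 * h⁻¹ = μ ψ k b) : h ∈ normalizer (R : Set G) := by
  obtain ⟨n1, n2, n3, n4, n5, n6, n7⟩ := nums
  have e1 : h * μ ψ k 34 * h⁻¹ = μ ψ k (mc 32 a) := by rw [← n1, F.μmul, F.μmul, ← conj_mul, h1, h2]
  have e2 : h * μ ψ k 476 * h⁻¹ = μ ψ k (mc 32 b) := by rw [← n2, F.μmul, F.μmul, ← conj_mul, h1, h3]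
  obtain ⟨γ, hγ, v1, v2⟩ := M.cfg (mc 32 a) (mc 32 b) (trB F n3 ht e1) (trB F n4 ht e2)
    (by rw [(cases_cd a).2.2.2.2.1]; exact trA F (coi_spec 2 (by simp)).1 h2)
    (by rw [(cases_cd b).2.2.2.2.1]; exact trA F (coi_spec 508 (by simp)).1 h3)
    (trB F n5 ht (by rw [F.μmul, F.μmul, ← conj_mul, e1, e2]))
  obtain ⟨γ0, hγ0, v3, v4⟩ := M.cfg 34 476 n3 n4 n6 n7 n5
  obtain ⟨n, hn, nt, cn⟩ := lift F hγ
  obtain ⟨m, hm, mt, cm⟩ := lift F hγ0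
  obtain ⟨s1, s2, s3, s4⟩ := vc_spec
  obtain ⟨α, hα⟩ := s2 _ v3
  obtain ⟨β, hβ⟩ := s2 _ v4
  have kt : n * h * m⁻¹ * ψ P.t = ψ P.t * (n * h * m⁻¹) :=
    ((show Commute n _ from nt).mul_left ht).mul_left (show Commute m _ from mt).inv_left
  have q : ∀ {x y : Cd}, h * μ ψ k x * h⁻¹ = μ ψ k y → isV (γ y) →
      ∃ d, n * h * m⁻¹ * μ ψ k (γ0 x) * (n * h * m⁻¹)⁻¹ = μ ψ k (vc d) := fun {x y} e v => by
    obtain ⟨d, hd⟩ := s2 _ v
    exact ⟨d, by rw [hd, ← cn, ← e, ← cm]; group⟩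
  have q1 := q e1 v1
  have q2 := q e2 v2
  have b3 : isB (mc (γ0 34) (γ0 476)) := trB F n5 mt (by rw [F.μmul, F.μmul, ← conj_mul, cm, cm])
  have b1 := trB F n3 mt (cm 34)
  have b2 := trB F n4 mt (cm 476)
  rw [← hα] at q1 b1
  rw [← hβ] at q2 b2
  rw [← hα, ← hβ] at b3
  have hN : n * h * m⁻¹ ∈ normalizer (R : Set G) := by
    generalize n * h * m⁻¹ = g at *
    have q0 : ∃ d, g * μ ψ k 1 * g⁻¹ = μ ψ k (vc d) :=
      ⟨1, by rw [show vc 1 = 1 from rfl, (μ_vals ψ k).2.1, kt, mul_inv_cancel_right]⟩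
    have qm : ∀ {x y : Cd}, (∃ d, g * μ ψ k x * g⁻¹ = μ ψ k (vc d)) → (∃ d, g * μ ψ k y * g⁻¹ = μ ψ k (vc d)) →
        ∃ d, g * μ ψ k (mc x y) * g⁻¹ = μ ψ k (vc d) := fun ⟨d, hd⟩ ⟨e, he⟩ =>
      (s3 d e).imp fun f hf => by rw [F.μmul, ← conj_mul, hd, he, ← F.μmul, hf]
    have hv : ∀ d, μ ψ k (vc d) = ψ (P.vv d) := fun d => by rw [μ_lt _ _ _ (s1 d).1, (s1 d).2]
    refine F.nV g kt fun d => ?_
    simp only [← hv]
    have := s4 α β b1 b2 b3 d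
    simp only [List.mem_cons, List.not_mem_nil, or_false] at this
    rcases this with e | e | e | e | e | e | e | e <;> rw [e]
    exacts [qm q0 q0, q0, q1, qm q1 q0, q2, qm q2 q0, qm q1 q2, qm (qm q1 q2) q0]
  rwa [Subgroup.mul_mem_cancel_right _ (inv_mem hm), Subgroup.mul_mem_cancel_left _ hn] at hN

theorem caseB (M : MF) {a : Cd} (ha : isB a) {h : G} (ht : h * ψ P.t = ψ P.t * h) (e : h * μ ψ k a * h⁻¹ = ψ P.i)
    (hN : ψ P.i ∈ normalizer (R : Set G)) : ψ P.i ∈ R := by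
  have := Fact.mk Nat.prime_two
  obtain ⟨γ, hγ, rfl⟩ := M.orbB a ha
  obtain ⟨n, -, nt, hn⟩ := lift F hγ
  replace e : h * n * μ ψ k 8 * (h * n)⁻¹ = ψ P.i := by rw [← e, ← hn]; group
  replace ht : h * n * ψ P.t = ψ P.t * (h * n) := (show Commute h _ from ht).mul_left nt
  generalize h * n = h at *
  obtain ⟨T, hT, hS⟩ := syl2 F M
  have hR : IsPGroup 2 R := by
    rintro ⟨x, hx⟩
    obtain ⟨b, rfl⟩ := (F.memR x).1 hx
    refine ⟨2, Subtype.ext ?_⟩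
    change μ ψ k b ^ (2 * 2) = 1
    rw [pow_mul, sq, sq, ← F.μmul]
    rcases (cases_cd b).2.2.2.2.2 with e | e <;> rw [e]
    · rw [(μ_vals ψ k).1, one_mul]
    · rw [(μ_vals ψ k).2.1, tt F]
  have hE : IsPGroup 2 ↥((R ⊔ zpowers (ψ P.i)) ⊓ DD (ψ P.t) (ψ P.i) (tt F)) :=
    (hR.to_sup_of_normal_left' (pg_zp (k := 1) (by rw [pow_one, sq, ← map_mul, a12.2.2.1, map_one]))
      (zpowers_le.2 hN)).to_inf_left
  obtain ⟨d, ⟨dt, hd⟩, h1⟩ := hS.exists_conj_le (IsPGroup.conj_smul hE h⁻¹) fun x hx => by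
    obtain ⟨-, h2, h3⟩ := (mem_conj_smul_iff _ _ _).1 hx
    rw [inv_inv] at h2 h3
    refine ⟨?_, h3.imp (fun h3 => ?_) fun h3 => ?_⟩
    · rw [show x = h⁻¹ * (h * x * h⁻¹) * h by group]
      exact ((show Commute h _ from ht).inv_left.mul_left h2).mul_left ht
    · rw [← e] at h3
      calc _ = h⁻¹ * (h * x * h⁻¹ * (h * μ ψ k 8 * h⁻¹) * (h * x * h⁻¹)⁻¹) * h := by group
        _ = _ := by rw [h3]; group
    · rw [← e, ← conj_t ht] at h3
      calc _ = h⁻¹ * (h * x * h⁻¹ * (h * μ ψ k 8 * h⁻¹) * (h * x * h⁻¹)⁻¹) * h := by group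
        _ = _ := by rw [h3]; group
  have gt : d * h⁻¹ * ψ P.t = ψ P.t * (d * h⁻¹) := (show Commute d _ from dt).mul_left (show Commute h _ from ht).inv_left
  have h2 : ∀ b ∈ [(32 : Cd), 2, 508], d * h⁻¹ * μ ψ k b * (d * h⁻¹)⁻¹ ∈ R := fun b hb => by
    refine scA F (coi_spec b hb).1 gt (hT (h1 ?_))
    rw [show d * h⁻¹ * μ ψ k b * (d * h⁻¹)⁻¹ = d * (h⁻¹ * μ ψ k b * h⁻¹⁻¹) * d⁻¹ by group]
    have bt := Nt F (le_normalizer (μR F b))
    refine conj_mem_conj_smul d (conj_mem_conj_smul h⁻¹ ⟨mem_sup_left (μR F b), (DD _ _ (tt F)).inv_mem_iff.1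
      ⟨(show Commute _ _ from bt).inv_left, (coi_spec b hb).2.imp (fun e => ?_) fun e => ?_⟩⟩)
    · rw [mul_assoc, inv_inv, F.coi.comm e, inv_mul_cancel_left]
    · have := F.coi b
      rw [e, μfl F, mul_inv_eq_iff_eq_mul] at this
      rw [mul_assoc, inv_inv, this, mul_assoc, inv_mul_cancel_left, Nt F hN]
  have h3 : d * h⁻¹ * ψ P.i * (d * h⁻¹)⁻¹ ∈ R := by
    rw [← e, show d * h⁻¹ * (h * μ ψ k 8 * h⁻¹) * (d * h⁻¹)⁻¹ = d * μ ψ k 8 * d⁻¹ by group]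
    rcases hd with hd | hd <;> rw [hd]
    exacts [μR F 8, μfl F 8 ▸ μR F _]
  generalize d * h⁻¹ = g at *
  obtain ⟨a0, e0⟩ := (F.memR _).1 (h2 32 (by simp))
  obtain ⟨δ, hδ, rfl⟩ := M.orbA a0 (trA F (coi_spec 32 (by simp)).1 e0.symm)
  obtain ⟨m, hm, mt, cm⟩ := lift F hδ
  have h4 : ∀ b ∈ [(32 : Cd), 2, 508], m⁻¹ * g * μ ψ k b * (m⁻¹ * g)⁻¹ ∈ R := fun b hb => by
    rw [show m⁻¹ * g * μ ψ k b * (m⁻¹ * g)⁻¹ = m⁻¹ * (g * μ ψ k b * g⁻¹) * m⁻¹⁻¹ by group]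
    exact (mem_normalizer_iff.1 (inv_mem hm) _).1 (h2 b hb)
  obtain ⟨a1, e1⟩ := (F.memR _).1 (h4 2 (by simp))
  obtain ⟨a2, e2⟩ := (F.memR _).1 (h4 508 (by simp))
  have h5 := normV F M ((show Commute m _ from mt).inv_left.mul_left gt) (by
    calc _ = m⁻¹ * (g * μ ψ k 32 * g⁻¹) * m := by group
      _ = _ := by rw [← e0, ← cm]; group) e1.symm e2.symm
  rw [Subgroup.mul_mem_cancel_left _ (inv_mem hm)] at h5
  exact (mem_normalizer_iff.1 h5 _).2 h3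

end C7x

open C7x in
theorem c7Thm : C7Thm.{u} := by
  intro Y M G _ _ ψ θ k R c F
  refine ⟨F, fun x hx h ht hN => ?_⟩
  obtain ⟨a, rfl⟩ := (F.memR x).1 hx
  obtain ⟨v0, v1, -⟩ := μ_vals ψ k
  obtain ⟨-, -, ii, it, σσ, σt, zt, -⟩ := a12
  have tR : ψ P.t ∈ R := v1 ▸ μR F 1
  have sq' : ∀ g : G, g * μ ψ k a * g⁻¹ * (g * μ ψ k a * g⁻¹) = g * μ ψ k (mc a a) * g⁻¹ := fun g => by
    rw [conj_mul, F.μmul]
  rcases F.cls _ hN (by
    rw [sq']
    rcases (cases_cd a).2.2.2.2.2 with e | e <;> rw [e]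
    · exact .inl (by rw [v0, mul_one, mul_inv_cancel])
    · exact .inr (by rw [v1, ht, mul_inv_cancel_right])) with h1 | ⟨n, hn, x, hx, e⟩
  · exact h1
  have hxN : x ∈ normalizer (R : Set G) := e ▸ mul_mem (mul_mem hn hN) (inv_mem hn)
  refine (mem_normalizer_iff.1 hn _).2 (e ▸ ?_)
  replace e : n * h * μ ψ k a * (n * h)⁻¹ = x := by rw [← e]; group
  replace ht : n * h * ψ P.t = ψ P.t * (n * h) := (show Commute n _ from Nt F hn).mul_left ht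
  generalize n * h = g at *
  have s := sq' g
  rw [e] at s
  have kk : k * ψ P.t * (k * ψ P.t) = ψ P.t := by
    rw [mul_assoc, ← mul_assoc (ψ P.t), ← F.kt, ← mul_assoc, ← mul_assoc, F.kk, mul_assoc, tt F, mul_one]
  simp only [List.mem_cons, List.not_mem_nil, or_false] at hx
  rcases (cases_cd a).2.2.2.1 with rfl | rfl | ha | ha | ha
  · rw [← e, v0, mul_one, mul_inv_cancel]; exact one_mem _
  · rwa [← e, v1, ht, mul_inv_cancel_right]
  · exact e ▸ scA F ha ht (e ▸ hxN)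
  · exfalso
    rw [ha, v1, ht, mul_inv_cancel_right] at s
    have kz : Commute k (ψ P.z) := F.θk ▸ F.θz k0
    have h1 : ∀ p : A12, p * p = 1 → x ≠ ψ p := fun p hp h => t1 F (by rw [← s, h, ← map_mul, hp, map_one])
    rcases hx with hx | hx | hx | hx | hx | hx
    · exact four F Y M ha (h := g) (by rw [e, hx]; exact kz)
    · exact four F Y M ha (h := g) (by
        rw [e, hx]; exact kz.mul_left (show Commute (ψ P.t) (ψ P.z) by rw [Commute, SemiconjBy, ← map_mul, ← zt, map_mul]))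
    exacts [h1 _ ii hx, h1 _ it hx, h1 _ σσ hx, h1 _ σt hx]
  · obtain ⟨hb, h0⟩ := (cases_cd a).2.2.1 ha
    rw [h0, v0, mul_one, mul_inv_cancel] at s
    have e' : g * μ ψ k (fl a) * g⁻¹ = x * ψ P.t := by rw [μfl F, conj_t ht, e]
    have h1 : ∀ {b : Cd}, isB b → g * μ ψ k b * g⁻¹ ≠ ψ P.σ := fun hb h =>
      F.nc2 (((F.clB _ hb).trans (cj g _)).trans (h ▸ (ψ.map_isConj cj_r_σ).symm))
    rcases hx with rfl | rfl | rfl | rfl | rfl | rfl
    · exact absurd (F.kk.symm.trans s) (t1 F)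
    · exact absurd (kk.symm.trans s) (t1 F)
    · exact caseB F M ha ht e hxN
    · rw [map_mul] at hxN ⊢
      rw [map_mul, mul_assoc (ψ _), tt F, mul_one] at e'
      exact mul_mem (caseB F M hb ht e' ((Subgroup.mul_mem_cancel_right _ (le_normalizer tR)).1 hxN)) tR
    · exact absurd e (h1 ha)
    · rw [map_mul, mul_assoc (ψ _), tt F, mul_one] at e'
      exact absurd e' (h1 hb)

end CL.HN3
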