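/-
The 3-local characterisation of the Harada–Norton group: the subgroup of index two of `C(r)`.
-/
import Cfsg.Agent.Hn3.Defs2

set_option autoImplicit false
set_option synthInstance.maxSize 4096
set_option linter.unusedSectionVars false

namespace CL.HN3

open Subgroup Cfsg CL.Grp CL.McL3 CL.McL3.C27 CL.S9R CL.Ast Equiv

universe u

namespace D1x

theorem two {K : Type*} [Group K] {N1 N2 : Subgroup K} {a b : K} (h1 : N1.index = 2) (h2 : N2.index = 2)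
    (ha : a ∉ N1) (hb : b ∉ N2) : ∃ N : Subgroup K, N.index = 2 ∧ a ∉ N ∧ b ∉ N := by
  by_cases k1 : b ∈ N1
  swap
  · exact ⟨N1, h1, ha, k1⟩
  by_cases k2 : a ∈ N2
  swap
  · exact ⟨N2, h2, k2, hb⟩
  refine ⟨{ carrier := {g | g ∈ N1 ↔ g ∈ N2}
            one_mem' := iff_of_true (one_mem _) (one_mem _)
            mul_mem' := fun {x y} hx hy => by
              rw [Set.mem_setOf, mul_mem_iff_of_index_two h1, mul_mem_iff_of_index_two h2, Set.mem_setOf.1 hx,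
                Set.mem_setOf.1 hy]
            inv_mem' := fun {x} hx => by rwa [Set.mem_setOf, inv_mem_iff, inv_mem_iff] },
    index_eq_two_iff_exists_notMem_and.2 ⟨a, fun h => ha (h.2 k2), fun g => ?_⟩, fun h => ha (h.2 k2),
    fun h => hb (h.1 k1)⟩
  change (g * a ∈ N1 ↔ g * a ∈ N2) ∨ (g ∈ N1 ↔ g ∈ N2)
  rw [mul_mem_iff_of_index_two h1, mul_mem_iff_of_index_two h2]
  tauto

theorem fix1 {γ : Perm Cd} (h : γ ∈ Γ) : γ 1 = 1 :=
  (closure_le (MulAction.stabilizer (Perm Cd) (1 : Cd))).2 (by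
    rintro _ (rfl | rfl | rfl | rfl | rfl) <;> rw [SetLike.mem_coe, MulAction.mem_stabilizer_iff] <;> decide +kernel) h

theorem dec1 : (∀ a, inn a 1 = 1 ∧ mc (mc a a) (mc a a) = 0 ∧ (cmt a 32 = false → inn a 32 = 32)) ∧
    ∀ a, isA a → isA (mc a 32) → inn a 448 ≠ 448 ∧ inn a 448 ≠ 481 := by decide +kernel

variable {G : Type*} [Group G] [Finite G] {ψ : A12 →* G} {θ : L5 →* G} {k : G} {R : Subgroup G}
  {c : normalizer (R : Set G) →* Perm Cd} {g h : G} {γ : Perm Cd}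

theorem co_pow (h1 : Co ψ k g γ) (n : ℕ) : Co ψ k (g ^ n) (γ ^ n : Perm Cd) := by
  induction n with
  | zero => rw [pow_zero, pow_zero]; exact Co.one ψ k
  | succ n ih => rw [pow_succ, pow_succ]; exact ih.pmul h1

theorem co_t (h1 : Co ψ k g γ) (e : γ 1 = 1) : g * ψ P.t = ψ P.t * g := (μ_vals ψ k).2.1 ▸ h1.comm e

/-- the elements acting as an element of `Γ0` -/
def pre (ψ : A12 →* G) (k : G) (L : Subgroup G) (Γ0 : Subgroup (Perm Cd)) : Subgroup G where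
  carrier := {g | g ∈ L ∧ ∃ γ ∈ Γ0, Co ψ k g γ}
  one_mem' := ⟨one_mem _, 1, one_mem _, Co.one ψ k⟩
  mul_mem' := fun ⟨a, _, a1, a2⟩ ⟨b, _, b1, b2⟩ => ⟨mul_mem a b, _, mul_mem a1 b1, a2.pmul b2⟩
  inv_mem' := fun ⟨a, _, a1, a2⟩ => ⟨inv_mem a, _, inv_mem a1, a2.pinv⟩

/-- the actions of the elements of `L` -/
def img (ψ : A12 →* G) (k : G) (L : Subgroup G) : Subgroup (Perm Cd) where
  carrier := {γ | ∃ g ∈ L, Co ψ k g γ}
  one_mem' := ⟨1, one_mem _, Co.one ψ k⟩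
  mul_mem' := fun ⟨_, a1, a2⟩ ⟨_, b1, b2⟩ => ⟨_, mul_mem a1 b1, a2.pmul b2⟩
  inv_mem' := fun ⟨_, a1, a2⟩ => ⟨_, inv_mem a1, a2.pinv⟩

variable (F : G9 ψ θ k R c)
include F

theorem co_r (h1 : Co ψ k g γ) (e : γ 32 = 32) : g * ψ P.r = ψ P.r * g := F.μ_rs.1 ▸ h1.comm e

theorem ex (ht : g * ψ P.t = ψ P.t * g) : ∃ γ ∈ Γ, Co ψ k g γ :=
  ⟨_, F.rng ▸ ⟨⟨g, F.all g ht⟩, rfl⟩, F.co ⟨g, F.all g ht⟩⟩

theorem lift (h : γ ∈ Γ) : ∃ g, Co ψ k g γ := by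
  obtain ⟨g, rfl⟩ := F.rng.ge h
  exact ⟨g, F.co g⟩

theorem ker (h1 : Co ψ k g γ) (h2 : Co ψ k h γ) : g = h ∨ g = h * ψ P.t :=
  (F.cR _ ((h2.pinv.pmul h1).congr fun a => by simp)).imp (fun e => (inv_mul_eq_one.1 e).symm) fun e => by
    rw [← e, mul_inv_cancel_left]

theorem odd (m : MF) :
    Odd ((centralizer {ψ P.r} ⊓ centralizer {ψ P.t}).relIndex (centralizer ({ψ P.r} : Set G))) := by
  have hR : IsPGroup 2 R := fun g => ⟨2, Subtype.ext (by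
    obtain ⟨a, e⟩ := (F.memR g).1 g.2
    change (g : G) ^ (2 * 2) = 1
    rw [← e, pow_mul, sq, sq, ← F.μmul, ← F.μmul, (dec1.1 a).2.1, (μ_vals ψ k).1])⟩
  obtain ⟨T, hT, h1⟩ := exists_isSylowIn_ge (H := centralizer {ψ P.r} ⊓ centralizer {ψ P.t})
    (hR.to_inf_left (K := centralizer {ψ P.r})) (le_inf inf_le_right fun g hg => by
      obtain ⟨a, rfl⟩ := (F.memR g).1 hg.1
      exact mem_centralizer_singleton_iff.2 (co_t (F.coμ a) (dec1.1 a).1))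
  have h2 : ∀ a, cmt a 32 = false → μ ψ k a ∈ T := fun a ha =>
    h1 ⟨(F.memR _).2 ⟨a, rfl⟩, mem_centralizer_singleton_iff.2 (co_r F (F.coμ a) ((dec1.1 a).2.2 ha))⟩
  have h3 : ψ P.t ∈ T := (μ_vals ψ k).2.1 ▸ h2 1 (by decide)
  refine Nat.odd_iff.2 (Nat.two_dvd_ne_zero.1 ((CL.Rec.isSylowIn_of_loc (hT.le.trans inf_le_left) hT.isPGroup
    fun n hn hN j hj => mem_syl hT ⟨hn, ?_⟩ hN hj).not_dvd_relIndex_of_le hT.le inf_le_left))
  obtain ⟨γ, h4, h5⟩ := ex F (mem_centralizer_singleton_iff.1 (hT.le ((mem_normalizer_iff.1 hN _).1 h3)).2)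
  have h6 : ∀ a, cmt a 32 = false → γ a = a := fun a ha => F.μinj (by
    have := mem_centralizer_singleton_iff.1 (hT.le ((mem_normalizer_iff''.1 hN _).1 (h2 a ha))).2
    calc _ = n * (ψ P.t * (n⁻¹ * μ ψ k a * n)) * (ψ P.t)⁻¹ * n⁻¹ := by rw [← h5]; group
      _ = _ := by rw [← this]; group)
  have h7 : IsConj (ψ P.t) (n * ψ P.t * n⁻¹) := isConj_iff.2 ⟨n, rfl⟩
  refine mem_centralizer_singleton_iff.2 (mul_inv_eq_iff_eq_mul.1 ?_)
  rcases m.zr γ h4 h6 with rfl | rfl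
  · exact (F.cR _ h5).resolve_left fun e => absurd (F.inj ((conj_eq_one_iff.1 e).trans ψ.map_one.symm)) (by decide +kernel)
  · rcases ker F h5 (F.coμ 32) with e | e
    · exact (F.nc2 (by rwa [e, F.μ_rs.1] at h7)).elim
    · rw [e, ← (μ_vals ψ k).2.1, ← F.μmul, (μ_vals ψ k).2.1] at h7
      exact (F.nc2 (h7.trans ((F.clA _).2 (by decide +kernel)).symm)).elim

variable {Γ0 : Subgroup (Perm Cd)} (z1 : ∀ g, g ∈ Γ0 ↔ g ∈ Γ ∧ g 32 = 32 ∧ (g 448 = 448 ∨ g 448 = 481))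
include z1

theorem no (z5 : ∀ g ∈ Γ0, g * g = 1 → (∃ a, g = inn a) ∨ ∃ h ∈ Γ0, h * g * h⁻¹ = M.w) (hγ : γ ∈ Γ0)
    (hg : Co ψ k g γ) (h1 : IsConj (ψ P.r) g) (h2 : IsConj (ψ P.r) (g * ψ P.r)) : False := by
  have g2 : g * g = 1 := by
    obtain ⟨n, rfl⟩ := isConj_iff.1 h1
    rw [conj_mul, ← map_mul, show P.r * P.r = 1 by decide +kernel, map_one, mul_one, mul_inv_cancel]
  rcases z5 γ hγ (Perm.ext ((hg.pmul hg).uniq F.μinj (g2 ▸ Co.one ψ k))) with ⟨a, rfl⟩ | ⟨h, hh, e⟩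
  · obtain ⟨b, rfl⟩ : ∃ b, g = μ ψ k b := (ker F hg (F.coμ a)).elim (fun e => ⟨a, e⟩) fun e =>
      ⟨mc a 1, by rw [e, F.μmul, (μ_vals ψ k).2.1]⟩
    have h3 := dec1.2 b ((F.clA _).1 h1) ((F.clA _).1 (by rwa [F.μmul, F.μ_rs.1]))
    rw [← hg.uniq F.μinj (F.coμ b)] at h3
    exact ((z1 _).1 hγ).2.2.elim h3.1 h3.2
  · obtain ⟨n, hn⟩ := lift F ((z1 _).1 hh).1
    have h3 := (hn.pmul hg).pmul hn.pinv
    rw [e] at h3
    rcases ker F h3 F.cow with e1 | e1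
    · exact F.nc2 ((ψ.map_isConj cj_t_w).trans (h1.trans (isConj_iff.2 ⟨n, e1⟩)).symm)
    · refine F.nc2 ((ψ.map_isConj cj_t_wtr).trans (h2.trans (isConj_iff.2 ⟨n, ?_⟩)).symm)
      rw [map_mul, map_mul, ← e1, mul_assoc _ n⁻¹, co_r F hn.pinv (Perm.inv_eq_iff_eq.2 ((z1 _).1 hh).2.1.symm)]
      group

theorem mem_pre (hr : g * ψ P.r = ψ P.r * g) (ht : g * ψ P.t = ψ P.t * g) :
    g ∈ pre ψ k ⊤ Γ0 ↔ g * μ ψ k 448 * g⁻¹ = μ ψ k 448 ∨ g * μ ψ k 448 * g⁻¹ = μ ψ k 481 := by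
  refine ⟨fun ⟨_, γ, h1, h2⟩ => ((z1 _).1 h1).2.2.imp (fun e => by rw [h2, e]) fun e => by rw [h2, e], fun h => ?_⟩
  obtain ⟨γ, h1, h2⟩ := ex F ht
  rw [h2] at h
  exact ⟨trivial, γ, (z1 _).2 ⟨h1, F.μinj (by rw [← h2, F.μ_rs.1, hr, mul_inv_cancel_right]),
    h.imp (fun e => F.μinj e) fun e => F.μinj e⟩, h2⟩

end D1x

open D1x in
theorem d1Thm : D1Thm.{u} := fun m G _ _ ψ θ k R c F => by
  obtain ⟨Γ0, z1, -, z3, z4, z5, -⟩ := m.zero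
  have cs : Co ψ k (ψ P.s) (inn 64) := F.μ_rs.2 ▸ F.coμ 64
  have sr : ψ P.s ∈ centralizer {ψ P.r} := mem_centralizer_singleton_iff.2 (co_r F cs (by decide +kernel))
  have σr : ψ P.σ ∈ centralizer {ψ P.r} := mem_centralizer_singleton_iff.2 (co_r F F.coσ (by decide +kernel))
  have st := co_t cs (by decide +kernel)
  have h1 : ∀ g, g * ψ P.r = ψ P.r * g → g * ψ P.t = ψ P.t * g → ψ P.s * g ∈ pre ψ k ⊤ Γ0 ∨ g ∈ pre ψ k ⊤ Γ0 :=
    fun g hr ht => by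
    obtain ⟨γ, h1, h2⟩ := ex F ht
    exact (z3 γ h1 (F.μinj (by rw [← h2, F.μ_rs.1, hr, mul_inv_cancel_right]))).symm.imp
      (fun h => ⟨trivial, _, h, cs.pmul h2⟩) fun h => ⟨trivial, _, h, h2⟩
  have h2 : (pre ψ k ⊤ Γ0).relIndex (centralizer {ψ P.r} ⊓ centralizer {ψ P.t}) = 2 :=
    relIndex_eq_two_iff_exists_notMem_and'.2 ⟨ψ P.s, ⟨sr, mem_centralizer_singleton_iff.2 st⟩, fun ⟨_, γ, a, b⟩ => by
      have := ((z1 _).1 a).2.2
      rw [b.uniq F.μinj cs] at this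
      exact absurd this (by decide +kernel),
      fun g hg => h1 g (mem_centralizer_singleton_iff.1 hg.1) (mem_centralizer_singleton_iff.1 hg.2)⟩
  have tt : ∀ u : centralizer ({ψ P.r} : Set G), IsConj (ψ P.r) u → IsConj (ψ P.r) (u * ψ P.r) →
      ∃ N : Subgroup (centralizer ({ψ P.r} : Set G)), N.index = 2 ∧ u ∉ N := fun u a b => by
    obtain ⟨N, -, h⟩ := CL.Transfer.thompson_transfer _ ((pre ψ k ⊤ Γ0).subgroupOf _) (odd F m)
      ((relIndex_subgroupOf inf_le_left).trans h2) u (Subtype.ext (by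
        obtain ⟨n, e⟩ := isConj_iff.1 a
        rw [coe_pow, ← e, conj_pow, ← map_pow, show P.r ^ 2 = 1 by decide +kernel, map_one, mul_one, mul_inv_cancel,
          coe_one])) fun g ⟨_, γ, h3, h4⟩ => no F z1 z5 h3 h4 (a.trans (isConj_iff.2 ⟨g, rfl⟩))
        (b.trans (isConj_iff.2 ⟨g, by
          change _ = (g : G) * u * (g : G)⁻¹ * _
          rw [mul_assoc _ (g : G)⁻¹, mem_centralizer_singleton_iff.1 (inv_mem g.2)]; group⟩))
    exact ⟨N, h⟩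
  obtain ⟨N1, a1, a2⟩ := tt ⟨_, sr⟩ (ψ.map_isConj cj_r_s)
    (by rw [mem_centralizer_singleton_iff.1 sr, ← map_mul]; exact ψ.map_isConj cj_r_rs)
  obtain ⟨N2, b1, b2⟩ := tt ⟨_, σr⟩ (ψ.map_isConj cj_r_σ) (by rw [← map_mul]; exact ψ.map_isConj cj_r_σr)
  obtain ⟨N, n1, n2, n3⟩ := two a1 b1 a2 b2
  have mm : ∀ {g} (hg : g ∈ centralizer {ψ P.r}), g ∈ N.map (centralizer {ψ P.r}).subtype ↔ ⟨g, hg⟩ ∈ N := fun hg =>
    mem_map_iff_mem (x := ⟨_, hg⟩) (subtype_injective _)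
  have sq : ∀ {g}, g * ψ P.r = ψ P.r * g → g * g ∈ N.map (centralizer {ψ P.r}).subtype := fun hg =>
    mem_map_of_mem _ (mul_self_mem_of_index_two n1 ⟨_, mem_centralizer_singleton_iff.2 hg⟩)
  have ht : ψ P.t ∈ N.map (centralizer {ψ P.r}).subtype := by
    have := sq (co_r F (F.coμ 448) (by decide +kernel))
    rwa [← F.μmul, show mc 448 448 = 1 by decide +kernel, (μ_vals ψ k).2.1] at this
  have h3 : Γ0 ≤ img ψ k (N.map (centralizer {ψ P.r}).subtype) := z4.trans ((closure_le _).2 (by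
    rintro d (⟨h4, h5⟩ | rfl)
    · obtain ⟨g, hg⟩ := lift F ((z1 _).1 h4).1
      have h6 := co_pow hg 15
      rw [h5] at h6
      refine ⟨g, ?_, hg⟩
      rw [show g = g ^ 15 * ((g * g) ^ 7)⁻¹ by rw [← pow_two]; group]
      exact mul_mem ((F.cR _ h6).elim (fun e => e ▸ one_mem _) fun e => e ▸ ht)
        (inv_mem (pow_mem (sq (co_r F hg ((z1 _).1 h4).2.1)) 7))
    · exact ⟨_, (mm (mul_mem sr σr)).2 ((mul_mem_iff_of_index_two n1 (a := ⟨_, sr⟩) (b := ⟨_, σr⟩)).2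
        (iff_of_false n2 n3)), cs.pmul F.coσ⟩))
  have h4 : pre ψ k ⊤ Γ0 ≤ N.map (centralizer {ψ P.r}).subtype := fun g ⟨_, γ, a, b⟩ => by
    obtain ⟨g', a', b'⟩ := h3 a
    exact (ker F b b').elim (fun e => e ▸ a') fun e => e ▸ mul_mem a' ht
  refine ⟨_, F, map_subtype_le N, ?_, fun g hr hg => Iff.trans ⟨fun h => (h1 g hr hg).resolve_left fun h' =>
    n2 ((mm sr).1 ((mul_mem_cancel_right h).1 (h4 h'))), fun h => h4 h⟩ (mem_pre F z1 hr hg)⟩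
  rwa [relIndex, subgroupOf, comap_map_eq_self_of_injective (subtype_injective _)]

end CL.HN3
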