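/-
The 3-local characterisation of the Harada–Norton group: the generators of the model as networks.
-/
import Cfsg.Agent.Hn3.Defs
import Cfsg.Agent.Hn3.MFm

set_option autoImplicit false
set_option maxRecDepth 200000
set_option Elab.async false

namespace CL.HN3

open Subgroup Cfsg Equiv CL.PG

namespace MFx

noncomputable def gs0 : List (Perm Cd) :=
  [M.y, M.y', M.w, M.k, M.a, M.σ, M.i, inn 2, inn 4, inn 8, inn 16, inn 32, inn 64, inn 128, inn 256]

theorem rp (g : Perm Cd) {a : Net} (h1 : keepB P.n P.N a = true)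
    (h2 : P.fnB (fun i => (g (eF 512 i)).1) a 0 P.n = true) : RepN (eF 512) P.n P.N g a :=
  RepN.of_fn hP (fun _ _ => ⟨(g _).2, (eF_coe _).symm⟩) h1 h2

theorem r0 : RepN (eF 512) P.n P.N M.y a0 := rp _ (by decide +kernel) (by decide +kernel)
theorem r1 : RepN (eF 512) P.n P.N M.y' a1 := rp _ (by decide +kernel) (by decide +kernel)
theorem r2 : RepN (eF 512) P.n P.N M.w a2 := rp _ (by decide +kernel) (by decide +kernel)
theorem r3 : RepN (eF 512) P.n P.N M.k a3 := rp _ (by decide +kernel) (by decide +kernel)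
theorem r4 : RepN (eF 512) P.n P.N M.a a4 := rp _ (by decide +kernel) (by decide +kernel)
theorem r5 : RepN (eF 512) P.n P.N M.σ a5 := rp _ (by decide +kernel) (by decide +kernel)
theorem r6 : RepN (eF 512) P.n P.N M.i a6 := rp _ (by decide +kernel) (by decide +kernel)
theorem r7 : RepN (eF 512) P.n P.N (inn 2) a7 := rp _ (by decide +kernel) (by decide +kernel)
theorem r8 : RepN (eF 512) P.n P.N (inn 4) a8 := rp _ (by decide +kernel) (by decide +kernel)
theorem r9 : RepN (eF 512) P.n P.N (inn 8) a9 := rp _ (by decide +kernel) (by decide +kernel)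
theorem r10 : RepN (eF 512) P.n P.N (inn 16) a10 := rp _ (by decide +kernel) (by decide +kernel)
theorem r11 : RepN (eF 512) P.n P.N (inn 32) a11 := rp _ (by decide +kernel) (by decide +kernel)
theorem r12 : RepN (eF 512) P.n P.N (inn 64) a12 := rp _ (by decide +kernel) (by decide +kernel)
theorem r13 : RepN (eF 512) P.n P.N (inn 128) a13 := rp _ (by decide +kernel) (by decide +kernel)
theorem r14 : RepN (eF 512) P.n P.N (inn 256) a14 := rp _ (by decide +kernel) (by decide +kernel)

theorem c0 : Ctx P (eF 512) gs0 ns0 [] chk0 := Ctx.mk0 hP (injLt_eF 512)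
  (.cons r0 (.cons r1 (.cons r2 (.cons r3 (.cons r4 (.cons r5 (.cons r6 (.cons r7 (.cons r8 (.cons r9 (.cons r10
    (.cons r11 (.cons r12 (.cons r13 (.cons r14 (Good.nil _ _ _))))))))))))))))

end MFx

end CL.HN3
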