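/-
The 3-local characterisation of the Harada–Norton group: the commutator form on the codes.
-/
import Cfsg.Agent.Hn3.Defs

set_option autoImplicit false
set_option maxRecDepth 200000
set_option Elab.async false

namespace CL.HN3

open Subgroup Cfsg Equiv

namespace MFx

def cm (a b : ℕ) : Bool := mcN (a * 2) (b * 2) != mcN (b * 2) (a * 2)

def c1 (a b : ℕ) : Bool := be (a * 2) (b * 2) != be (b * 2) (a * 2)

theorem cm_eq (a b : ℕ) : cm a b = (c1 (a % 16) (b % 16) ^^ c1 (a / 16) (b / 16)) := by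
  have h : ∀ a, a * 2 % 32 = a % 16 * 2 ∧ a * 2 / 32 = a / 16 := fun a => by omega
  have l : ∀ a b, be a b = 0 ∨ be a b = 1 := fun a b => Nat.mod_two_eq_zero_or_one _
  rw [cm, mcN, mcN, Nat.xor_comm (b * 2), c1, c1, (h a).1, (h a).2, (h b).1, (h b).2, Bool.eq_iff_iff, bne_iff_ne, Ne,
    Nat.xor_right_inj]
  rcases l (a % 16 * 2) (b % 16 * 2) with e1 | e1 <;> rcases l (b % 16 * 2) (a % 16 * 2) with e2 | e2 <;>
    rcases l (a / 16 * 2) (b / 16 * 2) with e3 | e3 <;> rcases l (b / 16 * 2) (a / 16 * 2) with e4 | e4 <;>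
    rw [e1, e2, e3, e4] <;> decide

theorem c1_xor : ∀ a < 16, ∀ a' < 16, ∀ b < 16, c1 (a ^^^ a') b = (c1 a b ^^ c1 a' b) := by decide +kernel

theorem cm_step (a : ℕ) (ha : a < 256) (b : ℕ) (hb : b < 256) :
    cm a b = (cm (a - 2 ^ a.log2) b ^^ cm (2 ^ a.log2) b) ∨ a = 0 := by
  refine ((by decide +kernel : ∀ a < 256, (a = (a - 2 ^ a.log2) ^^^ 2 ^ a.log2 ∧ 2 ^ a.log2 < 256) ∨ a = 0) a ha).imp_left
    fun ⟨e, h⟩ => ?_
  generalize 2 ^ a.log2 = v at e h ⊢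
  have hu : a - v < 256 := by omega
  generalize a - v = u at e hu ⊢
  have e1 : (u ^^^ v) % 16 = u % 16 ^^^ v % 16 := Nat.xor_mod_two_pow (n := 4)
  have e2 : (u ^^^ v) / 16 = u / 16 ^^^ v / 16 := Nat.xor_div_two_pow (n := 4)
  rw [e, cm_eq, cm_eq u, cm_eq v, e1, e2, c1_xor _ (by omega) _ (by omega) _ (by omega),
    c1_xor _ (by omega) _ (by omega) _ (by omega)]
  cases c1 (u % 16) (b % 16) <;> cases c1 (v % 16) (b % 16) <;> cases c1 (u / 16) (b / 16) <;>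
    cases c1 (v / 16) (b / 16) <;> rfl

theorem cm_zero : ∀ b < 256, cm 0 b = false := by decide +kernel

theorem lg : ∀ a < 256, a = 0 ∨ ∃ i ∈ [14, 16, 18, 20, 22, 24, 26, 28], 2 ^ a.log2 = 2 ^ (i / 2 - 7) ∧ 2 ^ a.log2 ≤ a := by
  decide +kernel

def key (a : ℕ) : ℕ := ([0, 1, 2, 3, 4, 5, 6, 7].map fun j => if cm a (2 ^ j) then 2 ^ j else 0).sum

theorem key_inj : ∀ a < 256, key (key (key (key (key (key a))))) = a := by decide +kernel

end MFx

end CL.HN3
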