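/-
The 3-local characterisation of the Harada–Norton group: the facts on the model of the centraliser of `t`.
-/
import Cfsg.Agent.Hn3.MFa
import Cfsg.Agent.Hn3.MFb

set_option autoImplicit false
set_option maxRecDepth 200000
set_option Elab.async false

namespace CL.HN3

open Subgroup Cfsg Equiv CL.PG

namespace MFx

noncomputable def gs : List (Perm Cd) := ext gs0 ws

theorem c : Ctx P (eF 512) gs ns D chk := ctx c0 (faithful_eF 512) fun _ _ => trivial

theorem wl (i : ℕ) (h : boundB 15 [[i]] = true := by decide +kernel) : wordG gs [i] = letG gs0 i :=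
  (wordG_ext (len c0) ws h).trans (wordG_single _ _)

theorem w0' : wordG gs [0] = M.y := wl 0
theorem w2' : wordG gs [2] = M.y' := wl 2
theorem w4' : wordG gs [4] = M.w := wl 4
theorem w6' : wordG gs [6] = M.k := wl 6
theorem w8' : wordG gs [8] = M.a := wl 8
theorem w10 : wordG gs [10] = M.σ := wl 10
theorem w12 : wordG gs [12] = M.i := wl 12
theorem w22 : wordG gs [22] = inn 32 := wl 22
theorem w24 : wordG gs [24] = inn 64 := wl 24

theorem hΓ : subW gs [[0], [2], [4], [6], [8]] = Γ := by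
  unfold subW Γ
  congr 1
  ext g
  simp only [List.mem_cons, List.not_mem_nil, or_false, exists_eq_or_imp, exists_eq_left, Set.mem_ofPred_eq, w0', w2',
    w4', w6', w8', Set.mem_insert_iff, Set.mem_singleton_iff, eq_comm (a := g)]

noncomputable abbrev I : Subgroup (Perm Cd) := subW gs [[14], [16], [18], [20], [22], [24], [26], [28]]

theorem inn_ap (a b : Cd) : inn a b = if cm (a.1 / 2) (b.1 / 2) then fl b else b := rfl

theorem inn_mem : ∀ (n : ℕ) (a : Cd), a.1 / 2 = n → inn a ∈ I := fun n => by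
  induction n using Nat.strong_induction_on with
  | _ n ih =>
  intro a ha
  have hn : n < 256 := by omega
  have hb : ∀ b : Cd, b.1 / 2 < 256 := fun b => by omega
  rcases lg n hn with rfl | ⟨i, hi, e, hle⟩
  · exact (show inn a = 1 from Equiv.ext fun b => by rw [inn_ap, ha, cm_zero _ (hb b)]; rfl) ▸ one_mem _
  have hp : 0 < 2 ^ n.log2 := by positivity
  obtain ⟨u, hu, mu⟩ : ∃ u : Cd, u.1 / 2 = 2 ^ n.log2 ∧ inn u ∈ I := by
    have m : wordG gs [i] ∈ I := mem_subW (by simpa using hi)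
    rw [e]
    simp only [List.mem_cons, List.not_mem_nil, or_false] at hi
    rcases hi with rfl | rfl | rfl | rfl | rfl | rfl | rfl | rfl
    exacts [⟨2, rfl, (wl 14 ▸ m :)⟩, ⟨4, rfl, (wl 16 ▸ m :)⟩, ⟨8, rfl, (wl 18 ▸ m :)⟩, ⟨16, rfl, (wl 20 ▸ m :)⟩,
      ⟨32, rfl, (wl 22 ▸ m :)⟩, ⟨64, rfl, (wl 24 ▸ m :)⟩, ⟨128, rfl, (wl 26 ▸ m :)⟩, ⟨256, rfl, (wl 28 ▸ m :)⟩]
  have : inn a = inn ⟨(n - 2 ^ n.log2) * 2, by omega⟩ * inn u := Equiv.ext fun b => by
    have h := (cm_step n hn _ (hb b)).resolve_right (by omega)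
    rw [Perm.mul_apply, inn_ap, inn_ap, inn_ap, ha, hu, h, Nat.mul_div_cancel _ two_pos]
    cases h2 : cm (2 ^ n.log2) (b.1 / 2) <;> simp [fl_fl.1, fl_fl.2]
    cases cm (n - 2 ^ n.log2) (b.1 / 2) <;> simp
  exact this ▸ mul_mem (ih (n - 2 ^ n.log2) (by omega) _ (Nat.mul_div_cancel _ two_pos)) mu

theorem fl_ne : ∀ a, fl a ≠ a := by decide +kernel

theorem hI {g : Perm Cd} : g ∈ I ↔ ∃ a, g = inn a := by
  refine ⟨fun hg => ?_, fun ⟨a, e⟩ => e ▸ inn_mem _ a rfl⟩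
  let f : Fin 256 → I := fun a => ⟨inn ⟨a.1 * 2, by omega⟩, inn_mem _ _ rfl⟩
  have hf : Function.Injective f := fun a b e => by
    have k : ∀ j < 8, cm a (2 ^ j) = cm b (2 ^ j) := fun j hj => by
      have : 2 ^ j < 2 ^ 8 := Nat.pow_lt_pow_right one_lt_two hj
      have := Equiv.congr_fun (congrArg Subtype.val e) ⟨2 ^ j * 2, by omega⟩
      simp only [f, inn_ap, Nat.mul_div_cancel _ two_pos] at this
      revert this
      cases cm a (2 ^ j) <;> cases cm b (2 ^ j) <;> simp [fl_ne, (fl_ne _).symm]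
    have : key a = key b := by
      simp only [key, List.map_cons, List.map_nil, k 0 (by omega), k 1 (by omega), k 2 (by omega), k 3 (by omega),
        k 4 (by omega), k 5 (by omega), k 6 (by omega), k 7 (by omega)]
    exact Fin.ext (by rw [← key_inj a a.2, this, key_inj b b.2])
  obtain ⟨a, e⟩ := (hf.bijective_of_nat_card_le (by rw [I_card c]; simp)).2 ⟨g, hg⟩
  exact ⟨_, (congrArg Subtype.val e).symm⟩

theorem mm (m : ℕ) (a : Cd) : a ∈ mset (eF 512) P.n m ↔ m.testBit a = true := by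
  rw [← mem_mset (e := eF 512) (n := P.n) (injLt_eF 512) a.2, eF_coe]

theorem ss {m : ℕ} {g : Perm Cd} (h : g ∈ sstab (Perm Cd) (mset (eF 512) P.n m)) (a : Cd) :
    m.testBit (g a) = m.testBit a := by
  rw [Bool.eq_iff_iff, ← mm, ← mm]; exact h a

theorem sst {m : ℕ} {g : Perm Cd} (h : ∀ a : Cd, m.testBit a = true → m.testBit (g a) = true) :
    g ∈ sstab (Perm Cd) (mset (eF 512) P.n m) :=
  mem_sstab_of_mapsTo (Set.toFinite _) fun a ha => (mm _ _).2 (h a ((mm _ _).1 ha))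

theorem orb {H : Subgroup (Perm Cd)} {i m : ℕ} (h : MulAction.orbit H (eF 512 i) = mset (eF 512) P.n m) {a : Cd}
    (ha : m.testBit a = true) : ∃ g ∈ H, g (eF 512 i) = a :=
  let ⟨g, e⟩ := h.ge ((mm _ _).2 ha); ⟨g, g.2, e⟩

theorem nrm {g y : Perm Cd} (hy : y ∈ Γ) (hg : g ∈ I) : ∃ a, y * g * y⁻¹ = inn a :=
  hI.1 ((mem_normalizer_iff.1 (nI c (hΓ ▸ hy)) g).1 hg)

theorem unc {r y g : Perm Cd} (h : y * r * y⁻¹ = g) : y⁻¹ * g * y⁻¹⁻¹ = r := by rw [← h]; group

theorem fct {p k m o : ℕ} (hp : p.Prime) (h : o = p ^ k * m) (hm : ¬ p ∣ m) : o.factorization p = k := by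
  have h0 : m ≠ 0 := fun e => hm (e ▸ dvd_zero p)
  rw [h, Nat.factorization_mul (pow_ne_zero _ hp.ne_zero) h0, hp.factorization_pow]
  simp [Nat.factorization_eq_zero_of_not_dvd hm]

theorem mS {g : Perm Cd} : g ∈ subW gs [[30], [32]] ↔ g ∈ Γ ∧ g 32 = 32 := by rw [← stS c, hΓ]; rfl

theorem mZ {g : Perm Cd} (h : g ∈ subW gs [[366]]) : g = 1 ∨ g = inn 32 := by
  have e : wordG gs [366] = inn 32 := (ez c).trans w22
  have h2 : inn 32 * inn 32 = 1 := by rw [← pow_two]; exact (eI c).2 _ (hI.2 ⟨_, rfl⟩)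
  refine closure_induction (p := fun g _ => g = 1 ∨ g = inn 32) ?_ (.inl rfl) ?_ ?_ h
  · rintro _ ⟨w, hw, rfl⟩
    rw [List.mem_singleton.1 hw]; exact .inr e
  · rintro _ _ - - (rfl | rfl) (rfl | rfl) <;> simp [h2]
  · rintro _ - (rfl | rfl)
    exacts [.inl inv_one, .inr (inv_eq_of_mul_eq_one_right h2)]

theorem mH {g : Perm Cd} : g ∈ subW gs l0 ↔ g ∈ Γ ∧ g 32 = 32 ∧ (g 448 = 448 ∨ g 448 = 481) := by
  have k : ∀ g ∈ subW gs [[30], [32]], g 448 = 448 → g ∈ subW gs l0 := fun g h e => s2H c ((stS2 c).le ⟨h, e⟩)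
  refine ⟨fun h => ⟨(mS.1 (hS c h)).1, (mS.1 (hS c h)).2, ?_⟩, fun ⟨h1, h2, h3⟩ => ?_⟩
  · exact (by decide +kernel : ∀ a : Cd, miH.testBit a = miH.testBit (448 : Cd) → a = 448 ∨ a = 481) _ (ss (iH c h) 448)
  · rcases h3 with e | e
    · exact k g (mS.2 ⟨h1, h2⟩) e
    · obtain ⟨h, m, e'⟩ := h0 c
      have e' : h 448 = 481 := e'
      exact (mul_mem_cancel_left (inv_mem m)).1 (k _ (mul_mem (inv_mem (hS c m)) (mS.2 ⟨h1, h2⟩)) (by
        rw [Perm.mul_apply, e, ← e']; exact h.symm_apply_apply _))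

noncomputable def cfB : Bool := allL (fun p : ℕ × List ℕ => bnd (leB D [p.2] [[0], [2], [4], [6], [8]])
  (bnd (tb (gathW 0 P.N ns p.2 0x3030303) p.1) (allL (fun q : ℕ × List ℕ =>
    bor (tb (gathW 0 P.N ns p.2 0x3030303) q.1) (!isB (mc (eF 512 p.1) (eF 512 q.1)))) cf))) cf

theorem cf1 : cfB = true := by decide +kernel

theorem cf2 : ∀ a : Cd, isB a → isA (mc 32 a) → a.1 ∈ mapL Prod.fst cf := by decide +kernel

theorem cf3 (w : List ℕ) (a : Cd) (h : tb (gathW 0 P.N ns w 0x3030303) a = true) : isV (wordG gs w a) := by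
  obtain ⟨h1, h2⟩ := c.good.rep_word w a a.2
  rw [tb_eq, testBit_gathW0 c.good.okL w _ (lt_of_lt_of_le a.2 c.ok.1), ← eF_val (n := 512) h1, ← h2, eF_coe] at h
  exact (by decide +kernel : ∀ a : Cd, Nat.testBit 0x3030303 a = true → isV a) _ h

end MFx

open MFx in
theorem mf : MF where
  card := hΓ ▸ G_card c
  inn_mem a := hΓ ▸ iG c (hI.2 ⟨a, rfl⟩)
  σ_mem := hΓ ▸ w10 ▸ sG c (mem_subW (by simp))
  i_mem := hΓ ▸ w12 ▸ sG c (mem_subW (by simp))
  invA g hg a := by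
    have k : ∀ a : Cd, isA a = miA.testBit a := by decide +kernel
    rw [k, k, ss (iA c (hΓ ▸ hg))]
  orbA a h := hΓ ▸ orb (oA c) ((by decide +kernel : ∀ a : Cd, isA a → moA.testBit a) a h)
  orbB a h := hΓ ▸ orb (oB c) ((by decide +kernel : ∀ a : Cd, isB a → moB.testBit a) a h)
  orb4 a h := hΓ ▸ orb (o4 c) ((by decide +kernel : ∀ a : Cd, mc a a = 1 → mo4.testBit a) a h)
  pair a h h' :=
    let ⟨g, m, e⟩ := orb (oP c) ((by decide +kernel : ∀ a : Cd, isA a → isA (mc 32 a) → moP.testBit a) a h h')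
    ⟨g, (mS.1 m).1, (mS.1 m).2, e⟩
  cfg a b h1 h2 h3 h4 h5 := by
    obtain ⟨p, hp, ea⟩ := of_mem_mapL (cf2 a h1 h3)
    obtain ⟨q, hq, eb⟩ := of_mem_mapL (cf2 b h2 h4)
    obtain ⟨k1, k2⟩ := bnd_iff.1 (allL_spec cf1 p hp)
    obtain ⟨k2, k3⟩ := bnd_iff.1 k2
    have k3 := allL_spec k3 q hq
    rw [ea, eb, eF_coe, eF_coe, h5] at k3
    rw [ea] at k2
    exact ⟨wordG gs p.2, hΓ ▸ c.mem k1, cf3 _ _ k2, cf3 _ _ (by revert k3; cases tb _ _ <;> simp [bor])⟩
  cls g hg h := by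
    obtain ⟨r, hr, y, hy, e⟩ := (v_cls c).up (k := 13) Nat.prime_two (G_card c)
      (fct (m := 225) Nat.prime_two (by norm_num) (by norm_num)) (T_card c) (tG c) g (hΓ ▸ hg) (by rw [pow_two, h])
    rw [hΓ] at hy
    rcases vk c r hr with m | rfl | rfl | rfl
    · exact .inl (e ▸ nrm hy m)
    · exact .inr ⟨_, inv_mem hy, .inl ((unc e).trans w6')⟩
    · exact .inr ⟨_, inv_mem hy, .inr (.inl ((unc e).trans w12))⟩
    · exact .inr ⟨_, inv_mem hy, .inr (.inr ((unc e).trans w10))⟩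
  syl := ⟨subW gs lT, hΓ ▸ tG c, T_card c, fun g hg =>
    (by decide +kernel : ∀ a : Cd, miT.testBit a = miT.testBit (8 : Cd) → a = 8 ∨ a = 9) _ (ss (iT c hg) 8)⟩
  cl3 g hg h := by
    obtain ⟨r, hr, y, hy, e⟩ := (u_cls c).up (k := 2) Nat.prime_three (G_card c)
      (fct (m := 204800) Nat.prime_three (by norm_num) (by norm_num)) (X_card c) (xG c) g (hΓ ▸ hg) h
    rw [hΓ] at hy
    simp only [List.mem_cons, List.not_mem_nil, or_false] at hr
    rcases hr with rfl | rfl | rfl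
    · exact .inl (by rw [← e, wordG_nil, mul_one, mul_inv_cancel])
    · exact .inr ⟨_, inv_mem hy, .inl ((unc e).trans w0')⟩
    · refine .inr ⟨_, inv_mem hy, .inr ((unc e).trans ?_)⟩
      rw [← w0', ← w2', ← wordG_append]
      exact c.eq (by decide +kernel)
  cry g hg h := by
    have k : ∀ m ∈ sK_ms, ∀ a : Cd, m.testBit a → a.1 < 32 ∧ m.testBit (a.1 / 2 * 2) ∧ m.testBit (a.1 / 2 * 2 + 1) := by
      decide +kernel
    have := (eI c).2 _ (kp c g ((sK c g).2 ⟨hΓ ▸ hg, fun m hm => sst fun a ha => ?_⟩))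
    · rwa [← pow_mul] at this
    obtain ⟨h1, h2, h3⟩ := k m hm a ha
    have := h a h1
    rcases Nat.mod_two_eq_zero_or_one (g a).1 with e | e
    · rwa [show (g a).1 = a.1 / 2 * 2 by omega]
    · rwa [show (g a).1 = a.1 / 2 * 2 + 1 by omega]
  zr g hg h := mZ ((sZ c g).2 ⟨hΓ ▸ hg, fun m hm => sst fun a ha => by
    rwa [h a ((by decide +kernel : ∀ m ∈ sZ_ms, ∀ a : Cd, m.testBit a → cmt a 32 = false) m hm a ha)]⟩)
  zero := by
    refine ⟨subW gs l0, fun _ => mH, H_card c, fun g hg h => ?_, subW_le.2 fun w hw => subset_closure ?_,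
      fun g hg h => ?_, ?_, subW gs lA, fun g => ?_, cA c, fun g hg => mZ (ap c g hg),
      fun g hg h hh => mZ (ac c (commutator_mem_commutator hg hh))⟩
    · have e := ((subW gs l0).subgroupOf (subW gs [[30], [32]])).index_mul_card
      rw [Nat.card_congr (subgroupOfEquivOfLe (hS c)).toEquiv, cS c, H_card c] at e
      have m : inn 64 ∈ subW gs [[30], [32]] := mS.2 ⟨hΓ ▸ iG c (hI.2 ⟨_, rfl⟩), by decide +kernel⟩
      refine or_iff_not_imp_left.2 fun hn => ?_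
      exact (mul_mem_iff_of_index_two (H := (subW gs l0).subgroupOf _) (by omega) (a := ⟨_, m⟩)
        (b := ⟨g, mS.2 ⟨hg, h⟩⟩)).2 (iff_of_false (fun h => (by decide +kernel : ¬ (inn 64 448 = 448 ∨ inn 64 448 = 481))
          (mH.1 h).2.2) hn)
    · have m := mem_subW (gs := gs) hw
      simp only [List.mem_cons, List.not_mem_nil, or_false] at hw
      rcases hw with rfl | rfl | rfl
      · exact .inl ⟨m, d0 c⟩
      · exact .inl ⟨m, d1 c⟩
      · exact .inr (by rw [ex c, ← w24, ← w10, ← wordG_append]; rfl)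
    · obtain ⟨r, hr, y, hy, e⟩ := (w_cls c).up (k := 9) Nat.prime_two (H_card c)
        (fct (m := 15) Nat.prime_two (by norm_num) (by norm_num)) (U_card c) (uH c) g hg (by rw [pow_two, h])
      rcases wk c r hr with m | rfl
      · exact .inl (e ▸ nrm (mH.1 hy).1 m)
      · exact .inr ⟨_, inv_mem hy, (unc e).trans w4'⟩
    · obtain ⟨-, f, f1, f2⟩ := (q c).congr CL.Std.S5.iso
      refine ⟨f, f1, fun g => ?_⟩
      rw [← MonoidHom.mem_ker, f2, mem_subgroupOf, sJ c, ← hI]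
      refine and_iff_left fun m hm => ?_
      rcases (by decide +kernel : ∀ m ∈ sJ_ms, m = miH ∨ ∀ a : Cd, m.testBit a → a = 32) m hm with rfl | k
      · exact iH c g.2
      · exact sst fun a ha => by rwa [k a ha, (mH.1 g.2).2.1, ← k a ha]
    · rw [← stA2 c, ← stA1 c]
      exact and_assoc

end CL.HN3
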