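/-
The 3-local characterisation of the Harada–Norton group: `C(r, s)` lies in `A₁₂`.
-/
import Cfsg.Agent.Hn3.Ku
import Cfsg.Agent.Rec.A8Setup
import Cfsg.Agent.Rec.Gen2

set_option autoImplicit false
set_option synthInstance.maxSize 4096

namespace CL.HN3

open Subgroup Cfsg CL.Grp Equiv CL.Rec

universe u

namespace C1x

variable {X : Type*} [Group X]

theorem four (f : X ≃* X) {z w : X} (h1 : z ≠ w) (h2 : z ≠ w⁻¹)
    (hz : (f z = z ∨ f z = z⁻¹) ∨ f z = w ∨ f z = w⁻¹) (hw : (f w = z ∨ f w = z⁻¹) ∨ f w = w ∨ f w = w⁻¹) :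
    f (f (f (f z))) = z := by
  rcases hz with (e | e) | e | e
  · simp [e]
  · simp [e]
  · rcases hw with (e' | e') | e' | e'
    · simp [e, e']
    · simp [e, e']
    · exact absurd (f.injective (e.trans e'.symm)) h1
    · exact absurd (f.injective (by rw [e, map_inv, e', inv_inv])) h2
  · rcases hw with (e' | e') | e' | e'
    · simp [e, e']
    · simp [e, e']
    · exact absurd (f.injective (by rw [e, map_inv, e'])) h2
    · exact absurd (f.injective (e.trans e'.symm)) h1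

theorem odd4 {n a : X} {k : ℕ} (h : n ^ 3 ^ k = 1)
    (e : MulAut.conj n (MulAut.conj n (MulAut.conj n (MulAut.conj n a))) = a) : Commute n a := by
  have h4 : Commute (n ^ 4) a := by
    rw [commute_iff_eq, ← mul_inv_eq_iff_eq_mul]
    refine Eq.trans ?_ e
    simp only [MulAut.conj_apply, pow_succ, pow_zero, one_mul, mul_inv_rev, mul_assoc]
  obtain ⟨m, hm⟩ := exists_pow_eq_self_of_coprime (x := n) (n := 4)
    (Nat.Coprime.coprime_dvd_right (orderOf_dvd_of_pow_eq_one h) (Nat.Coprime.pow_right k (by decide)))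
  exact hm ▸ h4.pow_left m

/-- the 3-cycle -/
abbrev c : S5 := cy3 2 3 4

theorem dec : c ^ 3 = 1 ∧ c ≠ 1 ∧ Perm.sign (swap 0 1 * swap 2 3 : S5) = 1 ∧ Perm.sign (swap 0 1 : S5) = -1 ∧
    swap 0 1 * swap 2 3 * c * (swap 0 1 * swap 2 3)⁻¹ = c⁻¹ ∧
    (∀ b, Perm.sign b = 1 → b * c = c * b → b = 1 ∨ b = c ∨ b = c⁻¹) ∧
    ∃ b : S5, b ^ 5 = 1 ∧ b ≠ 1 ∧ Perm.sign b = 1 := by decide +kernel

theorem syl27 [Finite X] {z : X} {σ : S5 →* X} (ord : orderOf z = 3) (inj : ∀ b, σ b ∈ zpowers z → b = 1)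
    (even : ∀ b, Perm.sign b = 1 → σ b * z * (σ b)⁻¹ = z) (odd : ∀ b, Perm.sign b = -1 → σ b * z * (σ b)⁻¹ = z⁻¹)
    (norm : ∀ g, g * z * g⁻¹ = z ∨ g * z * g⁻¹ = z⁻¹ → ∃ b, ∃ x ∈ zpowers z, g = σ b * x)
    (sw : IsConj z (σ c)) (ny : ¬ IsConj z (z * σ c)) : ¬ 27 ∣ Nat.card X := by
  have := Fact.mk Nat.prime_three
  obtain ⟨c3, c1, d1, d2, d3, d4, -⟩ := dec
  have hi : Function.Injective σ := (injective_iff_map_eq_one σ).2 fun b hb => inj b (hb ▸ one_mem _)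
  have ow : orderOf (σ c) = 3 := by rw [orderOf_injective σ hi, CL.Rec.ord3 c3 c1]
  have hc : Commute z (σ c) := (mul_inv_eq_iff_eq_mul.1 (even c (sign_of_cube c3))).symm
  have he : IsConj z z⁻¹ := isConj_iff.2 ⟨_, odd _ d2⟩
  have hi' : ∀ {a : X}, IsConj z a⁻¹ → IsConj z a := fun h => by simpa using he.trans (isConj_inv_inv h)
  have ny' : ¬ IsConj z (z * (σ c)⁻¹) := fun h => ny (h.trans (IsConj.symm (isConj_iff.2 ⟨σ (swap 0 1 * swap 2 3), by
    rw [← conj_mul, even _ d1, ← map_inv σ c, ← d3, map_mul σ _ _⁻¹, map_mul σ _ c, map_inv]⟩)))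
  have hX : ∀ x ∈ zpowers z ⊔ zpowers (σ c), IsConj z x → (x = z ∨ x = z⁻¹) ∨ x = σ c ∨ x = (σ c)⁻¹ := fun x hx h => by
    rcases nine_cases ord ow hc hx with e | e | e | (e | e) | e | e
    · exact absurd (isConj_one_left.1 (e ▸ h)) (ne_one_of_ord3 ord)
    exacts [.inl e, .inr e, absurd (e ▸ h) ny, absurd (hi' (e ▸ h)) ny, absurd (e ▸ h) ny', absurd (hi' (e ▸ h)) ny']
  have h9 : Nat.card (zpowers z ⊔ zpowers (σ c) : Subgroup X) ∣ 3 ^ 2 := by
    have := card_sup_dvd (H := zpowers z) (K := zpowers (σ c))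
      (zpowers_le.2 (mem_normalizer_zpowers (by rw [hc.eq, mul_inv_cancel_right]; exact mem_zpowers _)))
    rwa [Nat.card_zpowers, Nat.card_zpowers, ord, ow] at this
  have h1 : z ≠ σ c := fun e => c1 (inj c (e ▸ mem_zpowers z))
  have h2 : z ≠ (σ c)⁻¹ := fun e => c1 (inj c (by rw [← inv_inv (σ c), ← e]; exact inv_mem (mem_zpowers z)))
  have hS : IsSylowIn 3 (zpowers z ⊔ zpowers (σ c)) ⊤ := isSylowIn_of_loc le_top (IsPGroup.of_card_dvd_pow h9)
    fun n _ hn k hk => by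
    have hz := hX _ ((mem_normalizer_iff.1 hn _).1 (mem_sup_left (mem_zpowers z))) (isConj_iff.2 ⟨n, rfl⟩)
    have hw := hX _ ((mem_normalizer_iff.1 hn _).1 (mem_sup_right (mem_zpowers (σ c))))
      (sw.trans (isConj_iff.2 ⟨n, rfl⟩))
    have k1 := odd4 hk (four (MulAut.conj n) h1 h2 hz hw)
    have k2 := odd4 hk (four (MulAut.conj n) h1.symm (fun e => h2 (by rw [e, inv_inv])) hw.symm hz.symm)
    obtain ⟨b, _, ⟨i, rfl⟩, rfl⟩ := norm n (.inl (mul_inv_eq_iff_eq_mul.2 k1))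
    refine mul_mem (mem_sup_right ?_) (mem_sup_left ⟨i, rfl⟩)
    have k3 : Commute (σ b) z := by simpa using k1.mul_left ((Commute.refl z).zpow_left i).inv_left
    have k4 : Commute (σ b) (σ c) := by simpa using k2.mul_left (hc.zpow_left i).inv_left
    rcases Int.units_eq_one_or (Perm.sign b) with e | e
    · rcases d4 b e (hi (by rw [map_mul, map_mul, k4.eq])) with rfl | rfl | rfl
      exacts [map_one σ ▸ one_mem _, mem_zpowers _, map_inv σ c ▸ inv_mem (mem_zpowers _)]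
    · have := odd b e
      rw [k3.eq, mul_inv_cancel_right, eq_inv_iff_mul_eq_one] at this
      exact absurd (eq_one_of_two_three this (cube_of_ord ord)) (ne_one_of_ord3 ord)
  intro h
  have h3 := hS.not_dvd
  rw [relIndex_top_right] at h3
  rw [← (zpowers z ⊔ zpowers (σ c)).card_mul_index] at h
  exact h3 ((Nat.mul_dvd_mul_iff_left (by norm_num : 0 < 3 ^ 2)).1 (h.trans (Nat.mul_dvd_mul_right h9 _)))

theorem card_le [Finite X] {r s z t : X} {σ : S5 →* X} (r2 : r * r = 1) (s2 : s * s = 1) (cr : ∀ g, Commute r g)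
    (cs : ∀ g, Commute s g) (z3 : z ^ 3 = 1) (z1 : z ≠ 1) (inj : ∀ b (i j e : ℕ), σ b = r ^ i * s ^ j * z ^ e → b = 1)
    (even : ∀ b, Perm.sign b = 1 → σ b * z * (σ b)⁻¹ = z) (odd : ∀ b, Perm.sign b = -1 → σ b * z * (σ b)⁻¹ = z⁻¹)
    (norm : ∀ g, g * z * g⁻¹ = z ∨ g * z * g⁻¹ = z⁻¹ → ∃ (b : S5) (i j e : ℕ), g = σ b * z ^ e * (r ^ i * s ^ j))
    (t2 : t * t = 1) (sw : t * z * t⁻¹ = σ c) (ty : Commute t (z * σ c)) (ny : ∀ g, g * z * g⁻¹ ≠ z * σ c)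
    (yD : ∀ g, Commute g (z * σ c) → g * z * g⁻¹ = z ∨ g * z * g⁻¹ = σ c) : Nat.card X ≤ 80640 := by
  obtain ⟨c3, c1, -⟩ := dec
  have hU : ∀ u ∈ zpowers r ⊔ zpowers s, ∃ i j : ℕ, u = r ^ i * s ^ j := fun u hu => by
    obtain ⟨a, ha, b, hb, rfl⟩ := exists_mul_of_mem_sup (cr s) hu
    obtain ⟨i, rfl⟩ := mem_powers_iff_mem_zpowers.2 ha
    obtain ⟨j, rfl⟩ := mem_powers_iff_mem_zpowers.2 hb
    exact ⟨i, j, rfl⟩
  have cU : ∀ u ∈ zpowers r ⊔ zpowers s, u * u = 1 ∧ ∀ g, Commute u g := fun u hu => by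
    obtain ⟨i, j, rfl⟩ := hU u hu
    exact ⟨by rw [← sq, ((cr _).pow_left i).mul_pow, ← pow_mul, ← pow_mul, mul_comm i, mul_comm j, pow_mul, pow_mul, sq, sq,
      r2, s2]; simp, fun g => ((cr g).pow_left i).mul_left ((cs g).pow_left j)⟩
  have h4 : Nat.card (zpowers r ⊔ zpowers s : Subgroup X) ≤ 4 := by
    have := card_sup_dvd (H := zpowers r) (K := zpowers s)
      (zpowers_le.2 (mem_normalizer_zpowers (by rw [(cr s).eq, mul_inv_cancel_right]; exact mem_zpowers _)))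
    rw [Nat.card_zpowers, Nat.card_zpowers] at this
    exact Nat.le_of_dvd (by norm_num) (this.trans (Nat.mul_dvd_mul (orderOf_dvd_of_pow_eq_one (n := 2) (by rw [sq, r2]))
      (orderOf_dvd_of_pow_eq_one (n := 2) (by rw [sq, s2]))))
  have mU : ∀ i j : ℕ, r ^ i * s ^ j ∈ zpowers r ⊔ zpowers s := fun i j =>
    mul_mem (mem_sup_left (pow_mem (mem_zpowers r) i)) (mem_sup_right (pow_mem (mem_zpowers s) j))
  generalize zpowers r ⊔ zpowers s = U at hU cU h4 mU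
  have : U.Normal := ⟨fun u hu g => by rwa [← ((cU u hu).2 g).eq, mul_inv_cancel_right]⟩
  have hπ := QuotientGroup.mk'_surjective U
  have hk := fun {x y} => QuotientGroup.mk'_eq_mk' U (x := x) (y := y)
  rw [card_eq_card_quotient_mul_card_subgroup U]
  generalize QuotientGroup.mk' U = π at hπ hk
  have lift : ∀ {a b}, a ^ 3 = 1 → b ^ 3 = 1 → π a = π b → a = b := fun {a b} ha hb e => by
    obtain ⟨u, hu, rfl⟩ := hk.1 e
    rw [((cU u hu).2 a).symm.mul_pow, ha, one_mul] at hb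
    rw [eq_one_of_two_three (cU u hu).1 hb, mul_one]
  have w3 : σ c ^ 3 = 1 := by rw [← map_pow, c3, map_one]
  have y3 : (z * σ c) ^ 3 = 1 := by
    rw [(show Commute z (σ c) from (mul_inv_eq_iff_eq_mul.1 (even c (sign_of_cube c3))).symm).mul_pow, z3, w3, mul_one]
  have cj : ∀ g {a b}, a ^ 3 = 1 → b ^ 3 = 1 → π g * π a * (π g)⁻¹ = π b → g * a * g⁻¹ = b := fun g a b ha hb e =>
    lift (by rw [conj_pow, ha]; simp) hb (by simpa using e)
  have mp : ∀ {g a b}, g * a * g⁻¹ = b → π g * π a * (π g)⁻¹ = π b := fun e => by rw [← e]; simp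
  have f1 : orderOf (π z) = 3 := CL.Rec.ord3 (by rw [← map_pow, z3, map_one]) fun e =>
    z1 (lift z3 (one_pow 3) (e.trans (map_one π).symm))
  have f2 : ∀ b, π.comp σ b ∈ zpowers (π z) → b = 1 := fun b hb => by
    obtain ⟨e, he⟩ := mem_powers_iff_mem_zpowers.2 hb
    obtain ⟨u, hu, h⟩ := hk.1 ((map_pow π z e).trans he)
    obtain ⟨i, j, rfl⟩ := hU u hu
    exact inj b i j e (by rw [← h, ((cU _ hu).2 _).eq])
  have f3 : ∀ b, Perm.sign b = 1 → π.comp σ b * π z * (π.comp σ b)⁻¹ = π z := fun b hb => mp (even b hb)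
  have f4 : ∀ b, Perm.sign b = -1 → π.comp σ b * π z * (π.comp σ b)⁻¹ = (π z)⁻¹ := fun b hb =>
    (mp (odd b hb)).trans (map_inv π z)
  have f5 : ∀ g, g * π z * g⁻¹ = π z ∨ g * π z * g⁻¹ = (π z)⁻¹ → ∃ b, ∃ x ∈ zpowers (π z), g = π.comp σ b * x :=
    fun g h => by
    obtain ⟨g, rfl⟩ := hπ g
    obtain ⟨b, i, j, e, rfl⟩ := norm g (h.imp (cj g z3 z3) fun h => cj g z3 (by rw [inv_pow, z3, inv_one])
      (h.trans (map_inv π z).symm))
    exact ⟨b, _, pow_mem (mem_zpowers _) e, by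
      rw [← hk.2 ⟨_, mU i j, rfl⟩, map_mul, map_pow]; rfl⟩
  have f6 : IsConj (π z) (π.comp σ c) := isConj_iff.2 ⟨_, mp sw⟩
  have f7 : ¬ IsConj (π z) (π z * π.comp σ c) := fun h => by
    obtain ⟨g, h⟩ := isConj_iff.1 h
    obtain ⟨g, rfl⟩ := hπ g
    exact ny g (cj g z3 y3 (h.trans (map_mul π _ _).symm))
  obtain ⟨e⟩ := (Fr.of_one f1 f2 f3 f4 f5 c3 c1 f6 f7 (fun g h => by
    obtain ⟨g, rfl⟩ := hπ g
    rcases yD g (mul_inv_eq_iff_eq_mul.1 (cj g y3 y3 (by rw [map_mul]; exact mul_inv_eq_iff_eq_mul.2 h))) with e | e <;>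
      rw [mp e]
    exacts [mem_sup_left (mem_zpowers _), mem_sup_right (mem_zpowers _)])
    ⟨π t, CL.Rec.ord2 (by rw [← map_mul, t2, map_one]) fun e => by
      obtain ⟨u, hu, h⟩ := hk.1 ((map_one π).trans e.symm)
      rw [one_mul] at h
      rw [← h, ((cU u hu).2 z).eq, mul_inv_cancel_right] at sw
      exact c1 (inj c 0 0 1 (by simp [sw])), by simpa using ty.map π⟩ (syl27 f1 f2 f3 f4 f5 f6 f7)).iso
  rw [Nat.card_congr e.toEquiv, nat_card_alternatingGroup, Nat.card_fin]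
  exact Nat.mul_le_mul_left 20160 h4

theorem dec2 : P.r * P.r = 1 ∧ P.s * P.s = 1 ∧ P.r * P.s = P.s * P.r ∧ P.e1 * P.r = P.r * P.e1 ∧ P.e1 * P.s = P.s * P.e1 ∧
    P.t * P.r = P.r * P.t ∧ P.t * P.s = P.s * P.t ∧ P.e1 ^ 3 = 1 ∧ P.e1 ≠ 1 ∧ P.t * P.t = 1 ∧ P.t * P.e1 * P.t⁻¹ = P.e2 ∧
    P.t * P.y' = P.y' * P.t := by decide +kernel

end C1x

open C1x in
theorem c1Thm : C1Thm.{u} := by
  intro Y G _ _ ψ θ k F
  refine ⟨F, fun g0 gr gs => ?_⟩
  obtain ⟨k1, k2⟩ := F.ku Y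
  obtain ⟨φ, p1, p2, p3, p4, p5, p6⟩ := Y.s5
  obtain ⟨d1, d2, d3, d4, d5, d6, d7, d8, d9, e1, e2, e3⟩ := dec2
  obtain ⟨-, -, -, -, c5, c6, -⟩ := ku_dec
  have mD : ∀ {g}, g ∈ centralizer ({ψ P.r, ψ P.s} : Set G) ↔ g * ψ P.r = ψ P.r * g ∧ g * ψ P.s = ψ P.s * g := by
    simp [mem_centralizer_iff, eq_comm]
  have mC : ∀ {p}, p ∈ centralizer ({P.r, P.s} : Set A12) ↔ p * P.r = P.r * p ∧ p * P.s = P.s * p := by
    simp [mem_centralizer_iff, eq_comm]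
  generalize centralizer ({ψ P.r, ψ P.s} : Set G) = D at mD
  have cm : ∀ {a b}, ψ a * ψ b = ψ b * ψ a ↔ a * b = b * a := by simp only [← map_mul, F.inj.eq_iff, implies_true]
  have mk : ∀ {p}, p * P.r = P.r * p → p * P.s = P.s * p → ψ p ∈ D := fun h h' => mD.2 ⟨cm.2 h, cm.2 h'⟩
  have key : ∀ g ∈ D, g * ψ P.y' = ψ P.y' * g → ∃ p, g = k * ψ p * k⁻¹ ∧ p ^ 6 = 1 ∧ p * P.y = P.y * p ∧
      (p * P.e0 * p⁻¹ = P.e0 ∨ p * P.e0 * p⁻¹ = P.e0⁻¹) := fun g hg hy => by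
    have l : ∀ {a b}, k * a * k⁻¹ = b → g * b = b * g → k⁻¹ * g * k * a = a * (k⁻¹ * g * k) := by
      rintro a _ rfl h
      calc _ = k⁻¹ * (g * (k * a * k⁻¹)) * k := by group
        _ = _ := by rw [h]; group
    obtain ⟨p, hp⟩ := F.n3 (k⁻¹ * g * k) (by rw [l F.ky hy, mul_inv_cancel_right]; exact mem_zpowers _)
    have h1 := cm.1 (hp ▸ l F.ky hy)
    obtain ⟨h2, h3⟩ := Y.ce p (cm.1 (hp ▸ l k1 (mD.1 hg).1)) (cm.1 (hp ▸ l k2 (mD.1 hg).2)) h1
    exact ⟨p, by rw [hp]; group, h3, h1, h2⟩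
  have hc : Nat.card D ≤ 80640 := by
    refine card_le (r := ⟨_, mk rfl d3⟩) (s := ⟨_, mk d3.symm rfl⟩) (z := ⟨_, mk d4 d5⟩) (t := ⟨_, mk d6 d7⟩)
      (σ := (ψ.comp φ).codRestrict D fun b => mk (p1 b).1 (p1 b).2) ?_ ?_ (fun g => Subtype.ext (mD.1 g.2).1.symm)
      (fun g => Subtype.ext (mD.1 g.2).2.symm) ?_ (fun e => d9 (F.inj ((congrArg Subtype.val e).trans (map_one ψ).symm)))
      (fun b i j e h => p4 b i j e (F.inj (by simpa using congrArg Subtype.val h))) (fun b hb => ?_) (fun b hb => ?_)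
      (fun g h => ?_) ?_ ?_ ?_ (fun g h => ?_) fun g h => ?_
    · exact Subtype.ext (by simpa using congrArg ψ d1)
    · exact Subtype.ext (by simpa using congrArg ψ d2)
    · exact Subtype.ext (by simpa using congrArg ψ d8)
    · exact Subtype.ext (by simpa using congrArg ψ (p2 b hb))
    · exact Subtype.ext (by simpa using congrArg ψ (p3 b hb))
    · have h' : g.1 * ψ P.e1 * g.1⁻¹ = ψ P.e1 ∨ g.1 * ψ P.e1 * g.1⁻¹ = (ψ P.e1)⁻¹ :=
        h.imp (congrArg Subtype.val) (congrArg Subtype.val)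
      obtain ⟨p, hp⟩ := F.n1 g (by
        rcases h' with e | e <;> rw [e]
        exacts [mem_zpowers _, inv_mem (mem_zpowers _)])
      obtain ⟨b, i, j, e, rfl⟩ := p6 p (cm.1 (hp ▸ (mD.1 g.2).1)) (cm.1 (hp ▸ (mD.1 g.2).2))
        (h'.imp (fun e => F.inj (by simpa [hp] using e)) fun e => F.inj (by simpa [hp] using e))
      exact ⟨b, i, j, e, Subtype.ext (by simpa using hp.symm)⟩
    · exact Subtype.ext (by simpa using congrArg ψ e1)
    · exact Subtype.ext (by simpa [p5] using congrArg ψ e2)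
    · exact Subtype.ext (by simpa [p5, P.y'] using congrArg ψ e3)
    · have h' : g.1 * ψ P.e1 * g.1⁻¹ = ψ P.y' := by simpa [p5, P.y'] using congrArg Subtype.val h
      obtain ⟨-, -, -, -, -, -, b, b5, b1, sb⟩ := dec
      obtain ⟨p, hp, h6, -⟩ := key _ (mul_mem (mul_mem g.2 (mk (p1 b).1 (p1 b).2)) (inv_mem g.2)) (by
        rw [← h', conj_mul, conj_mul, cm.2 (mul_inv_eq_iff_eq_mul.1 (p2 b sb))])
      have := congrArg (· ^ 6) hp
      simp only [conj_pow, ← map_pow, h6, map_one, mul_one, mul_inv_cancel, conj_eq_one_iff] at this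
      rw [pow_succ, b5, one_mul] at this
      exact b1 (p4 b 0 0 0 (F.inj (by simpa using this)))
    · have h' : g.1 * ψ P.y' = ψ P.y' * g.1 := by simpa [p5, P.y'] using congrArg Subtype.val h.eq
      obtain ⟨p, hp, -, hy, he⟩ := key _ g.2 h'
      have q : g.1 * ψ P.e1 * g.1⁻¹ = (k * ψ (p * P.e0 * p⁻¹) * k⁻¹ * ψ P.y')⁻¹ := by
        rw [c5, map_inv, map_mul, ← F.ke, ← F.ky, hp, ← mul_inv_eq_iff_eq_mul.2 hy]
        simp only [map_mul, map_inv]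
        rw [mul_inv_eq_iff_eq_mul.2 (cm.2 hy)]
        nth_rewrite 2 [← mul_inv_eq_iff_eq_mul.2 (cm.2 hy)]
        group
      refine he.imp (fun e => Subtype.ext ?_) fun e => Subtype.ext ?_
      · show g.1 * ψ P.e1 * g.1⁻¹ = ψ P.e1
        rw [q, e, F.ke, c5, map_inv, map_mul]
      · show g.1 * ψ P.e1 * g.1⁻¹ = ψ (φ c)
        rw [q, e, p5, c6, map_inv, map_inv, map_mul, map_inv, ← F.ke, conj_inv]
  have hD : (centralizer ({P.r, P.s} : Set A12)).map ψ = D := eq_of_le_of_card_ge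
    (by rintro _ ⟨p, hp, rfl⟩; exact mk (mC.1 hp).1 (mC.1 hp).2) (by
      rw [card_map_of_injective F.inj]; exact hc.trans Y.cu)
  exact map_le_range ψ _ (hD ▸ mD.2 ⟨gr, gs⟩)

end CL.HN3
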